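import Mathlib

set_option autoImplicit false

/-!
# Subgroups generated by two involutions

Elementary facts about `Subgroup.closure {x, y}` when `x * x = 1` and `y * y = 1`,
written with `c = x * y`.
-/

namespace Cfsg.Agent.Helper4

variable {G : Type*} [Group G]

theorem sq_one_of_orderOf_two {x : G} (hx : orderOf x = 2) : x * x = 1 := by
  have := pow_orderOf_eq_one x
  rw [hx, pow_two] at this
  exact this

theorem ne_one_of_orderOf_two {x : G} (hx : orderOf x = 2) : x ≠ 1 := by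
  intro h
  rw [h, orderOf_one] at hx
  omega

theorem orderOf_two_of_sq_one {x : G} (hx : x * x = 1) (hx1 : x ≠ 1) : orderOf x = 2 :=
  orderOf_eq_prime (by rw [pow_two]; exact hx) hx1

theorem inv_eq_self_of_sq_one {x : G} (hx : x * x = 1) : x⁻¹ = x :=
  inv_eq_of_mul_eq_one_left hx

/-- `x` inverts `x * y`. -/
theorem invol_conj_mul {x y : G} (hx : x * x = 1) (hy : y * y = 1) :
    x * (x * y) * x⁻¹ = (x * y)⁻¹ := by
  rw [inv_eq_self_of_sq_one hx, mul_inv_rev, inv_eq_self_of_sq_one hx, inv_eq_self_of_sq_one hy,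
    ← mul_assoc, hx, one_mul]

/-- `x` inverts every power of `x * y`. -/
theorem invol_conj_zpow {x y : G} (hx : x * x = 1) (hy : y * y = 1) (k : ℤ) :
    x * (x * y) ^ k * x⁻¹ = (x * y) ^ (-k) := by
  rw [← conj_zpow, invol_conj_mul hx hy, inv_zpow, zpow_neg]

theorem invol_mul_zpow {x y : G} (hx : x * x = 1) (hy : y * y = 1) (k : ℤ) :
    (x * y) ^ k * x = x * (x * y) ^ (-k) := by
  have h := invol_conj_zpow hx hy (-k)
  rw [neg_neg] at h
  rw [← h]
  group

theorem invol_mul_zpow' {x y : G} (hx : x * x = 1) (hy : y * y = 1) (k : ℤ) :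
    x * (x * y) ^ k = (x * y) ^ (-k) * x := by
  rw [invol_mul_zpow hx hy, neg_neg]

/-- Elements of the subgroup generated by two involutions `x`, `y`: they are `c ^ k` or
`x * c ^ k` with `c = x * y`. -/
theorem mem_closure_pair {x y : G} (hx : x * x = 1) (hy : y * y = 1) (d : G)
    (hd : d ∈ Subgroup.closure ({x, y} : Set G)) :
    ∃ k : ℤ, d = (x * y) ^ k ∨ d = x * (x * y) ^ k := by
  induction hd using Subgroup.closure_induction with
  | mem z hz =>
    rcases hz with rfl | hz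
    · exact ⟨0, Or.inr (by simp)⟩
    · rw [Set.mem_singleton_iff] at hz
      subst hz
      exact ⟨1, Or.inr (by rw [zpow_one, ← mul_assoc, hx, one_mul])⟩
  | one => exact ⟨0, Or.inl (by simp)⟩
  | mul a b _ _ iha ihb =>
    obtain ⟨j, rfl | rfl⟩ := iha <;> obtain ⟨k, rfl | rfl⟩ := ihb
    · exact ⟨j + k, Or.inl (zpow_add _ _ _).symm⟩
    · refine ⟨-j + k, Or.inr ?_⟩
      rw [← mul_assoc, invol_mul_zpow hx hy, mul_assoc, ← zpow_add]
    · exact ⟨j + k, Or.inr (by rw [mul_assoc, ← zpow_add])⟩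
    · refine ⟨-j + k, Or.inl ?_⟩
      calc x * (x * y) ^ j * (x * (x * y) ^ k) = x * ((x * y) ^ j * x) * (x * y) ^ k := by group
        _ = x * (x * (x * y) ^ (-j)) * (x * y) ^ k := by rw [invol_mul_zpow hx hy]
        _ = (x * x) * ((x * y) ^ (-j) * (x * y) ^ k) := by group
        _ = (x * y) ^ (-j + k) := by rw [hx, one_mul, ← zpow_add]
  | inv a _ iha =>
    obtain ⟨j, rfl | rfl⟩ := iha
    · exact ⟨-j, Or.inl (zpow_neg _ _).symm⟩
    · refine ⟨j, Or.inr ?_⟩
      rw [mul_inv_rev, inv_eq_self_of_sq_one hx, ← zpow_neg, invol_mul_zpow hx hy, neg_neg]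

theorem mul_mem_closure_pair (x y : G) : x * y ∈ Subgroup.closure ({x, y} : Set G) :=
  Subgroup.mul_mem _ (Subgroup.subset_closure (by simp)) (Subgroup.subset_closure (by simp))

theorem zpow_mem_closure_pair (x y : G) (k : ℤ) :
    (x * y) ^ k ∈ Subgroup.closure ({x, y} : Set G) :=
  Subgroup.zpow_mem _ (mul_mem_closure_pair x y) k

/-- The conjugates of `x` under the subgroup generated by `x`, `y` are `c ^ (2k) * x`. -/
theorem conj_mem_closure_pair {x y : G} (hx : x * x = 1) (hy : y * y = 1) (d : G)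
    (hd : d ∈ Subgroup.closure ({x, y} : Set G)) :
    ∃ k : ℤ, d * x * d⁻¹ = (x * y) ^ (2 * k) * x := by
  obtain ⟨k, rfl | rfl⟩ := mem_closure_pair hx hy d hd
  · refine ⟨k, ?_⟩
    rw [mul_assoc, ← zpow_neg, invol_mul_zpow' hx hy, neg_neg, ← mul_assoc, ← zpow_add, two_mul]
  · refine ⟨-k, ?_⟩
    calc x * (x * y) ^ k * x * (x * (x * y) ^ k)⁻¹
        = x * ((x * y) ^ k * x) * ((x * y) ^ k)⁻¹ * x⁻¹ := by group
      _ = x * (x * (x * y) ^ (-k)) * ((x * y) ^ k)⁻¹ * x⁻¹ := by rw [invol_mul_zpow hx hy]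
      _ = (x * x) * ((x * y) ^ (-k) * (x * y) ^ (-k)) * x⁻¹ := by rw [zpow_neg]; group
      _ = (x * y) ^ (2 * -k) * x := by
          rw [hx, one_mul, ← zpow_add, inv_eq_self_of_sq_one hx, two_mul]

end Cfsg.Agent.Helper4
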