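import Mathlib
import Cfsg.Prelude.Def_Involutions
import Cfsg.Agent.Helper4.Dihedral

set_option autoImplicit false

/-!
# Strongly embedded subgroups: element-wise characterisation
-/

namespace Cfsg.Agent.Helper4

open Cfsg

/-- membership in `H ⊓ gHg⁻¹` -/
theorem mem_inf_conj {G : Type*} [Group G] (H : Subgroup G) (g w : G) :
    w ∈ H ⊓ H.map (MulAut.conj g).toMonoidHom ↔ w ∈ H ∧ g⁻¹ * w * g ∈ H := by
  rw [Subgroup.mem_inf, Subgroup.mem_map]
  constructor
  · rintro ⟨h1, y, hy, rfl⟩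
    refine ⟨h1, ?_⟩
    simp only [MulEquiv.coe_toMonoidHom, MulAut.conj_apply]
    have : g⁻¹ * (g * y * g⁻¹) * g = y := by group
    rw [this]; exact hy
  · rintro ⟨h1, h2⟩
    refine ⟨h1, g⁻¹ * w * g, h2, ?_⟩
    simp only [MulEquiv.coe_toMonoidHom, MulAut.conj_apply]
    group

/-- A subgroup of even order contains an involution; a subgroup containing an involution has even
order. -/
theorem even_card_iff_exists_invol {G : Type*} [Group G] [Finite G] (K : Subgroup G) :
    Even (Nat.card K) ↔ ∃ t ∈ K, orderOf t = 2 := by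
  have : Fact (Nat.Prime 2) := ⟨Nat.prime_two⟩
  constructor
  · intro h
    obtain ⟨t, ht⟩ := exists_prime_orderOf_dvd_card' 2 (even_iff_two_dvd.mp h)
    exact ⟨t.1, t.2, by rw [← ht, Subgroup.orderOf_coe]⟩
  · rintro ⟨t, htK, ht⟩
    rw [even_iff_two_dvd, ← ht, ← Subgroup.orderOf_mk t htK]
    exact orderOf_dvd_natCard _

/-- Strong embedding in element form. -/
theorem stronglyEmbedded_iff {G : Type*} [Group G] [Finite G] (H : Subgroup G) (hH : H ≠ ⊤)
    (heven : Even (Nat.card H)) :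
    IsStronglyEmbedded H ↔ ∀ g t : G, t ∈ H → orderOf t = 2 → g⁻¹ * t * g ∈ H → g ∈ H := by
  unfold IsStronglyEmbedded
  constructor
  · rintro ⟨-, -, h⟩ g t htH ht hgt
    by_contra hg
    have h1 := h g hg
    have h2 : Even (Nat.card ↥(H ⊓ H.map (MulAut.conj g).toMonoidHom)) := by
      rw [even_card_iff_exists_invol]
      exact ⟨t, (mem_inf_conj H g t).mpr ⟨htH, hgt⟩, ht⟩
    exact (Nat.not_even_iff_odd.mpr h1) h2
  · intro h
    refine ⟨hH, heven, ?_⟩
    intro g hg
    rw [← Nat.not_even_iff_odd, even_card_iff_exists_invol]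
    rintro ⟨t, htmem, ht⟩
    obtain ⟨h1, h2⟩ := (mem_inf_conj H g t).mp htmem
    exact hg (h g t h1 ht h2)

end Cfsg.Agent.Helper4
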