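-- helper4: pieces (GT1-a) and (GT1-b) of board post 5432 for helper82 (defect-one engine):
-- orbit-stabilizer bookkeeping for the action of `N = nor P` on `IrrCharacter (cen P)`.
import Mathlib
import Cfsg.Agent.Helper16.DefOneSetup

set_option autoImplicit false
set_option linter.unusedSectionVars false

namespace Cfsg.Agent.Helper4.DefOneGT1

open Cfsg Cfsg.Agent.Helper16 Cfsg.Agent.Helper16.DefOne

section abstract

variable {N X : Type*} [Group N] [Finite N] [MulAction N X]

/-- Orbit-stabilizer with `Nat.card`. -/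
theorem card_orbit_mul_card_stab (x : X) :
    Nat.card (MulAction.orbit N x) * Nat.card (MulAction.stabilizer N x) = Nat.card N := by
  have h1 := MulAction.index_stabilizer N x
  have h2 := Subgroup.card_mul_index (MulAction.stabilizer N x)
  rw [Nat.card_coe_set_eq, ← h1, mul_comm]
  exact h2

/-- The part of the fibre of an equivariant map `c` through `φ` lying in the orbit of `φ`, when
the stabilizer of `φ` is `C₀` and `C₀` fixes `c φ`: it has `|Stab (c φ)| / |C₀|` elements. -/
theorem card_fibre_orbit (C₀ : Subgroup N) (c : X → X) (hc : ∀ (n : N) (x : X), c (n • x) = n • c x)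
    (φ : X) (hstab : ∀ n : N, n • φ = φ ↔ n ∈ C₀) (hC₀ : ∀ n ∈ C₀, n • c φ = c φ) :
    Nat.card {ψ : X // c ψ = c φ ∧ ∃ n : N, n • ψ = φ} * Nat.card C₀ =
      Nat.card (MulAction.stabilizer N (c φ)) := by
  have hC₀S : ∀ k ∈ C₀, k ∈ MulAction.stabilizer N (c φ) := fun k hk =>
    MulAction.mem_stabilizer_iff.mpr (hC₀ k hk)
  have hset : {ψ : X | c ψ = c φ ∧ ∃ n : N, n • ψ = φ} =
      MulAction.orbit ↥(MulAction.stabilizer N (c φ)) φ := by
    ext ψ
    constructor
    · rintro ⟨h1, n, h2⟩
      have hn : n ∈ MulAction.stabilizer N (c φ) := by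
        rw [MulAction.mem_stabilizer_iff]
        have h3 : c φ = n • c φ := by
          conv_lhs => rw [← h2, hc, h1]
        exact h3.symm
      refine ⟨⟨n⁻¹, inv_mem hn⟩, ?_⟩
      show (n⁻¹ : N) • φ = ψ
      rw [← h2, inv_smul_smul]
    · rintro ⟨s, rfl⟩
      refine ⟨?_, (s : N)⁻¹, ?_⟩
      · show c ((s : N) • φ) = c φ
        rw [hc]
        exact s.2
      · show (s : N)⁻¹ • ((s : N) • φ) = φ
        rw [inv_smul_smul]
  have hstabS : Nat.card (MulAction.stabilizer ↥(MulAction.stabilizer N (c φ)) φ) =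
      Nat.card C₀ := by
    apply Nat.card_congr
    exact
      { toFun := fun s => ⟨((s : ↥(MulAction.stabilizer N (c φ))) : N), (hstab _).mp s.2⟩
        invFun := fun k => ⟨⟨(k : N), hC₀S k k.2⟩, (hstab _).mpr k.2⟩
        left_inv := fun _ => rfl
        right_inv := fun _ => rfl }
  have h1 := card_orbit_mul_card_stab (N := ↥(MulAction.stabilizer N (c φ))) φ
  have h2 : Nat.card {ψ : X // c ψ = c φ ∧ ∃ n : N, n • ψ = φ} =
      Nat.card ↥(MulAction.orbit ↥(MulAction.stabilizer N (c φ)) φ) := by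
    rw [← hset]
    rfl
  rw [h2, ← hstabS]
  exact h1

end abstract

universe u

variable {G : Type u} [Group G] [Fintype G] {p : ℕ} [Fact p.Prime] (P : Sylow p G)

/-- `C = cen P` inside `N = nor P` has as many elements as `C`. -/
theorem card_subgroupOf_cen_nor :
    Nat.card ((cen P).subgroupOf (nor P)) = Nat.card (cen P) :=
  Nat.card_congr (Subgroup.subgroupOfEquivOfLe (Subgroup.le_normalizer)).toEquiv

theorem subgroupOf_le_stabilizer
    (hC : ∀ (n : nor P) (θ : IrrCharacter (cen P)), (n : G) ∈ cen P → n • θ = θ)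
    (θ : IrrCharacter (cen P)) :
    (cen P).subgroupOf (nor P) ≤ MulAction.stabilizer (nor P) θ := by
  intro n hn
  rw [MulAction.mem_stabilizer_iff]
  exact hC n θ (Subgroup.mem_subgroupOf.mp hn)

/-- **(GT1-a)** -/
theorem card_stabilizer'
    (hC : ∀ (n : nor P) (θ : IrrCharacter (cen P)), (n : G) ∈ cen P → n • θ = θ)
    (θ : IrrCharacter (cen P)) :
    Nat.card (MulAction.stabilizer (nor P) θ) = inertia P θ * Nat.card (cen P) := by
  have hd : Nat.card (cen P) ∣ Nat.card (MulAction.stabilizer (nor P) θ) := by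
    rw [← card_subgroupOf_cen_nor P]
    exact Subgroup.card_dvd_of_le (subgroupOf_le_stabilizer P hC θ)
  unfold inertia
  rw [Nat.div_mul_cancel hd]

/-- **(GT1-a)** -/
theorem inertia_pos'
    (hC : ∀ (n : nor P) (θ : IrrCharacter (cen P)), (n : G) ∈ cen P → n • θ = θ)
    (θ : IrrCharacter (cen P)) : 0 < inertia P θ := by
  have h := card_stabilizer' P hC θ
  have h1 : 0 < Nat.card (MulAction.stabilizer (nor P) θ) := Nat.card_pos
  rw [h] at h1
  exact Nat.pos_of_mul_pos_right h1

/-- **(GT1-a)** -/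
theorem inertia_dvd'
    (hC : ∀ (n : nor P) (θ : IrrCharacter (cen P)), (n : G) ∈ cen P → n • θ = θ)
    (θ : IrrCharacter (cen P)) : inertia P θ ∣ (cen P).relIndex (nor P) := by
  have h := card_stabilizer' P hC θ
  have h1 : Nat.card (MulAction.stabilizer (nor P) θ) ∣ Nat.card (nor P) :=
    Subgroup.card_subgroup_dvd_card _
  have h2 := Subgroup.card_mul_index ((cen P).subgroupOf (nor P))
  rw [card_subgroupOf_cen_nor P] at h2
  have h3 : (cen P).relIndex (nor P) = ((cen P).subgroupOf (nor P)).index := rfl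
  rw [h, ← h2, ← h3, mul_comm] at h1
  exact Nat.dvd_of_mul_dvd_mul_left Nat.card_pos h1

/-- **(GT1-a)** -/
theorem inertia_smul' (n : nor P) (θ : IrrCharacter (cen P)) :
    inertia P (n • θ) = inertia P θ := by
  unfold inertia
  rw [MulAction.stabilizer_smul_eq_stabilizer_map_conj,
    Subgroup.card_map_of_injective (MulAut.conj n).injective]

/-- **(GT1-a)** the orbit of `θ` has `f / e_θ` elements -/
theorem card_orbit_mul_inertia'
    (hC : ∀ (n : nor P) (θ : IrrCharacter (cen P)), (n : G) ∈ cen P → n • θ = θ)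
    (θ : IrrCharacter (cen P)) :
    Nat.card (MulAction.orbit (nor P) θ) * inertia P θ = (cen P).relIndex (nor P) := by
  have h := card_stabilizer' P hC θ
  have h1 := card_orbit_mul_card_stab (N := ↥(nor P)) θ
  have h2 := Subgroup.card_mul_index ((cen P).subgroupOf (nor P))
  rw [card_subgroupOf_cen_nor P] at h2
  have h3 : (cen P).relIndex (nor P) = ((cen P).subgroupOf (nor P)).index := rfl
  have hpos : 0 < Nat.card (cen P) := Nat.card_pos
  apply Nat.eq_of_mul_eq_mul_right hpos
  rw [mul_assoc, ← h, h1, ← h2, h3, mul_comm]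

/-- **(GT1-b)** -/
theorem card_orbit_in_fibre'
    (hcan : ∀ (n : nor P) (ψ : IrrCharacter (cen P)), can P (n • ψ) = n • can P ψ)
    (hfree : ∀ (n : nor P) (ψ : IrrCharacter (cen P)), ¬ IsCanon P ψ → n • ψ = ψ →
      (n : G) ∈ cen P)
    (hC : ∀ (n : nor P) (θ : IrrCharacter (cen P)), (n : G) ∈ cen P → n • θ = θ)
    (φ : IrrCharacter (cen P)) (hφ : ¬ IsCanon P φ) :
    Nat.card {ψ : IrrCharacter (cen P) // can P ψ = can P φ ∧ ∃ n : nor P, n • ψ = φ} =
      inertia P (can P φ) := by
  have key := card_fibre_orbit (N := ↥(nor P)) (X := IrrCharacter ↥(cen P))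
    ((cen P).subgroupOf (nor P)) (can P) hcan φ
    (fun n => ⟨fun h => Subgroup.mem_subgroupOf.mpr (hfree n φ hφ h),
      fun h => hC n φ (Subgroup.mem_subgroupOf.mp h)⟩)
    (fun n hn => hC n _ (Subgroup.mem_subgroupOf.mp hn))
  rw [card_stabilizer' P hC, card_subgroupOf_cen_nor P] at key
  exact Nat.eq_of_mul_eq_mul_right Nat.card_pos key

end Cfsg.Agent.Helper4.DefOneGT1
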