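import Mathlib

set_option autoImplicit false

namespace Cfsg.Agent.Helper4

section Mat2

variable {F : Type*} [Field F]

omit [Field F] in
theorem mat2_ext {x y : Matrix (Fin 2) (Fin 2) F} (h00 : x 0 0 = y 0 0) (h01 : x 0 1 = y 0 1)
    (h10 : x 1 0 = y 1 0) (h11 : x 1 1 = y 1 1) : x = y := by
  ext i j
  fin_cases i <;> fin_cases j
  · exact h00
  · exact h01
  · exact h10
  · exact h11

/-- the commutant of a non-scalar `2 × 2` matrix `g` is spanned by `1` and `g` -/
theorem exists_eq_smul_add_of_commute (g x : Matrix (Fin 2) (Fin 2) F)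
    (hns : g 0 1 ≠ 0 ∨ g 1 0 ≠ 0 ∨ g 0 0 ≠ g 1 1) (h : x * g = g * x) :
    ∃ α β : F, x = α • (1 : Matrix (Fin 2) (Fin 2) F) + β • g := by
  have h00 := congrFun (congrFun h 0) 0
  have h01 := congrFun (congrFun h 0) 1
  have h10 := congrFun (congrFun h 1) 0
  have h11 := congrFun (congrFun h 1) 1
  simp only [Matrix.mul_apply, Fin.sum_univ_two] at h00 h01 h10 h11
  rcases hns with hb | hc | had
  · refine ⟨x 0 0 - x 0 1 / g 0 1 * g 0 0, x 0 1 / g 0 1, ?_⟩
    apply mat2_ext <;>
      simp only [Fin.isValue, Matrix.add_apply, Matrix.smul_apply,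
        Matrix.one_apply_eq, Matrix.one_apply_ne, ne_eq, zero_ne_one, one_ne_zero,
        not_false_eq_true, smul_eq_mul, mul_one, mul_zero, zero_add]
    · ring
    · field_simp
    · field_simp
      linear_combination -h00
    · field_simp
      linear_combination -h01
  · refine ⟨x 0 0 - x 1 0 / g 1 0 * g 0 0, x 1 0 / g 1 0, ?_⟩
    apply mat2_ext <;>
      simp only [Fin.isValue, Matrix.add_apply, Matrix.smul_apply,
        Matrix.one_apply_eq, Matrix.one_apply_ne, ne_eq, zero_ne_one, one_ne_zero,
        not_false_eq_true, smul_eq_mul, mul_one, mul_zero, zero_add]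
    · ring
    · field_simp
      linear_combination h00
    · field_simp
    · field_simp
      linear_combination h10
  · have had' : g 0 0 - g 1 1 ≠ 0 := sub_ne_zero.mpr had
    refine ⟨x 0 0 - (x 0 0 - x 1 1) / (g 0 0 - g 1 1) * g 0 0,
      (x 0 0 - x 1 1) / (g 0 0 - g 1 1), ?_⟩
    apply mat2_ext <;>
      simp only [Fin.isValue, Matrix.add_apply, Matrix.smul_apply,
        Matrix.one_apply_eq, Matrix.one_apply_ne, ne_eq, zero_ne_one, one_ne_zero,
        not_false_eq_true, smul_eq_mul, mul_one, mul_zero, zero_add]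
    · ring
    · field_simp
      linear_combination -h01
    · field_simp
      linear_combination h10
    · field_simp
      ring


/-- two matrices commuting with a non-scalar `2 × 2` matrix commute -/
theorem commute_of_commute_nonscalar (g x y : Matrix (Fin 2) (Fin 2) F)
    (hns : g 0 1 ≠ 0 ∨ g 1 0 ≠ 0 ∨ g 0 0 ≠ g 1 1) (hx : x * g = g * x) (hy : y * g = g * y) :
    x * y = y * x := by
  obtain ⟨α, β, rfl⟩ := exists_eq_smul_add_of_commute g x hns hx
  obtain ⟨α', β', rfl⟩ := exists_eq_smul_add_of_commute g y hns hy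
  have h : Commute (α • (1 : Matrix (Fin 2) (Fin 2) F) + β • g) (α' • 1 + β' • g) := by
    apply Commute.add_left
    · exact (Commute.one_left _).smul_left α
    · apply Commute.add_right
      · exact ((Commute.one_right g).smul_right α').smul_left β
      · exact ((Commute.refl g).smul_right β').smul_left β
  exact h

/-- a `2 × 2` matrix of determinant one whose trace squared is not `4` is not scalar -/
theorem nonscalar_of_trace_sq_ne_four (s : Matrix (Fin 2) (Fin 2) F) (hdet : s.det = 1)
    (htr : s.trace ^ 2 ≠ 4) : s 0 1 ≠ 0 ∨ s 1 0 ≠ 0 ∨ s 0 0 ≠ s 1 1 := by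
  by_contra hcon
  push Not at hcon
  obtain ⟨h1, h2, h3⟩ := hcon
  apply htr
  rw [Matrix.det_fin_two, h1, h3] at hdet
  rw [Matrix.trace_fin_two, h3]
  linear_combination 4 * hdet

/-- commuting matrices of determinant one with the same trace `τ`, `τ² ≠ 4`, are equal or
inverse to each other -/
theorem eq_or_mul_eq_one_of_commute_of_trace_eq (h2 : (2 : F) ≠ 0)
    (s s' : Matrix (Fin 2) (Fin 2) F) (hdet : s.det = 1) (hdet' : s'.det = 1)
    (hc : s' * s = s * s') (htr' : s'.trace = s.trace) (htr : s.trace ^ 2 ≠ 4) :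
    s' = s ∨ s' * s = 1 := by
  have hns := nonscalar_of_trace_sq_ne_four s hdet htr
  obtain ⟨α, β, hs'⟩ := exists_eq_smul_add_of_commute s s' hns hc
  have e00 : s' 0 0 = α + β * s 0 0 := by rw [hs']; simp
  have e01 : s' 0 1 = β * s 0 1 := by rw [hs']; simp
  have e10 : s' 1 0 = β * s 1 0 := by rw [hs']; simp
  have e11 : s' 1 1 = α + β * s 1 1 := by rw [hs']; simp
  rw [Matrix.det_fin_two] at hdet hdet'
  rw [Matrix.trace_fin_two, Matrix.trace_fin_two] at htr'
  rw [Matrix.trace_fin_two] at htr
  rw [e00, e01, e10, e11] at hdet'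
  rw [e00, e11] at htr'
  set a := s 0 0
  set b := s 0 1
  set c := s 1 0
  set d := s 1 1
  -- `2 α = (a + d) (1 - β)`
  have hα : 2 * α = (a + d) * (1 - β) := by linear_combination htr'
  have hβ : (1 - β ^ 2) * ((a + d) ^ 2 - 4) = 0 := by
    have : 4 * ((α + β * a) * (α + β * d) - β * b * (β * c)) = 4 := by rw [hdet']; ring
    have h4 : (2 * α) ^ 2 + 2 * (2 * α) * β * (a + d) + 4 * β ^ 2 * (a * d - b * c) = 4 := by
      linear_combination this
    rw [hα, hdet] at h4
    linear_combination h4
  have hβ2 : β ^ 2 = 1 := by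
    rcases mul_eq_zero.mp hβ with h | h
    · linear_combination -h
    · exact absurd (by linear_combination h) htr
  have hβ' : β = 1 ∨ β = -1 := by
    have : (β - 1) * (β + 1) = 0 := by linear_combination hβ2
    rcases mul_eq_zero.mp this with h | h
    · left; linear_combination h
    · right; linear_combination h
  rcases hβ' with h | h
  · left
    have hα0 : α = 0 := by
      have : 2 * α = 0 := by rw [hα, h]; ring
      rcases mul_eq_zero.mp this with h' | h'
      · exact absurd h' h2
      · exact h'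
    rw [hs', hα0, h]; simp
  · right
    have hατ : α = a + d := by
      have : 2 * (α - (a + d)) = 0 := by rw [mul_sub, hα, h]; ring
      rcases mul_eq_zero.mp this with h' | h'
      · exact absurd h' h2
      · linear_combination h'
    apply mat2_ext
    · simp only [Matrix.mul_apply, Fin.sum_univ_two, Matrix.one_apply_eq]
      rw [e00, e01, h, hατ]
      linear_combination hdet
    · simp only [Matrix.mul_apply, Fin.sum_univ_two, ne_eq, zero_ne_one, not_false_eq_true,
        Matrix.one_apply_ne]
      rw [e00, e01, h, hατ]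
      ring
    · simp only [Matrix.mul_apply, Fin.sum_univ_two, ne_eq, one_ne_zero, not_false_eq_true,
        Matrix.one_apply_ne]
      rw [e10, e11, h, hατ]
      ring
    · simp only [Matrix.mul_apply, Fin.sum_univ_two, Matrix.one_apply_eq]
      rw [e10, e11, h, hατ]
      linear_combination hdet

/-- a `2 × 2` matrix of determinant one and trace `2ε`, `ε² = 1`, satisfies `(g - ε)² = 0` -/
theorem sub_sq_eq_zero_of_trace (g : Matrix (Fin 2) (Fin 2) F) (ε : F) (hε : ε ^ 2 = 1)
    (hdet : g.det = 1) (htr : g.trace = 2 * ε) :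
    (g - ε • (1 : Matrix (Fin 2) (Fin 2) F)) * (g - ε • (1 : Matrix (Fin 2) (Fin 2) F)) = 0 := by
  rw [Matrix.det_fin_two] at hdet
  rw [Matrix.trace_fin_two] at htr
  have hd : g 1 1 = 2 * ε - g 0 0 := by linear_combination htr
  apply mat2_ext <;>
    simp only [Matrix.mul_apply, Fin.sum_univ_two, Matrix.sub_apply, Matrix.smul_apply,
      Matrix.one_apply_eq, Matrix.one_apply_ne, ne_eq, zero_ne_one, one_ne_zero,
      not_false_eq_true, smul_eq_mul, mul_one, mul_zero, sub_zero, Matrix.zero_apply]
  · rw [hd] at hdet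
    linear_combination -hdet + hε
  · rw [hd]; ring
  · rw [hd]; ring
  · rw [hd] at hdet ⊢
    linear_combination -hdet + hε

theorem pow_char_of_trace (p : ℕ) [Fact p.Prime] [CharP F p]
    (g : Matrix (Fin 2) (Fin 2) F) (ε : F) (hε : ε ^ 2 = 1)
    (hdet : g.det = 1) (htr : g.trace = 2 * ε) :
    g ^ p = (ε ^ p) • (1 : Matrix (Fin 2) (Fin 2) F) := by
  have hp : p.Prime := Fact.out
  have hN := sub_sq_eq_zero_of_trace g ε hε hdet htr
  set N := g - ε • (1 : Matrix (Fin 2) (Fin 2) F) with hNdef
  have hg : g = N + ε • (1 : Matrix (Fin 2) (Fin 2) F) := by rw [hNdef]; abel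
  have hcomm : Commute N (ε • (1 : Matrix (Fin 2) (Fin 2) F)) :=
    (Commute.one_right N).smul_right ε
  rw [hg, add_pow_char_of_commute (R := Matrix (Fin 2) (Fin 2) F) (p := p) hcomm]
  have hNp : N ^ p = 0 := by
    have h2 : 2 ≤ p := hp.two_le
    obtain ⟨k, hk⟩ : ∃ k, p = 2 + k := ⟨p - 2, by omega⟩
    rw [hk, pow_add, pow_two, hN, zero_mul]
  rw [hNp, zero_add, smul_pow, one_pow]

theorem mat2_cayley_hamilton (N : Matrix (Fin 2) (Fin 2) F) :
    N * N = N.trace • N - N.det • (1 : Matrix (Fin 2) (Fin 2) F) := by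
  apply mat2_ext <;>
    simp only [Matrix.mul_apply, Fin.sum_univ_two, Matrix.sub_apply, Matrix.smul_apply,
      Matrix.one_apply_eq, Matrix.one_apply_ne, ne_eq, zero_ne_one, one_ne_zero,
      not_false_eq_true, smul_eq_mul, mul_one, mul_zero, sub_zero, Matrix.trace_fin_two,
      Matrix.det_fin_two] <;> ring

/-- a nilpotent `2 × 2` matrix over a field squares to zero -/
theorem sq_eq_zero_of_pow_eq_zero (N : Matrix (Fin 2) (Fin 2) F) (m : ℕ) (h : N ^ m = 0) :
    N * N = 0 := by
  have hdet : N.det = 0 := by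
    have h1 : (N ^ m).det = 0 := by rw [h]; simp
    rw [Matrix.det_pow] at h1
    exact pow_eq_zero_iff (by
      rintro rfl
      rw [pow_zero] at h
      exact one_ne_zero h) |>.mp h1
  have hsq : N * N = N.trace • N := by
    rw [mat2_cayley_hamilton, hdet, zero_smul, sub_zero]
  have hpow : ∀ k : ℕ, N ^ (k + 1) = N.trace ^ k • N := by
    intro k
    induction k with
    | zero => simp
    | succ k ih =>
      rw [pow_succ, ih, smul_mul_assoc, hsq, smul_smul, pow_succ]
  rcases Nat.eq_zero_or_pos m with h0 | h0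
  · rw [h0, pow_zero] at h
    exact absurd h one_ne_zero
  · obtain ⟨k, rfl⟩ : ∃ k, m = k + 1 := ⟨m - 1, by omega⟩
    rw [hpow] at h
    rcases smul_eq_zero.mp h with h' | h'
    · rcases Nat.eq_zero_or_pos k with hk | hk
      · rw [hk, pow_zero] at h'
        exact absurd h' one_ne_zero
      · have : N.trace = 0 := pow_eq_zero_iff (by omega) |>.mp h'
        rw [hsq, this, zero_smul]
    · rw [h', mul_zero]

end Mat2



end Cfsg.Agent.Helper4
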