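import Mathlib

set_option autoImplicit false

namespace Cfsg.Agent.Helper4

section CACount

variable {K : Type*} [Group K]

/-- nonidentity elements of `K` conjugate into `A` -/
def conjUnion (A : Subgroup K) : Set K := {y | y ≠ 1 ∧ ∃ k : K, k⁻¹ * y * k ∈ A}

theorem one_notMem_conjUnion (A : Subgroup K) : (1 : K) ∉ conjUnion A := fun h => h.1 rfl

theorem card_ne_one_of_subgroup [Finite K] (H : Subgroup K) :
    Nat.card {x : K // x ∈ H ∧ x ≠ 1} = Nat.card H - 1 := by
  have h1 : {x : K | x ∈ H ∧ x ≠ 1} = (H : Set K) \ {1} := by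
    ext x; simp
  have : Nat.card {x : K // x ∈ H ∧ x ≠ 1} = ({x : K | x ∈ H ∧ x ≠ 1}).ncard :=
    Nat.card_coe_set_eq _
  rw [this, h1, Set.ncard_sdiff_singleton_of_mem (show (1 : K) ∈ (H : Set K) from H.one_mem)]
  rw [← Nat.card_coe_set_eq]
  rfl

theorem conj_ne_one {k x : K} (hx : x ≠ 1) : k * x * k⁻¹ ≠ 1 := by
  intro h
  apply hx
  have : x = k⁻¹ * (k * x * k⁻¹) * k := by group
  rw [this, h]; group

/-- counting the nonidentity elements in the conjugates of a TI subgroup -/
theorem card_conjUnion [Finite K] (A N : Subgroup K) (hN : N ≤ Subgroup.normalizer (A : Set K))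
    (hTI : ∀ k : K, ∀ x ∈ A, x ≠ 1 → k⁻¹ * x * k ∈ A → k ∈ N) :
    (conjUnion A).ncard = N.index * (Nat.card A - 1) := by
  rw [← card_ne_one_of_subgroup, Subgroup.index_eq_card, ← Nat.card_prod, ← Nat.card_coe_set_eq]
  symm
  let φ : (K ⧸ N) × {x : K // x ∈ A ∧ x ≠ 1} → ↥(conjUnion A) :=
    fun qx => ⟨qx.1.out * qx.2.1 * qx.1.out⁻¹, by
      obtain ⟨hxA, hx1⟩ := qx.2.2
      refine ⟨conj_ne_one hx1, qx.1.out, ?_⟩
      have : qx.1.out⁻¹ * (qx.1.out * qx.2.1 * qx.1.out⁻¹) * qx.1.out = qx.2.1 := by group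
      rw [this]; exact hxA⟩
  apply Nat.card_eq_of_bijective φ
  constructor
  · rintro ⟨q, ⟨x, hxA, hx1⟩⟩ ⟨q', ⟨x', hx'A, hx'1⟩⟩ h
    have h' : q.out * x * q.out⁻¹ = q'.out * x' * q'.out⁻¹ := congrArg Subtype.val h
    have hk : q.out⁻¹ * q'.out ∈ N := by
      apply hTI (q.out⁻¹ * q'.out) x hxA hx1
      have : (q.out⁻¹ * q'.out)⁻¹ * x * (q.out⁻¹ * q'.out)
          = q'.out⁻¹ * (q.out * x * q.out⁻¹) * q'.out := by group
      rw [this, h']
      have : q'.out⁻¹ * (q'.out * x' * q'.out⁻¹) * q'.out = x' := by group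
      rw [this]; exact hx'A
    have hq : q = q' := by
      rw [← QuotientGroup.out_eq' q, ← QuotientGroup.out_eq' q']
      exact QuotientGroup.eq.mpr hk
    subst hq
    have hxx : x = x' := by
      have e1 : x = q.out⁻¹ * (q.out * x * q.out⁻¹) * q.out := by group
      have e2 : x' = q.out⁻¹ * (q.out * x' * q.out⁻¹) * q.out := by group
      rw [e1, e2, h']
    subst hxx
    rfl
  · rintro ⟨y, hy1, g, hg⟩
    obtain ⟨r, hr⟩ := QuotientGroup.mk_out_eq_mul N g
    set q : K ⧸ N := (g : K ⧸ N) with hq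
    have hqout : q.out = g * r := hr
    set x := (r : K)⁻¹ * (g⁻¹ * y * g) * r with hx
    have hxA : x ∈ A := by
      have hr' : (r : K)⁻¹ ∈ Subgroup.normalizer (A : Set K) := hN (N.inv_mem r.2)
      have := (Subgroup.mem_normalizer_iff.mp hr' (g⁻¹ * y * g)).mp hg
      simpa [hx] using this
    have hxeq : x = q.out⁻¹ * y * q.out := by rw [hqout, hx]; group
    have hx1 : x ≠ 1 := by
      intro hh
      apply hy1
      have : y = q.out * x * q.out⁻¹ := by rw [hxeq]; group
      rw [this, hh]; group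
    refine ⟨(q, ⟨x, hxA, hx1⟩), ?_⟩
    apply Subtype.ext
    show q.out * x * q.out⁻¹ = y
    rw [hxeq]; group

theorem card_conjUnion_add [Finite K] (A N : Subgroup K) (hN : N ≤ Subgroup.normalizer (A : Set K))
    (hTI : ∀ k : K, ∀ x ∈ A, x ≠ 1 → k⁻¹ * x * k ∈ A → k ∈ N) :
    (conjUnion A).ncard + N.index = N.index * Nat.card A := by
  rw [card_conjUnion A N hN hTI]
  have hpos : 0 < Nat.card A := Nat.card_pos
  obtain ⟨a, ha⟩ : ∃ a, Nat.card A = a + 1 := ⟨Nat.card A - 1, by omega⟩
  rw [ha]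
  simp only [Nat.add_sub_cancel]
  ring


theorem commute_conj_iff {k x y : K} : Commute (k * y * k⁻¹) (k * x * k⁻¹) ↔ Commute y x := by
  constructor
  · intro h
    have h1 : k * y * k⁻¹ * (k * x * k⁻¹) = k * x * k⁻¹ * (k * y * k⁻¹) := h
    have h2 : k⁻¹ * (k * y * k⁻¹ * (k * x * k⁻¹)) * k = y * x := by group
    have h3 : k⁻¹ * (k * x * k⁻¹ * (k * y * k⁻¹)) * k = x * y := by group
    show y * x = x * y
    rw [← h2, ← h3, h1]
  · intro h
    have h1 : y * x = x * y := h
    show k * y * k⁻¹ * (k * x * k⁻¹) = k * x * k⁻¹ * (k * y * k⁻¹)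
    have h2 : k * y * k⁻¹ * (k * x * k⁻¹) = k * (y * x) * k⁻¹ := by group
    have h3 : k * x * k⁻¹ * (k * y * k⁻¹) = k * (x * y) * k⁻¹ := by group
    rw [h2, h3, h1]

theorem three_le_card_of_odd [Finite K] (hodd : Odd (Nat.card K)) (H : Subgroup K) (hH : H ≠ ⊥) :
    3 ≤ Nat.card H := by
  have hd : Nat.card H ∣ Nat.card K := Subgroup.card_subgroup_dvd_card H
  have ho : Odd (Nat.card H) := by
    obtain ⟨m, hm⟩ := hd
    rw [hm] at hodd
    exact (Nat.odd_mul.mp hodd).1
  have h1 : Nat.card H ≠ 1 := fun h => hH (Subgroup.card_eq_one.mp h)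
  have hpos : 0 < Nat.card H := Nat.card_pos
  obtain ⟨m, hm⟩ := ho
  omega

/-- The counting argument: a finite group of odd order in which centralizers of nonidentity
elements are abelian, the centralizers of non-`p`-elements are self-normalizing, and a nontrivial
`p`-subgroup `P` which is the centralizer of each of its nonidentity elements has cyclic
`N(P)/P`, has `P` normal. -/
theorem normalizer_eq_top_of_ca_counting [Finite K] (hodd : Odd (Nat.card K)) (p : ℕ) [Fact p.Prime]
    (H1 : ∀ g : K, g ≠ 1 → ∀ x y : K, Commute x g → Commute y g → Commute x y)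
    (P : Subgroup K) (hP1 : P ≠ ⊥) (hPp : IsPGroup p P)
    (H2 : ∀ x ∈ P, x ≠ 1 → ∀ y : K, Commute y x ↔ y ∈ P)
    (H3 : ∃ t ∈ Subgroup.normalizer (P : Set K),
      P.relIndex (Subgroup.normalizer (P : Set K)) ∣ orderOf t)
    (H4 : ∀ g : K, g ^ p ≠ 1 → ∀ y : K,
      (∀ x, Commute x g → Commute (y * x * y⁻¹) g) → Commute y g) :
    Subgroup.normalizer (P : Set K) = ⊤ := by
  classical
  have hp : p.Prime := Fact.out
  have memC : ∀ g x : K, x ∈ Subgroup.centralizer {g} ↔ Commute x g :=
    fun g x => Subgroup.mem_centralizer_singleton_iff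
  have K1 : ∀ g : K, g ≠ 1 → ∀ y, Commute y g → y ≠ 1 → ∀ x, Commute x y ↔ Commute x g := by
    intro g hg y hyg hy x
    constructor
    · intro hxy
      exact H1 y hy x g hxy hyg.symm
    · intro hxg
      exact H1 g hg x y hxg hyg
  -- `P` is a TI subgroup
  have K3 : ∀ k : K, ∀ x ∈ P, x ≠ 1 → k⁻¹ * x * k ∈ P →
      k ∈ Subgroup.normalizer (P : Set K) := by
    intro k x hx hx1 hx'
    rw [Subgroup.mem_normalizer_iff]
    intro y
    have hx'1 : k⁻¹ * x * k ≠ 1 := by
      have := conj_ne_one (k := k⁻¹) hx1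
      simpa using this
    rw [← H2 _ hx' hx'1 y, ← H2 x hx hx1 (k * y * k⁻¹)]
    have : x = k * (k⁻¹ * x * k) * k⁻¹ := by group
    conv_rhs => rw [this]
    exact commute_conj_iff.symm
  obtain ⟨x₀, hx₀1⟩ := (Subgroup.ne_bot_iff_exists_ne_one.mp hP1)
  -- `P` is a Sylow subgroup
  have K4 : ∀ Q : Subgroup K, IsPGroup p Q → P ≤ Q → Q = P := by
    intro Q hQ hPQ
    apply le_antisymm _ hPQ
    have : Nontrivial Q := ⟨⟨⟨x₀, hPQ x₀.2⟩, 1, fun h => hx₀1 (by
      have := congrArg Subtype.val h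
      exact Subtype.ext this)⟩⟩
    have hnt : Nontrivial (Subgroup.center Q) := hQ.center_nontrivial
    obtain ⟨z, hz1⟩ := exists_ne (1 : Subgroup.center Q)
    have hzc : ∀ y : Q, Commute (y : K) ((z : Q) : K) := by
      intro y
      have := Subgroup.mem_center_iff.mp z.2 y
      have h2 := congrArg (Subtype.val : Q → K) this
      exact h2
    have hzK1 : ((z : Q) : K) ≠ 1 := by
      intro h
      apply hz1
      apply Subtype.ext
      apply Subtype.ext
      exact h
    have hzP : ((z : Q) : K) ∈ P := by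
      have h1 := hzc ⟨x₀, hPQ x₀.2⟩
      exact (H2 x₀ x₀.2 (fun h => hx₀1 (Subtype.ext h)) _).mp h1.symm
    intro y hy
    exact (H2 _ hzP hzK1 y).mp (hzc ⟨y, hy⟩)
  let S₀ : Sylow p K := ⟨P, hPp, fun hQ hPQ => K4 _ hQ hPQ⟩
  -- a nonidentity element which is not conjugate into `P` is not of order `p`
  have K5 : ∀ g : K, g ≠ 1 → g ∉ conjUnion P → g ^ p ≠ 1 := by
    intro g hg1 hgU hgp
    apply hgU
    refine ⟨hg1, ?_⟩
    have hZ : IsPGroup p (Subgroup.zpowers g) := by
      rintro ⟨y, hy⟩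
      obtain ⟨i, rfl⟩ := Subgroup.mem_zpowers_iff.mp hy
      refine ⟨1, ?_⟩
      apply Subtype.ext
      simp only [pow_one, Subgroup.coe_pow, Subgroup.coe_one]
      rw [← zpow_natCast, ← zpow_mul, mul_comm, zpow_mul, zpow_natCast, hgp, one_zpow]
    obtain ⟨S, hS⟩ := hZ.exists_le_sylow
    obtain ⟨k, hk⟩ := MulAction.exists_smul_eq K S S₀
    refine ⟨k⁻¹, ?_⟩
    have hgS : g ∈ (S : Subgroup K) := hS (Subgroup.mem_zpowers g)
    have h1 : k * g * k⁻¹ ∈ ((k • S : Sylow p K) : Subgroup K) := by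
      rw [Sylow.coe_subgroup_smul]
      have := Subgroup.smul_mem_pointwise_smul g (MulAut.conj k) (S : Subgroup K) hgS
      simpa [MulAut.smul_def] using this
    rw [hk] at h1
    simpa using h1
  set B := Subgroup.normalizer (P : Set K) with hB
  have hPB : P ≤ B := Subgroup.le_normalizer
  have hqc : Nat.card P * P.relIndex B = Nat.card B := by
    rw [← Subgroup.relIndex_bot_left, ← Subgroup.relIndex_bot_left (H := B)]
    exact Subgroup.relIndex_mul_relIndex ⊥ P B bot_le hPB
  have hBn : Nat.card B * B.index = Nat.card K := Subgroup.card_mul_index B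
  have hUP : (conjUnion P).ncard + B.index = B.index * Nat.card P :=
    card_conjUnion_add P B le_rfl K3
  have hq3 : 3 ≤ Nat.card P := three_le_card_of_odd hodd P hP1
  have hcpos : 0 < P.relIndex B := by
    rcases Nat.eq_zero_or_pos (P.relIndex B) with h | h
    · rw [h, mul_zero] at hqc
      have : 0 < Nat.card B := Nat.card_pos
      omega
    · exact h
  have hpc : ¬ p ∣ P.relIndex B := by
    intro h
    have h1 : ¬ p ∣ (S₀ : Subgroup K).index := S₀.not_dvd_index
    apply h1
    have h2 : P.relIndex B * B.index = P.index := Subgroup.relIndex_mul_index hPB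
    show p ∣ P.index
    rw [← h2]; exact Dvd.dvd.mul_right h _
  have hCAmax : ∀ g : K, g ≠ 1 → ∀ x ∈ Subgroup.centralizer {g}, x ≠ 1 →
      ∀ z : K, Commute z x ↔ z ∈ Subgroup.centralizer {g} := by
    intro g hg x hx hx1 z
    rw [memC]
    exact K1 g hg x ((memC g x).mp hx) hx1 z
  have L : ∀ (g : K), g ≠ 1 → ∀ A₂ : Subgroup K,
      (∀ x ∈ A₂, x ≠ 1 → ∀ z : K, Commute z x ↔ z ∈ A₂) →
      ∀ y, y ∈ conjUnion (Subgroup.centralizer {g}) → y ∈ conjUnion A₂ → g ∈ conjUnion A₂ := by
    intro g hg A₂ hA₂ y hy1 hy2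
    obtain ⟨hyne, k₁, hk₁⟩ := hy1
    obtain ⟨-, k₂, hk₂⟩ := hy2
    refine ⟨hg, k₁⁻¹ * k₂, ?_⟩
    have hx1 : k₂⁻¹ * y * k₂ ≠ 1 := by
      have := conj_ne_one (k := k₂⁻¹) hyne
      simpa using this
    rw [← hA₂ _ hk₂ hx1]
    have hw : Commute g (k₁⁻¹ * y * k₁) := ((memC g _).mp hk₁).symm
    have e1 : (k₁⁻¹ * k₂)⁻¹ * g * (k₁⁻¹ * k₂) = (k₂⁻¹ * k₁) * g * (k₂⁻¹ * k₁)⁻¹ := by group
    have e2 : k₂⁻¹ * y * k₂ = (k₂⁻¹ * k₁) * (k₁⁻¹ * y * k₁) * (k₂⁻¹ * k₁)⁻¹ := by group
    rw [e1, e2]
    exact commute_conj_iff.mpr hw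
  have hOut : ∀ g : K, g ≠ 1 → g ∉ conjUnion P →
      (conjUnion (Subgroup.centralizer {g})).ncard + (Subgroup.centralizer {g}).index
        = (Subgroup.centralizer {g}).index * Nat.card (Subgroup.centralizer {g})
      ∧ 3 ≤ Nat.card (Subgroup.centralizer {g})
      ∧ Disjoint (conjUnion (Subgroup.centralizer {g})) (conjUnion P)
      ∧ g ∈ conjUnion (Subgroup.centralizer {g}) := by
    intro g hg1 hgU
    have hgp := K5 g hg1 hgU
    refine ⟨?_, ?_, ?_, ?_⟩
    · apply card_conjUnion_add _ _ Subgroup.le_normalizer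
      intro k x hx hx1 hx'
      rw [memC]
      apply H4 g hgp k
      intro y hy
      have hx'1 : k⁻¹ * x * k ≠ 1 := by
        have := conj_ne_one (k := k⁻¹) hx1
        simpa using this
      have h1 : Commute y (k⁻¹ * x * k) := (K1 g hg1 _ ((memC g _).mp hx') hx'1 y).mpr hy
      have h2 : Commute (k * y * k⁻¹) (k * (k⁻¹ * x * k) * k⁻¹) := commute_conj_iff.mpr h1
      have e : k * (k⁻¹ * x * k) * k⁻¹ = x := by group
      rw [e] at h2
      exact (K1 g hg1 x ((memC g x).mp hx) hx1 _).mp h2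
    · apply three_le_card_of_odd hodd
      intro h
      have : g ∈ Subgroup.centralizer {g} := (memC g g).mpr (Commute.refl g)
      rw [h, Subgroup.mem_bot] at this
      exact hg1 this
    · rw [Set.disjoint_left]
      intro y hy1 hy2
      exact hgU (L g hg1 P H2 y hy1 hy2)
    · refine ⟨hg1, 1, ?_⟩
      have : g ∈ Subgroup.centralizer {g} := (memC g g).mpr (Commute.refl g)
      simpa using this
  by_contra hBtop
  have hn1 : B.index ≠ 1 := fun h => hBtop (Subgroup.index_eq_one.mp h)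
  have hnpos : B.index ≠ 0 := Subgroup.index_ne_zero_of_finite
  have hfin : ∀ s : Set K, s.Finite := fun s => Set.toFinite s
  -- Claim A
  have hA : ∃ g : K, g ≠ 1 ∧ g ∉ conjUnion P := by
    by_contra hcon
    push Not at hcon
    have hcov : (Set.univ : Set K) = insert 1 (conjUnion P) := by
      ext g
      simp only [Set.mem_univ, Set.mem_insert_iff, true_iff]
      by_cases h : g = 1
      · left; exact h
      · right; exact hcon g h
    have h1 : Nat.card K = (conjUnion P).ncard + 1 := by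
      rw [← Set.ncard_univ, hcov, Set.ncard_insert_of_notMem (one_notMem_conjUnion P) (hfin _)]
    have h2 : B.index * Nat.card P ≤ B.index * Nat.card P * P.relIndex B :=
      Nat.le_mul_of_pos_right _ hcpos
    have h3 : B.index * Nat.card P * P.relIndex B = Nat.card K := by
      rw [← hBn, ← hqc]; ring
    generalize B.index * Nat.card P * P.relIndex B = m1 at *
    generalize B.index * Nat.card P = m2 at *
    omega
  obtain ⟨g, hg1, hgU⟩ := hA
  obtain ⟨hAcard, hA3, hAdisj, hgA⟩ := hOut g hg1 hgU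
  set A := Subgroup.centralizer {g} with hAdef
  have hAk : Nat.card A * A.index = Nat.card K := Subgroup.card_mul_index A
  -- Claim B
  have hB' : ∀ g' : K, g' ≠ 1 → g' ∉ conjUnion P → g' ∈ conjUnion A := by
    intro g' hg'1 hg'U
    by_contra hg'A
    obtain ⟨hA'card, hA'3, hA'disj, -⟩ := hOut g' hg'1 hg'U
    have hdisj2 : Disjoint (conjUnion (Subgroup.centralizer {g'})) (conjUnion A) := by
      rw [Set.disjoint_left]
      intro y hy1 hy2
      exact hg'A (L g' hg'1 A (hCAmax g hg1) y hy1 hy2)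
    have hsub : conjUnion (Subgroup.centralizer {g'}) ∪ conjUnion A ⊆ (Set.univ : Set K) \ {1} := by
      intro y hy
      refine ⟨Set.mem_univ _, ?_⟩
      rcases hy with hy | hy
      · exact hy.1
      · exact hy.1
    have hle : (conjUnion (Subgroup.centralizer {g'})).ncard + (conjUnion A).ncard
        ≤ Nat.card K - 1 := by
      rw [← Set.ncard_union_eq hdisj2 (hfin _) (hfin _)]
      calc _ ≤ ((Set.univ : Set K) \ {1}).ncard := Set.ncard_le_ncard hsub (hfin _)
        _ = Nat.card K - 1 := by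
          rw [Set.ncard_sdiff_singleton_of_mem (Set.mem_univ _), Set.ncard_univ]
    have hA'k : Nat.card (Subgroup.centralizer {g'}) * (Subgroup.centralizer {g'}).index
        = Nat.card K := Subgroup.card_mul_index _
    have h3 : 3 * (Subgroup.centralizer {g'}).index ≤ Nat.card K := by
      rw [← hA'k]; exact Nat.mul_le_mul_right _ hA'3
    have h4 : 3 * A.index ≤ Nat.card K := by
      rw [← hAk]; exact Nat.mul_le_mul_right _ hA3
    rw [mul_comm] at hA'card hAcard
    rw [hA'k] at hA'card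
    rw [hAk] at hAcard
    have : 0 < Nat.card K := Nat.card_pos
    omega
  have hcov : (Set.univ : Set K) = insert 1 (conjUnion P ∪ conjUnion A) := by
    ext g'
    simp only [Set.mem_univ, Set.mem_insert_iff, Set.mem_union, true_iff]
    by_cases h1 : g' = 1
    · left; exact h1
    · right
      by_cases h2 : g' ∈ conjUnion P
      · left; exact h2
      · right; exact hB' g' h1 h2
  have hcount : Nat.card K = (conjUnion P).ncard + (conjUnion A).ncard + 1 := by
    have hnot : (1 : K) ∉ conjUnion P ∪ conjUnion A := by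
      rintro (h | h)
      · exact one_notMem_conjUnion P h
      · exact one_notMem_conjUnion A h
    rw [← Set.ncard_univ, hcov, Set.ncard_insert_of_notMem hnot (hfin _),
      Set.ncard_union_eq hAdisj.symm (hfin _) (hfin _)]
  -- the index of `P` in its normalizer divides the order of `A`
  have hca : P.relIndex B ∣ Nat.card A := by
    obtain ⟨t, htB, hct⟩ := H3
    by_cases hc1 : P.relIndex B = 1
    · rw [hc1]; exact one_dvd _
    · have hc2 : 2 ≤ P.relIndex B := by omega
      have hot : 0 < orderOf t := orderOf_pos t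
      have ht1 : t ≠ 1 := by
        intro h
        rw [h, orderOf_one] at hct
        have := Nat.le_of_dvd one_pos hct
        omega
      have hconj : ∀ k : K, orderOf (k⁻¹ * t * k) = orderOf t := by
        intro k
        have := MulEquiv.orderOf_eq (MulAut.conj k⁻¹) t
        simpa [MulAut.conj_apply] using this
      have htU : t ∉ conjUnion P := by
        rintro ⟨-, k, hk⟩
        obtain ⟨j, hj⟩ := IsPGroup.iff_orderOf.mp hPp ⟨k⁻¹ * t * k, hk⟩
        rw [Subgroup.orderOf_mk, hconj] at hj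
        rw [hj] at hct
        obtain ⟨i, -, hi⟩ := (Nat.dvd_prime_pow hp).mp hct
        rcases Nat.eq_zero_or_pos i with h0 | h0
        · rw [h0, pow_zero] at hi; exact hc1 hi
        · apply hpc
          rw [hi]
          exact dvd_pow_self p (by omega)
      obtain ⟨-, k, hk⟩ := hB' t ht1 htU
      have h1 : orderOf (k⁻¹ * t * k) ∣ Nat.card A := by
        have := orderOf_dvd_natCard (⟨k⁻¹ * t * k, hk⟩ : A)
        rwa [Subgroup.orderOf_mk] at this
      rw [hconj] at h1
      exact hct.trans h1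
  obtain ⟨m', hm'⟩ := hca
  -- final arithmetic
  rw [mul_comm] at hAcard
  rw [hAk] at hAcard
  -- `kk = uP + uA + 1`, `uA + iA = kk`, `uP + n = n q`, `kk = n q c`, `a = c m'`, `a * iA = kk`
  have e1 : A.index = (conjUnion P).ncard + 1 := by omega
  have e2 : Nat.card K = B.index * Nat.card P * P.relIndex B := by
    rw [← hBn, ← hqc]; ring
  have e3 : ((conjUnion P).ncard + 1) * m' = B.index * Nat.card P := by
    have h1 : P.relIndex B * (((conjUnion P).ncard + 1) * m')
        = P.relIndex B * (B.index * Nat.card P) := by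
      calc P.relIndex B * (((conjUnion P).ncard + 1) * m')
          = (P.relIndex B * m') * A.index := by rw [e1]; ring
        _ = Nat.card K := by rw [← hm', hAk]
        _ = P.relIndex B * (B.index * Nat.card P) := by rw [e2]; ring
    exact Nat.eq_of_mul_eq_mul_left hcpos h1
  have hm'pos : 0 < m' := by
    rcases Nat.eq_zero_or_pos m' with h | h
    · rw [h, mul_zero] at hm'
      omega
    · exact h
  have hn2 : 2 ≤ B.index := by omega
  have h3n : 3 * B.index ≤ B.index * Nat.card P := by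
    rw [mul_comm]; exact Nat.mul_le_mul_left _ hq3
  rcases Nat.lt_or_ge m' 2 with h | h
  · have : m' = 1 := by omega
    rw [this, mul_one] at e3
    omega
  · have h5 : ((conjUnion P).ncard + 1) * 2 ≤ ((conjUnion P).ncard + 1) * m' :=
      Nat.mul_le_mul_left _ h
    omega

end CACount

end Cfsg.Agent.Helper4
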