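import Mathlib
import Cfsg.Agent.Helper4.CACount
import Cfsg.Agent.Helper4.Mat2

set_option autoImplicit false

namespace Cfsg.Agent.Helper4

section OddSL2

open Matrix

variable {F : Type*} [Field F]

/-- the matrix of an element of a subgroup of `GL₂(F)` -/
def mt {K : Subgroup (GL (Fin 2) F)} (g : K) : Matrix (Fin 2) (Fin 2) F :=
  ((g : GL (Fin 2) F) : Matrix (Fin 2) (Fin 2) F)

theorem mt_mul {K : Subgroup (GL (Fin 2) F)} (g h : K) : mt (g * h) = mt g * mt h := rfl

theorem mt_one {K : Subgroup (GL (Fin 2) F)} : mt (1 : K) = 1 := rfl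

theorem mt_pow {K : Subgroup (GL (Fin 2) F)} (g : K) (n : ℕ) : mt (g ^ n) = mt g ^ n := by
  induction n with
  | zero => simp [mt_one]
  | succ n ih => rw [pow_succ, pow_succ, mt_mul, ih]

theorem mt_injective {K : Subgroup (GL (Fin 2) F)} : Function.Injective (mt (K := K)) := by
  intro g h hgh
  apply Subtype.ext
  apply Units.ext
  exact hgh

theorem commute_iff_mt {K : Subgroup (GL (Fin 2) F)} (g h : K) :
    Commute g h ↔ mt g * mt h = mt h * mt g := by
  constructor
  · intro hc
    rw [← mt_mul, ← mt_mul, hc.eq]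
  · intro hc
    apply mt_injective
    rw [mt_mul, mt_mul, hc]

theorem mt_mul_inv {K : Subgroup (GL (Fin 2) F)} (g : K) : mt g * mt g⁻¹ = 1 := by
  rw [← mt_mul, mul_inv_cancel, mt_one]

theorem mt_inv_mul {K : Subgroup (GL (Fin 2) F)} (g : K) : mt g⁻¹ * mt g = 1 := by
  rw [← mt_mul, inv_mul_cancel, mt_one]

/-- every element of a group of odd order has odd order -/
theorem exists_odd_pow_eq_one {K : Type*} [Group K] [Finite K] (hodd : Odd (Nat.card K)) (g : K) :
    ∃ j : ℕ, g ^ (2 * j + 1) = 1 := by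
  obtain ⟨j, hj⟩ := hodd
  exact ⟨j, by rw [← hj]; exact pow_card_eq_one'⟩

/-- powers of an upper triangular matrix -/
theorem upper_pow (A : Matrix (Fin 2) (Fin 2) F) (h : A 1 0 = 0) (n : ℕ) :
    (A ^ n) 1 0 = 0 ∧ (A ^ n) 0 0 = (A 0 0) ^ n := by
  induction n with
  | zero => simp
  | succ n ih =>
    rw [pow_succ]
    simp only [Matrix.mul_apply, Fin.sum_univ_two]
    rw [ih.1, ih.2, h]
    constructor
    · ring
    · ring

/-- commuting with a nontrivial upper unitriangular matrix -/
theorem commute_unitriangular_iff (y : Matrix (Fin 2) (Fin 2) F) (b : F) (hb : b ≠ 0) :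
    y * !![1, b; 0, 1] = !![1, b; 0, 1] * y ↔ y 1 0 = 0 ∧ y 0 0 = y 1 1 := by
  constructor
  · intro h
    have h00 := congrFun (congrFun h 0) 0
    have h01 := congrFun (congrFun h 0) 1
    simp [Matrix.mul_apply, Fin.sum_univ_two] at h00 h01
    have h10 : y 1 0 = 0 := by
      rcases h00 with h | h
      · exact absurd h hb
      · exact h
    refine ⟨h10, ?_⟩
    have : b * (y 0 0 - y 1 1) = 0 := by linear_combination h01
    rcases mul_eq_zero.mp this with h | h
    · exact absurd h hb
    · linear_combination h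
  · rintro ⟨h10, h00⟩
    apply mat2_ext <;> simp [Matrix.mul_apply, Fin.sum_univ_two, h10, h00]
    ring

/-- an element of a finite odd-order subgroup of `SL₂`-type matrices which is upper triangular with
equal diagonal entries is unitriangular -/
theorem diag_eq_one_of_odd {K : Subgroup (GL (Fin 2) F)} [Finite K] (hodd : Odd (Nat.card K))
    (hdet : ∀ g : K, (mt g).det = 1) (g : K) (h10 : mt g 1 0 = 0) (hd : mt g 0 0 = mt g 1 1) :
    mt g 0 0 = 1 := by
  have h1 := hdet g
  rw [Matrix.det_fin_two, h10, mul_zero, sub_zero, ← hd] at h1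
  obtain ⟨j, hj⟩ := exists_odd_pow_eq_one hodd g
  have h2 := (upper_pow (mt g) h10 (2 * j + 1)).2
  rw [← mt_pow, hj, mt_one, Matrix.one_apply_eq] at h2
  have h3 : mt g 0 0 ^ (2 * j + 1) = mt g 0 0 := by
    rw [pow_succ, pow_mul, pow_two, h1, one_pow, one_mul]
  rw [← h3, ← h2]

/-- nonidentity elements are not scalar -/
theorem nonscalar_of_ne_one {K : Subgroup (GL (Fin 2) F)} [Finite K] (hodd : Odd (Nat.card K))
    (hdet : ∀ g : K, (mt g).det = 1) (g : K) (hg : g ≠ 1) :
    mt g 0 1 ≠ 0 ∨ mt g 1 0 ≠ 0 ∨ mt g 0 0 ≠ mt g 1 1 := by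
  by_contra hcon
  push Not at hcon
  obtain ⟨h01, h10, hd⟩ := hcon
  apply hg
  apply mt_injective
  have h00 := diag_eq_one_of_odd hodd hdet g h10 hd
  rw [mt_one]
  apply mat2_ext
  · rw [h00]; simp
  · rw [h01]; simp
  · rw [h10]; simp
  · rw [← hd, h00]; simp

/-- **Core (coordinate form)**: a finite odd-order group of `2 × 2` matrices of determinant one
over a field of odd characteristic `p` containing the standard transvection consists of upper
triangular matrices. -/
theorem lower_left_eq_zero_of_odd_det_one (p : ℕ) [Fact p.Prime] [CharP F p] (hp2 : p ≠ 2)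
    (K : Subgroup (GL (Fin 2) F)) [Finite K] (hodd : Odd (Nat.card K))
    (hdet : ∀ g : K, (mt g).det = 1)
    (u : K) (hu : mt u = !![1, 1; 0, 1]) :
    ∀ g : K, mt g 1 0 = 0 := by
  have h2 : (2 : F) ≠ 0 := by
    intro h
    have : ((2 : ℕ) : F) = 0 := by exact_mod_cast h
    rw [CharP.cast_eq_zero_iff F p] at this
    exact hp2 ((Nat.prime_dvd_prime_iff_eq Fact.out Nat.prime_two).mp this)
  set P : Subgroup K := Subgroup.centralizer {u} with hPdef
  have memP : ∀ g : K, g ∈ P ↔ mt g 1 0 = 0 ∧ mt g 0 0 = mt g 1 1 := by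
    intro g
    rw [hPdef, Subgroup.mem_centralizer_singleton_iff]
    have : g * u = u * g ↔ Commute g u := Iff.rfl
    rw [this, commute_iff_mt, hu]
    exact commute_unitriangular_iff (mt g) 1 one_ne_zero
  have memP' : ∀ g : K, g ∈ P → mt g = !![1, mt g 0 1; 0, 1] := by
    intro g hg
    obtain ⟨h10, hd⟩ := (memP g).mp hg
    have h00 := diag_eq_one_of_odd hodd hdet g h10 hd
    apply mat2_ext <;> simp [h10, h00, ← hd]
  have huP : u ∈ P := (memP u).mpr (by rw [hu]; simp)
  have hu1 : u ≠ 1 := by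
    intro h
    have := congrArg (fun g => mt g 0 1) h
    simp [hu, mt_one] at this
  have hP1 : P ≠ ⊥ := by
    intro h
    rw [h, Subgroup.mem_bot] at huP
    exact hu1 huP
  have hPp : IsPGroup p P := by
    rintro ⟨g, hg⟩
    refine ⟨1, ?_⟩
    apply Subtype.ext
    simp only [pow_one, Subgroup.coe_pow, Subgroup.coe_one]
    apply mt_injective
    rw [mt_pow, mt_one]
    have htr : (mt g).trace = 2 * 1 := by
      rw [memP' g hg, Matrix.trace_fin_two_of]; norm_num
    have h := pow_char_of_trace p (mt g) 1 (one_pow 2) (hdet g) htr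
    rw [h, one_pow, one_smul]
  have H1 : ∀ g : K, g ≠ 1 → ∀ x y : K, Commute x g → Commute y g → Commute x y := by
    intro g hg x y hx hy
    rw [commute_iff_mt] at hx hy ⊢
    exact commute_of_commute_nonscalar (mt g) (mt x) (mt y)
      (nonscalar_of_ne_one hodd hdet g hg) hx hy
  have H2 : ∀ x ∈ P, x ≠ 1 → ∀ y : K, Commute y x ↔ y ∈ P := by
    intro x hx hx1 y
    have hxm := memP' x hx
    have hb : mt x 0 1 ≠ 0 := by
      intro h
      apply hx1
      apply mt_injective
      rw [hxm, h, mt_one]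
      exact Matrix.one_fin_two.symm
    rw [commute_iff_mt, hxm, commute_unitriangular_iff _ _ hb, memP]
  have hN10 : ∀ g : K, g ∈ Subgroup.normalizer (P : Set K) → mt g 1 0 = 0 := by
    intro g hg
    have hw : g * u * g⁻¹ ∈ P := (Subgroup.mem_normalizer_iff.mp hg u).mp huP
    have hwm := memP' _ hw
    have e : mt (g * u * g⁻¹) * mt g = mt g * mt u := by
      rw [← mt_mul, ← mt_mul]; congr 1; group
    rw [hwm, hu] at e
    have e11 := congrFun (congrFun e 1) 1
    simp [Matrix.mul_apply, Fin.sum_univ_two] at e11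
    exact e11
  set N : Subgroup K := Subgroup.normalizer (P : Set K) with hNdef
  have hd00 : ∀ g : K, mt g 1 0 = 0 → mt g 0 0 ≠ 0 := by
    intro g h10 h00
    have := hdet g
    rw [Matrix.det_fin_two, h10, h00] at this
    simp at this
  let χ : N →* Fˣ :=
    { toFun := fun g => Units.mk0 (mt (g : K) 0 0) (hd00 _ (hN10 _ g.2))
      map_one' := by
        apply Units.ext
        simp [mt_one]
      map_mul' := by
        intro g h
        apply Units.ext
        simp only [Units.val_mk0, Units.val_mul]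
        show mt ((g : K) * (h : K)) 0 0 = _
        rw [mt_mul]
        simp [Matrix.mul_apply, Fin.sum_univ_two, hN10 _ h.2] }
  have hχ : ∀ g : N, ((χ g : Fˣ) : F) = mt (g : K) 0 0 := fun g => rfl
  have hker : χ.ker = P.subgroupOf N := by
    ext g
    rw [MonoidHom.mem_ker, Subgroup.mem_subgroupOf, memP]
    constructor
    · intro h
      have h00 : mt (g : K) 0 0 = 1 := by
        rw [← hχ, h]; rfl
      have h10 := hN10 _ g.2
      refine ⟨h10, ?_⟩
      have := hdet (g : K)
      rw [Matrix.det_fin_two, h10, h00] at this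
      rw [h00]; linear_combination -this
    · rintro ⟨h10, hd⟩
      apply Units.ext
      rw [hχ]
      exact diag_eq_one_of_odd hodd hdet _ h10 hd
  have H3 : ∃ t ∈ N, P.relIndex N ∣ orderOf t := by
    have : Finite χ.range := Finite.of_surjective χ.rangeRestrict χ.rangeRestrict_surjective
    have hcyc : IsCyclic χ.range := inferInstance
    obtain ⟨y, hy⟩ := IsCyclic.exists_ofOrder_eq_natCard (α := χ.range)
    obtain ⟨t, ht⟩ := y.2
    refine ⟨(t : K), t.2, ?_⟩
    have h1 : P.relIndex N = Nat.card χ.range := by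
      rw [Subgroup.relIndex, ← hker, Subgroup.index_ker]
    rw [h1, ← hy]
    have h2' : orderOf y = orderOf (χ t) := by
      rw [← Subgroup.orderOf_coe, ← ht]
    rw [h2']
    have h3 : orderOf (t : K) = orderOf t := Subgroup.orderOf_coe t
    rw [h3]
    exact orderOf_map_dvd χ t
  have H4 : ∀ g : K, g ^ p ≠ 1 → ∀ y : K,
      (∀ x, Commute x g → Commute (y * x * y⁻¹) g) → Commute y g := by
    intro g hgp y hy
    have htr : (mt g).trace ^ 2 ≠ 4 := by
      intro h
      have h' : ((mt g).trace - 2) * ((mt g).trace + 2) = 0 := by linear_combination h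
      rcases mul_eq_zero.mp h' with h'' | h''
      · apply hgp
        apply mt_injective
        rw [mt_pow, mt_one, pow_char_of_trace p (mt g) 1 (one_pow 2) (hdet g)
          (by linear_combination h''), one_pow, one_smul]
      · have hpow := pow_char_of_trace p (mt g) (-1) (by ring) (hdet g)
          (by linear_combination h'')
        have hpodd : Odd p := (Fact.out : p.Prime).odd_of_ne_two hp2
        rw [hpodd.neg_one_pow] at hpow
        have h00 := diag_eq_one_of_odd hodd hdet (g ^ p) (by rw [mt_pow, hpow]; simp)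
          (by rw [mt_pow, hpow]; simp)
        rw [mt_pow, hpow] at h00
        simp at h00
        apply h2
        linear_combination -h00
    have hs' : Commute (y * g * y⁻¹) g := hy g (Commute.refl g)
    have hs'm := (commute_iff_mt _ _).mp hs'
    have hdet' := hdet (y * g * y⁻¹)
    have htr' : (mt (y * g * y⁻¹)).trace = (mt g).trace := by
      rw [mt_mul, mt_mul, Matrix.trace_mul_comm, ← mul_assoc, mt_inv_mul, one_mul]
    rcases eq_or_mul_eq_one_of_commute_of_trace_eq h2 (mt g) (mt (y * g * y⁻¹)) (hdet g) hdet'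
      hs'm htr' htr with h | h
    · have hh : y * g * y⁻¹ = g := mt_injective h
      show y * g = g * y
      calc y * g = y * g * y⁻¹ * y := by group
        _ = g * y := by rw [hh]
    · have h' : y * g * y⁻¹ * g = 1 := mt_injective (by rw [mt_mul, h, mt_one])
      have hinv : y * g * y⁻¹ = g⁻¹ := eq_inv_of_mul_eq_one_left h'
      have hc2 : Commute (y ^ 2) g := by
        show y ^ 2 * g = g * y ^ 2
        have e1 : y * g = g⁻¹ * y := by
          calc y * g = y * g * y⁻¹ * y := by group
            _ = g⁻¹ * y := by rw [hinv]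
        have e2 : y * g⁻¹ = g * y := by
          have h3 : y * g⁻¹ * y⁻¹ = g := by
            rw [show y * g⁻¹ * y⁻¹ = (y * g * y⁻¹)⁻¹ by group, hinv, inv_inv]
          calc y * g⁻¹ = y * g⁻¹ * y⁻¹ * y := by group
            _ = g * y := by rw [h3]
        rw [pow_two, mul_assoc, e1, ← mul_assoc, e2, mul_assoc]
      obtain ⟨j, hj⟩ := exists_odd_pow_eq_one hodd y
      have hy' : y = (y ^ 2) ^ (j + 1) := by
        rw [← pow_mul, show 2 * (j + 1) = (2 * j + 1) + 1 by ring, pow_succ, hj, one_mul]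
      rw [hy']
      exact hc2.pow_left (j + 1)
  have hNtop := normalizer_eq_top_of_ca_counting hodd p H1 P hP1 hPp H2 H3 H4
  intro g
  apply hN10
  have hN' : N = ⊤ := hNtop
  rw [hN']; exact Subgroup.mem_top g

/-- **Core (coordinate form, `GL₂`)**: a finite odd-order subgroup of `GL₂(F)`, `F` of odd
characteristic, containing the standard transvection consists of upper triangular matrices. -/
theorem lower_left_eq_zero_of_odd (p : ℕ) [Fact p.Prime] [CharP F p] (hp2 : p ≠ 2)
    (K : Subgroup (GL (Fin 2) F)) [Finite K] (hodd : Odd (Nat.card K))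
    (u : K) (hu : mt u = !![1, 1; 0, 1]) :
    ∀ g : K, mt g 1 0 = 0 := by
  set K₁ : Subgroup (GL (Fin 2) F) :=
    K ⊓ (Matrix.GeneralLinearGroup.det : GL (Fin 2) F →* Fˣ).ker with hK₁
  have hle : K₁ ≤ K := inf_le_left
  have hfin : Finite K₁ := Finite.of_injective (Subgroup.inclusion hle)
    (Subgroup.inclusion_injective hle)
  have hodd₁ : Odd (Nat.card K₁) := by
    obtain ⟨m, hm⟩ := Subgroup.card_dvd_of_le hle
    rw [hm] at hodd
    exact (Nat.odd_mul.mp hodd).1
  have hdetmem : ∀ g : GL (Fin 2) F, g ∈ K₁ ↔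
      g ∈ K ∧ (g : Matrix (Fin 2) (Fin 2) F).det = 1 := by
    intro g
    rw [hK₁, Subgroup.mem_inf, MonoidHom.mem_ker]
    constructor
    · rintro ⟨h1, h2⟩
      refine ⟨h1, ?_⟩
      rw [← Matrix.GeneralLinearGroup.val_det_apply, h2]; rfl
    · rintro ⟨h1, h2⟩
      refine ⟨h1, ?_⟩
      apply Units.ext
      rw [Matrix.GeneralLinearGroup.val_det_apply, h2]; rfl
  have hdet₁ : ∀ g : K₁, (mt g).det = 1 := fun g => ((hdetmem g).mp g.2).2
  have hu₁ : (u : GL (Fin 2) F) ∈ K₁ := by
    rw [hdetmem]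
    refine ⟨u.2, ?_⟩
    have : ((u : GL (Fin 2) F) : Matrix (Fin 2) (Fin 2) F) = !![1, 1; 0, 1] := hu
    rw [this, Matrix.det_fin_two_of]; ring
  have key := lower_left_eq_zero_of_odd_det_one p hp2 K₁ hodd₁ hdet₁ ⟨u, hu₁⟩ hu
  intro g
  -- `w = g u g⁻¹ ∈ K₁`
  have hw : ((g * u * g⁻¹ : K) : GL (Fin 2) F) ∈ K₁ := by
    rw [hdetmem]
    refine ⟨(g * u * g⁻¹).2, ?_⟩
    have : mt (g * u * g⁻¹) = mt g * mt u * mt g⁻¹ := rfl
    show (mt (g * u * g⁻¹)).det = 1
    rw [this, Matrix.det_mul, Matrix.det_mul, mul_right_comm, ← Matrix.det_mul, mt_mul_inv,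
      Matrix.det_one, one_mul, hu, Matrix.det_fin_two_of]
    ring
  have hw10 : mt (g * u * g⁻¹) 1 0 = 0 := key ⟨_, hw⟩
  have e : mt (g * u * g⁻¹) * mt g = mt g * mt u := by
    rw [← mt_mul, ← mt_mul]; congr 1; group
  rw [hu] at e
  have e10 := congrFun (congrFun e 1) 0
  have e11 := congrFun (congrFun e 1) 1
  simp [Matrix.mul_apply, Fin.sum_univ_two, hw10] at e10 e11
  -- e10 : w11 * g10 = g10 ; e11 : w11 * g11 = g10 + g11
  by_contra hne
  have h1 : (mt (g * u * g⁻¹) 1 1 - 1) * mt g 1 0 = 0 := by linear_combination e10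
  rcases mul_eq_zero.mp h1 with h | h
  · have h' : mt (g * u * g⁻¹) 1 1 = 1 := by linear_combination h
    rw [h', one_mul] at e11
    apply hne
    linear_combination -e11
  · exact hne h

/-- a nonzero square-zero `2 × 2` matrix is conjugate to the standard nilpotent matrix -/
theorem exists_conj_to_standard (N : Matrix (Fin 2) (Fin 2) F) (hN : N * N = 0) (hN0 : N ≠ 0) :
    ∃ h : GL (Fin 2) F, N * (h : Matrix (Fin 2) (Fin 2) F)
      = (h : Matrix (Fin 2) (Fin 2) F) * !![0, 1; 0, 0] := by
  have e00 := congrFun (congrFun hN 0) 0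
  have e01 := congrFun (congrFun hN 0) 1
  have e10 := congrFun (congrFun hN 1) 0
  have e11 := congrFun (congrFun hN 1) 1
  simp only [Matrix.mul_apply, Fin.sum_univ_two, Matrix.zero_apply] at e00 e01 e10 e11
  have htr : N 0 0 + N 1 1 = 0 := by
    by_contra hne
    have hb : N 0 1 = 0 := by
      have : N 0 1 * (N 0 0 + N 1 1) = 0 := by linear_combination e01
      rcases mul_eq_zero.mp this with h | h
      · exact h
      · exact absurd h hne
    have hc : N 1 0 = 0 := by
      have : N 1 0 * (N 0 0 + N 1 1) = 0 := by linear_combination e10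
      rcases mul_eq_zero.mp this with h | h
      · exact h
      · exact absurd h hne
    rw [hb, hc] at e00 e11
    have ha : N 0 0 = 0 := by
      have : N 0 0 * N 0 0 = 0 := by linear_combination e00
      exact mul_self_eq_zero.mp this
    have hd : N 1 1 = 0 := by
      have : N 1 1 * N 1 1 = 0 := by linear_combination e11
      exact mul_self_eq_zero.mp this
    apply hne
    rw [ha, hd, add_zero]
  by_cases hc : N 1 0 = 0
  · have ha : N 0 0 = 0 := by
      rw [hc] at e00
      have : N 0 0 * N 0 0 = 0 := by linear_combination e00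
      exact mul_self_eq_zero.mp this
    have hd : N 1 1 = 0 := by rw [ha] at htr; linear_combination htr
    have hb : N 0 1 ≠ 0 := by
      intro hb
      apply hN0
      apply mat2_ext <;> simp [ha, hb, hc, hd]
    refine ⟨Matrix.GeneralLinearGroup.mkOfDetNeZero !![N 0 1, 0; 0, 1] (by
      rw [Matrix.det_fin_two_of]; simpa using hb), ?_⟩
    rw [Matrix.GeneralLinearGroup.val_mkOfDetNeZero]
    apply mat2_ext <;> simp [Matrix.mul_apply, Fin.sum_univ_two, ha, hc, hd]
  · refine ⟨Matrix.GeneralLinearGroup.mkOfDetNeZero !![N 0 0, 1; N 1 0, 0] (by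
      rw [Matrix.det_fin_two_of]; simpa using hc), ?_⟩
    rw [Matrix.GeneralLinearGroup.val_mkOfDetNeZero]
    apply mat2_ext <;> simp [Matrix.mul_apply, Fin.sum_univ_two]
    · linear_combination e00
    · linear_combination e10

/-- **Core**: a finite odd-order subgroup of `GL₂(F)`, `F` a field of odd characteristic, which
contains a nonidentity unipotent element leaves a line invariant. -/
theorem exists_invariant_line_of_odd (p : ℕ) [Fact p.Prime] [CharP F p] (hp2 : p ≠ 2)
    (K : Subgroup (GL (Fin 2) F)) [Finite K] (hodd : Odd (Nat.card K))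
    (u : GL (Fin 2) F) (huK : u ∈ K) (hu1 : u ≠ 1)
    (hN : ((u : Matrix (Fin 2) (Fin 2) F) - 1) * ((u : Matrix (Fin 2) (Fin 2) F) - 1) = 0) :
    ∃ v : Fin 2 → F, v ≠ 0 ∧
      ∀ g ∈ K, ∃ c : F, (g : Matrix (Fin 2) (Fin 2) F).mulVec v = c • v := by
  have hN0 : (u : Matrix (Fin 2) (Fin 2) F) - 1 ≠ 0 := by
    intro h
    apply hu1
    apply Units.ext
    rw [sub_eq_zero] at h
    exact h
  obtain ⟨h, hh⟩ := exists_conj_to_standard _ hN hN0
  set φ : GL (Fin 2) F ≃* GL (Fin 2) F := MulAut.conj h⁻¹ with hφ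
  have hφapp : ∀ g, φ g = h⁻¹ * g * h := by
    intro g; rw [hφ, MulAut.conj_apply, inv_inv]
  set K' : Subgroup (GL (Fin 2) F) := K.map φ.toMonoidHom with hK'
  let e : K ≃* K' := φ.subgroupMap K
  have hfin : Finite K' := Finite.of_equiv K e.toEquiv
  have hcard : Nat.card K' = Nat.card K := (Nat.card_congr e.toEquiv).symm
  have hodd' : Odd (Nat.card K') := by rw [hcard]; exact hodd
  have hmem : ∀ g ∈ K, h⁻¹ * g * h ∈ K' := by
    intro g hg
    rw [hK', Subgroup.mem_map]
    exact ⟨g, hg, hφapp g⟩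
  have hinvmul : ((h⁻¹ : GL (Fin 2) F) : Matrix (Fin 2) (Fin 2) F)
      * (h : Matrix (Fin 2) (Fin 2) F) = 1 := by
    rw [← Units.val_mul, inv_mul_cancel]; rfl
  have hu' : mt (⟨h⁻¹ * u * h, hmem u huK⟩ : K') = !![1, 1; 0, 1] := by
    have e1 : mt (⟨h⁻¹ * u * h, hmem u huK⟩ : K')
        = ((h⁻¹ : GL (Fin 2) F) : Matrix (Fin 2) (Fin 2) F)
          * ((u : Matrix (Fin 2) (Fin 2) F) * (h : Matrix (Fin 2) (Fin 2) F)) := by
      show ((h⁻¹ * u * h : GL (Fin 2) F) : Matrix (Fin 2) (Fin 2) F) = _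
      rw [Units.val_mul, Units.val_mul, mul_assoc]
    have e2 : (u : Matrix (Fin 2) (Fin 2) F) * (h : Matrix (Fin 2) (Fin 2) F)
        = (h : Matrix (Fin 2) (Fin 2) F) * (!![0, 1; 0, 0] + 1) := by
      rw [mul_add, mul_one, ← hh, sub_mul, one_mul, sub_add_cancel]
    rw [e1, e2, ← mul_assoc, hinvmul, one_mul]
    apply mat2_ext <;> simp
  have key := lower_left_eq_zero_of_odd p hp2 K' hodd' ⟨h⁻¹ * u * h, hmem u huK⟩ hu'
  refine ⟨fun i => (h : Matrix (Fin 2) (Fin 2) F) i 0, ?_, ?_⟩
  · intro hv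
    have h0 := congrFun hv 0
    have h1 := congrFun hv 1
    simp only [Pi.zero_apply] at h0 h1
    have hdet := Matrix.GeneralLinearGroup.det_ne_zero h
    apply hdet
    rw [Matrix.det_fin_two, h0, h1]; ring
  · intro g hg
    have hk := key ⟨h⁻¹ * g * h, hmem g hg⟩
    set G' : Matrix (Fin 2) (Fin 2) F := mt (⟨h⁻¹ * g * h, hmem g hg⟩ : K') with hG'
    have e1 : (h : Matrix (Fin 2) (Fin 2) F) * G'
        = (g : Matrix (Fin 2) (Fin 2) F) * (h : Matrix (Fin 2) (Fin 2) F) := by
      have : G' = ((h⁻¹ * g * h : GL (Fin 2) F) : Matrix (Fin 2) (Fin 2) F) := rfl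
      rw [this, ← Units.val_mul, ← Units.val_mul]
      congr 1
      group
    refine ⟨G' 0 0, ?_⟩
    ext i
    have e2 := congrFun (congrFun e1 i) 0
    simp only [Matrix.mul_apply, Fin.sum_univ_two] at e2
    rw [hk, mul_zero, add_zero] at e2
    simp only [Matrix.mulVec, dotProduct, Fin.sum_univ_two, Pi.smul_apply, smul_eq_mul]
    rw [← e2]; ring

end OddSL2






end Cfsg.Agent.Helper4
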