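import Mathlib
import Cfsg.Agent.Helper4.OddSL2

set_option autoImplicit false

namespace Cfsg.Agent.Helper4

section OddSL2b

/-- a finite group with a cyclic Sylow `2`-subgroup has a normal subgroup of odd order and
`2`-power index -/
theorem exists_normal_odd_of_cyclic_sylow_two {G : Type*} [Group G] [Finite G] (S : Sylow 2 G)
    (hS : IsCyclic (S : Subgroup G)) :
    ∃ M : Subgroup G, M.Normal ∧ Odd (Nat.card M) ∧ ∃ k : ℕ, M.index = 2 ^ k := by
  by_cases h2 : 2 ∣ Nat.card G
  · have hmin : (Nat.card G).minFac = 2 := (Nat.minFac_eq_two_iff _).mpr h2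
    have hc := IsCyclic.isComplement' hmin hS
    refine ⟨(MonoidHom.transferSylow S (hS.normalizer_le_centralizer hmin)).ker,
      inferInstance, ?_, ?_⟩
    · have := MonoidHom.not_dvd_card_ker_transferSylow S (hS.normalizer_le_centralizer hmin)
      rw [← Nat.not_even_iff_odd, even_iff_two_dvd]
      exact this
    · obtain ⟨k, hk⟩ := IsPGroup.exists_card_eq S.2
      exact ⟨k, by rw [hc.symm.index_eq_card, hk]⟩
  · refine ⟨⊤, inferInstance, ?_, 0, by simp⟩
    rw [Subgroup.card_top, ← Nat.not_even_iff_odd, even_iff_two_dvd]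
    exact h2

/-- an element of odd prime power order lies in every normal subgroup of `2`-power index -/
theorem mem_of_index_two_pow {G : Type*} [Group G] (M : Subgroup G) [M.Normal] (k : ℕ)
    (hM : M.index = 2 ^ k) (p : ℕ) (hp : p.Prime) (hp2 : p ≠ 2) (x : G) (j : ℕ)
    (hx : x ^ (p ^ j) = 1) : x ∈ M := by
  rw [← QuotientGroup.eq_one_iff]
  have h1 : ((x : G ⧸ M)) ^ (p ^ j) = 1 := by
    rw [← QuotientGroup.mk_pow, hx]; rfl
  have h2 : ((x : G ⧸ M)) ^ (2 ^ k) = 1 := by
    rw [← hM, Subgroup.index_eq_card]; exact pow_card_eq_one'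
  have hd1 := orderOf_dvd_of_pow_eq_one h1
  have hd2 := orderOf_dvd_of_pow_eq_one h2
  have hcop : Nat.Coprime (p ^ j) (2 ^ k) :=
    Nat.Coprime.pow _ _ ((Nat.coprime_primes hp Nat.prime_two).mpr hp2)
  have := Nat.dvd_gcd hd1 hd2
  rw [hcop.gcd_eq_one, Nat.dvd_one] at this
  exact orderOf_eq_one_iff.mp this

open Matrix in
/-- a `2 × 2` matrix of determinant one fixing a nonzero vector has trace `2` -/
theorem trace_eq_two_of_mulVec_eq {F : Type*} [Field F] (G : Matrix (Fin 2) (Fin 2) F)
    (hdet : G.det = 1) (v : Fin 2 → F) (hv0 : v ≠ 0) (hv : G.mulVec v = v) : G.trace = 2 * 1 := by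
  have h1 : (G - 1).det = 0 := by
    apply Matrix.exists_mulVec_eq_zero_iff.mp
    exact ⟨v, hv0, by rw [Matrix.sub_mulVec, hv, Matrix.one_mulVec, sub_self]⟩
  rw [Matrix.det_fin_two] at h1 hdet
  rw [Matrix.trace_fin_two]
  simp only [Matrix.sub_apply, Matrix.one_apply_eq, Matrix.one_apply_ne, ne_eq, zero_ne_one,
    one_ne_zero, not_false_eq_true, sub_zero] at h1
  linear_combination hdet - h1

open Matrix in
/-- a finite subgroup of `SL₂(F)`, `F` of odd characteristic `p`, with a cyclic Sylow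
`2`-subgroup has a unique Sylow `p`-subgroup -/
theorem sylow_p_unique_of_cyclic_sylow_two {F : Type*} [Field F] (p : ℕ) [Fact p.Prime]
    [CharP F p] (hp : p ≠ 2) (H : Subgroup (Matrix.SpecialLinearGroup (Fin 2) F)) [Finite H]
    (S : Sylow 2 H) (hS : IsCyclic (S : Subgroup H)) (Q₁ Q₂ : Sylow p H) : Q₁ = Q₂ := by
  classical
  have hpp : p.Prime := Fact.out
  obtain ⟨M, hMn, hModd, k, hMk⟩ := exists_normal_odd_of_cyclic_sylow_two S hS
  let f : H →* GL (Fin 2) F := Matrix.SpecialLinearGroup.toGL.comp H.subtype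
  have hf : Function.Injective f :=
    Matrix.SpecialLinearGroup.toGL_injective.comp H.subtype_injective
  have hfm : ∀ g : H, ((f g : GL (Fin 2) F) : Matrix (Fin 2) (Fin 2) F)
      = ((g : SpecialLinearGroup (Fin 2) F) : Matrix (Fin 2) (Fin 2) F) := fun g => rfl
  by_contra hne
  have hQ1 : (Q₁ : Subgroup H) ≠ ⊥ := by
    intro h
    apply hne
    have hc : Nat.card (Q₂ : Subgroup H) = Nat.card (Q₁ : Subgroup H) := by
      rw [Sylow.card_eq_multiplicity, Sylow.card_eq_multiplicity]
    rw [h, Subgroup.card_bot] at hc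
    have : (Q₂ : Subgroup H) = ⊥ := Subgroup.card_eq_one.mp hc
    exact Sylow.ext (h.trans this.symm)
  obtain ⟨x, hx1⟩ := Subgroup.ne_bot_iff_exists_ne_one.mp hQ1
  obtain ⟨j, hj⟩ := Q₁.isPGroup' x
  have hxj : (x : H) ^ (p ^ j) = 1 := by rw [← Subgroup.coe_pow, hj]; rfl
  have hxM : (x : H) ∈ M := mem_of_index_two_pow M k hMk p hpp hp (x : H) j hxj
  set K : Subgroup (GL (Fin 2) F) := M.map f with hK
  let e : M ≃* K := M.equivMapOfInjective f hf
  have hfin : Finite K := Finite.of_equiv M e.toEquiv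
  have hoddK : Odd (Nat.card K) := by rw [← Nat.card_congr e.toEquiv]; exact hModd
  have hX : ((f x : GL (Fin 2) F) : Matrix (Fin 2) (Fin 2) F) ^ (p ^ j) = 1 := by
    rw [← Units.val_pow_eq_pow_val, ← map_pow, hxj, map_one]; rfl
  have hNp : (((f x : GL (Fin 2) F) : Matrix (Fin 2) (Fin 2) F) - 1) ^ (p ^ j) = 0 := by
    rw [sub_pow_char_pow_of_commute p j (Commute.one_right _), hX, one_pow, sub_self]
  have hN := sq_eq_zero_of_pow_eq_zero _ (p ^ j) hNp
  have hfx1 : f x ≠ 1 := by
    intro h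
    apply hx1
    have : (x : H) = 1 := hf (by rw [h, map_one])
    exact Subtype.ext this
  obtain ⟨v, hv0, hv⟩ := exists_invariant_line_of_odd p hp K hoddK (f x)
    (Subgroup.mem_map_of_mem f hxM) hfx1 hN
  let U : Subgroup H :=
    { carrier := {g | ((g : SpecialLinearGroup (Fin 2) F) :
        Matrix (Fin 2) (Fin 2) F).mulVec v = v}
      one_mem' := by
        show (((1 : H) : SpecialLinearGroup (Fin 2) F) : Matrix (Fin 2) (Fin 2) F).mulVec v = v
        rw [Subgroup.coe_one, Matrix.SpecialLinearGroup.coe_one, Matrix.one_mulVec]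
      mul_mem' := by
        intro a b ha hb
        have ha' : ((a : SpecialLinearGroup (Fin 2) F) : Matrix (Fin 2) (Fin 2) F).mulVec v = v :=
          ha
        have hb' : ((b : SpecialLinearGroup (Fin 2) F) : Matrix (Fin 2) (Fin 2) F).mulVec v = v :=
          hb
        show (((a * b : H) : SpecialLinearGroup (Fin 2) F) :
          Matrix (Fin 2) (Fin 2) F).mulVec v = v
        rw [Subgroup.coe_mul, Matrix.SpecialLinearGroup.coe_mul, ← Matrix.mulVec_mulVec, hb', ha']
      inv_mem' := by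
        intro a ha
        have ha' : ((a : SpecialLinearGroup (Fin 2) F) : Matrix (Fin 2) (Fin 2) F).mulVec v = v :=
          ha
        show (((a⁻¹ : H) : SpecialLinearGroup (Fin 2) F) :
          Matrix (Fin 2) (Fin 2) F).mulVec v = v
        have h1 : ((a⁻¹ : H) : SpecialLinearGroup (Fin 2) F) * a = 1 := by simp
        have h2 := congrArg (fun m : SpecialLinearGroup (Fin 2) F =>
          (m : Matrix (Fin 2) (Fin 2) F).mulVec v) h1
        simp only [Matrix.SpecialLinearGroup.coe_mul, ← Matrix.mulVec_mulVec, ha',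
          Matrix.SpecialLinearGroup.coe_one, Matrix.one_mulVec] at h2
        exact h2 }
  have memU : ∀ g : H, g ∈ U ↔ ((g : SpecialLinearGroup (Fin 2) F) :
        Matrix (Fin 2) (Fin 2) F).mulVec v = v := fun g => Iff.rfl
  have hUp : IsPGroup p U := by
    rintro ⟨g, hg⟩
    refine ⟨1, ?_⟩
    apply Subtype.ext
    apply Subtype.ext
    apply Subtype.ext
    simp only [pow_one, Subgroup.coe_pow, Subgroup.coe_one, Matrix.SpecialLinearGroup.coe_pow,
      Matrix.SpecialLinearGroup.coe_one]
    have htr := trace_eq_two_of_mulVec_eq _ (g : SpecialLinearGroup (Fin 2) F).2 v hv0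
      ((memU g).mp hg)
    rw [pow_char_of_trace p _ 1 (one_pow 2) (g : SpecialLinearGroup (Fin 2) F).2 htr, one_pow,
      one_smul]
  have hQU : ∀ Q : Sylow p H, (Q : Subgroup H) ≤ U := by
    intro Q y hy
    obtain ⟨j', hj'⟩ := Q.isPGroup' ⟨y, hy⟩
    have hyj : y ^ (p ^ j') = 1 := by
      have := congrArg Subtype.val hj'
      simpa using this
    have hyM : y ∈ M := mem_of_index_two_pow M k hMk p hpp hp y j' hyj
    obtain ⟨c, hc⟩ := hv (f y) (Subgroup.mem_map_of_mem f hyM)
    rw [hfm] at hc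
    set Y : Matrix (Fin 2) (Fin 2) F := ((y : SpecialLinearGroup (Fin 2) F) :
        Matrix (Fin 2) (Fin 2) F) with hY
    have hpow : ∀ n : ℕ, (Y ^ n).mulVec v = c ^ n • v := by
      intro n
      induction n with
      | zero => simp
      | succ n ih =>
        rw [pow_succ, ← Matrix.mulVec_mulVec, hc, Matrix.mulVec_smul, ih, smul_smul, pow_succ,
          mul_comm]
    have hYj : Y ^ (p ^ j') = 1 := by
      have := congrArg (fun g : H => ((g : SpecialLinearGroup (Fin 2) F) :
        Matrix (Fin 2) (Fin 2) F)) hyj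
      simpa using this
    have h1 := hpow (p ^ j')
    rw [hYj, Matrix.one_mulVec] at h1
    have h2 : (c ^ (p ^ j') - 1) • v = 0 := by rw [sub_smul, one_smul, ← h1, sub_self]
    have h3 : c ^ (p ^ j') - 1 = 0 := by
      rcases smul_eq_zero.mp h2 with h | h
      · exact h
      · exact absurd h hv0
    have h4 : (c - 1) ^ (p ^ j') = 0 := by
      rw [sub_pow_char_pow, one_pow, h3]
    have h5 : c = 1 := by
      have := pow_eq_zero_iff (pow_ne_zero _ hpp.ne_zero) |>.mp h4
      linear_combination this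
    rw [memU, ← hY, hc, h5, one_smul]
  have h1 := Q₁.is_maximal' hUp (hQU Q₁)
  have h2 := Q₂.is_maximal' hUp (hQU Q₂)
  exact hne (Sylow.ext (h1.symm.trans h2))

end OddSL2b


end Cfsg.Agent.Helper4
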