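import Mathlib
import Cfsg.Agent.Helper4.Mat2
import Cfsg.Agent.Helper4.OddSL2
import Cfsg.Agent.Helper4.OddSL2b

set_option autoImplicit false

/-!
# Odd-order solvable subgroups of `GL₂(F)` in odd characteristic (helper4)

Main result `commutator_pow_char_eq_one_of_odd_solvable`: the derived subgroup of a finite solvable
subgroup of odd order of `GL₂(F)`, `char F = p` odd, consists of elements `c` with `c ^ p = 1`.
-/

namespace Cfsg.Agent.Helper4

open scoped commutatorElement

section OddGL2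

variable {F : Type*} [Field F]

theorem nonscalar_of_trace_sq_ne_four_det (s : Matrix (Fin 2) (Fin 2) F)
    (htr : s.trace ^ 2 ≠ 4 * s.det) : s 0 1 ≠ 0 ∨ s 1 0 ≠ 0 ∨ s 0 0 ≠ s 1 1 := by
  by_contra hcon
  push Not at hcon
  obtain ⟨h1, h2, h3⟩ := hcon
  apply htr
  rw [Matrix.det_fin_two, Matrix.trace_fin_two, h1, h3]
  ring

/-- commuting `2 × 2` matrices with the same trace `t` and determinant `d`, `t² ≠ 4d`, are equal
or add up to `t`. -/
theorem eq_or_add_eq_trace_of_commute (h2 : (2 : F) ≠ 0)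
    (s s' : Matrix (Fin 2) (Fin 2) F) (hdet' : s'.det = s.det)
    (hc : s' * s = s * s') (htr' : s'.trace = s.trace) (htr : s.trace ^ 2 ≠ 4 * s.det) :
    s' = s ∨ s' + s = s.trace • (1 : Matrix (Fin 2) (Fin 2) F) := by
  have hns := nonscalar_of_trace_sq_ne_four_det s htr
  obtain ⟨α, β, hs'⟩ := exists_eq_smul_add_of_commute s s' hns hc
  have e00 : s' 0 0 = α + β * s 0 0 := by rw [hs']; simp
  have e01 : s' 0 1 = β * s 0 1 := by rw [hs']; simp
  have e10 : s' 1 0 = β * s 1 0 := by rw [hs']; simp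
  have e11 : s' 1 1 = α + β * s 1 1 := by rw [hs']; simp
  rw [Matrix.det_fin_two, Matrix.det_fin_two] at hdet'
  rw [Matrix.trace_fin_two, Matrix.trace_fin_two] at htr'
  rw [Matrix.trace_fin_two, Matrix.det_fin_two] at htr
  rw [e00, e01, e10, e11] at hdet'
  rw [e00, e11] at htr'
  rw [Matrix.trace_fin_two]
  set a := s 0 0
  set b := s 0 1
  set c := s 1 0
  set d := s 1 1
  have hα : 2 * α = (a + d) * (1 - β) := by linear_combination htr'
  have hβ : (1 - β ^ 2) * ((a + d) ^ 2 - 4 * (a * d - b * c)) = 0 := by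
    have h4 : (2 * α) ^ 2 + 2 * (2 * α) * β * (a + d) + 4 * β ^ 2 * (a * d - b * c)
        = 4 * (a * d - b * c) := by
      linear_combination 4 * hdet'
    rw [hα] at h4
    linear_combination h4
  have hβ2 : β ^ 2 = 1 := by
    rcases mul_eq_zero.mp hβ with h | h
    · linear_combination -h
    · exact absurd (by linear_combination h) htr
  have hβ' : β = 1 ∨ β = -1 := by
    have : (β - 1) * (β + 1) = 0 := by linear_combination hβ2
    rcases mul_eq_zero.mp this with h | h
    · left; linear_combination h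
    · right; linear_combination h
  rcases hβ' with h | h
  · left
    have hα0 : α = 0 := by
      have : 2 * α = 0 := by rw [hα, h]; ring
      rcases mul_eq_zero.mp this with h' | h'
      · exact absurd h' h2
      · exact h'
    rw [hs', hα0, h]; simp
  · right
    have hατ : α = a + d := by
      have : 2 * (α - (a + d)) = 0 := by rw [mul_sub, hα, h]; ring
      rcases mul_eq_zero.mp this with h' | h'
      · exact absurd h' h2
      · linear_combination h'
    rw [hs', hατ, h]
    simp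

/-- a `2 × 2` matrix of determinant `ε²` and trace `2ε` satisfies `(g - ε)² = 0` -/
theorem sub_sq_eq_zero_of_trace_det (g : Matrix (Fin 2) (Fin 2) F) (ε : F)
    (hdet : g.det = ε ^ 2) (htr : g.trace = 2 * ε) :
    (g - ε • (1 : Matrix (Fin 2) (Fin 2) F)) * (g - ε • (1 : Matrix (Fin 2) (Fin 2) F)) = 0 := by
  rw [Matrix.det_fin_two] at hdet
  rw [Matrix.trace_fin_two] at htr
  have hd : g 1 1 = 2 * ε - g 0 0 := by linear_combination htr
  apply mat2_ext <;>
    simp only [Matrix.mul_apply, Fin.sum_univ_two, Matrix.sub_apply, Matrix.smul_apply,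
      Matrix.one_apply_eq, Matrix.one_apply_ne, ne_eq, zero_ne_one, one_ne_zero,
      not_false_eq_true, smul_eq_mul, mul_one, mul_zero, sub_zero, Matrix.zero_apply]
  · rw [hd] at hdet
    linear_combination -hdet
  · rw [hd]; ring
  · rw [hd]; ring
  · rw [hd] at hdet ⊢
    linear_combination -hdet

theorem pow_char_of_sub_sq_eq_zero (p : ℕ) [Fact p.Prime] [CharP F p]
    (g : Matrix (Fin 2) (Fin 2) F) (ε : F)
    (hN : (g - ε • (1 : Matrix (Fin 2) (Fin 2) F)) * (g - ε • (1 : Matrix (Fin 2) (Fin 2) F)) = 0) :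
    g ^ p = (ε ^ p) • (1 : Matrix (Fin 2) (Fin 2) F) := by
  have hp : p.Prime := Fact.out
  set N := g - ε • (1 : Matrix (Fin 2) (Fin 2) F) with hNdef
  have hg : g = N + ε • (1 : Matrix (Fin 2) (Fin 2) F) := by rw [hNdef]; abel
  have hcomm : Commute N (ε • (1 : Matrix (Fin 2) (Fin 2) F)) :=
    (Commute.one_right N).smul_right ε
  rw [hg, add_pow_char_of_commute (R := Matrix (Fin 2) (Fin 2) F) (p := p) hcomm]
  have hNp : N ^ p = 0 := by
    have h2 : 2 ≤ p := hp.two_le
    obtain ⟨k, hk⟩ : ∃ k, p = 2 + k := ⟨p - 2, by omega⟩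
    rw [hk, pow_add, pow_two, hN, zero_mul]
  rw [hNp, zero_add, smul_pow, one_pow]

/-- in a finite subgroup of `GL₂(F)` of order prime to `p = char F`, a nonscalar element has
`t² ≠ 4d` -/
theorem trace_sq_ne_of_nonscalar (p : ℕ) [Fact p.Prime] [CharP F p] (h2 : (2 : F) ≠ 0)
    (K : Subgroup (GL (Fin 2) F)) [Finite K] (hpK : ¬ p ∣ Nat.card K)
    (g : GL (Fin 2) F) (hg : g ∈ K)
    (hns : (g : Matrix (Fin 2) (Fin 2) F) 0 1 ≠ 0 ∨ (g : Matrix (Fin 2) (Fin 2) F) 1 0 ≠ 0 ∨
      (g : Matrix (Fin 2) (Fin 2) F) 0 0 ≠ (g : Matrix (Fin 2) (Fin 2) F) 1 1) :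
    (g : Matrix (Fin 2) (Fin 2) F).trace ^ 2 ≠ 4 * (g : Matrix (Fin 2) (Fin 2) F).det := by
  have hp : p.Prime := Fact.out
  intro htr
  set M : Matrix (Fin 2) (Fin 2) F := (g : Matrix (Fin 2) (Fin 2) F) with hM
  set ε : F := M.trace / 2 with hε
  have h1 : M.trace = 2 * ε := by rw [hε]; field_simp
  have h3 : M.det = ε ^ 2 := by
    have h4 : (4 : F) ≠ 0 := by
      have : (4 : F) = 2 * 2 := by norm_num
      rw [this]; exact mul_ne_zero h2 h2
    have : 4 * M.det = 4 * ε ^ 2 := by rw [← htr, h1]; ring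
    exact mul_left_cancel₀ h4 this
  have hN := sub_sq_eq_zero_of_trace_det M ε h3 h1
  have hMp := pow_char_of_sub_sq_eq_zero p M ε hN
  -- `g` is a power of `g ^ p`
  have hcop : p.Coprime (orderOf g) := by
    rw [Nat.Prime.coprime_iff_not_dvd hp]
    intro hd
    apply hpK
    have : orderOf (⟨g, hg⟩ : K) = orderOf g := Subgroup.orderOf_mk g hg
    rw [← this] at hd
    exact hd.trans (orderOf_dvd_natCard _)
  obtain ⟨m, hm⟩ := exists_pow_eq_self_of_coprime hcop
  have hMm : M = ((ε ^ p) ^ m) • (1 : Matrix (Fin 2) (Fin 2) F) := by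
    have h5 : ((g ^ p) ^ m : GL (Fin 2) F) = g := hm
    have h6 := congrArg (fun x : GL (Fin 2) F => (x : Matrix (Fin 2) (Fin 2) F)) h5
    simp only [Units.val_pow_eq_pow_val] at h6
    rw [← hM, hMp, smul_pow, one_pow] at h6
    exact h6.symm
  rcases hns with h | h | h
  · apply h; rw [hMm]; simp
  · apply h; rw [hMm]; simp
  · apply h; rw [hMm]; simp

theorem ncard_lt_of_lt {G : Type*} [Group G] {H K : Subgroup G} [Finite K] (h : H < K) :
    Nat.card H < Nat.card K := by
  have h1 : (H : Set G) ⊂ (K : Set G) := by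
    rw [Set.ssubset_iff_subset_ne]
    refine ⟨h.le, fun he => h.ne (SetLike.coe_injective he)⟩
  have h2 := Set.ncard_lt_ncard h1 (Set.toFinite _)
  rwa [← Nat.card_coe_set_eq, ← Nat.card_coe_set_eq] at h2

/-- matrix of a conjugate -/
theorem val_conj (h m : GL (Fin 2) F) :
    ((h * m * h⁻¹ : GL (Fin 2) F) : Matrix (Fin 2) (Fin 2) F)
      = (h : Matrix (Fin 2) (Fin 2) F) * (m : Matrix (Fin 2) (Fin 2) F)
        * ((h⁻¹ : GL (Fin 2) F) : Matrix (Fin 2) (Fin 2) F) := rfl

theorem val_mul_val_inv (h : GL (Fin 2) F) :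
    (h : Matrix (Fin 2) (Fin 2) F) * ((h⁻¹ : GL (Fin 2) F) : Matrix (Fin 2) (Fin 2) F) = 1 := by
  rw [← Units.val_mul, mul_inv_cancel]; rfl

theorem val_inv_mul_val (h : GL (Fin 2) F) :
    ((h⁻¹ : GL (Fin 2) F) : Matrix (Fin 2) (Fin 2) F) * (h : Matrix (Fin 2) (Fin 2) F) = 1 := by
  rw [← Units.val_mul, inv_mul_cancel]; rfl

theorem trace_conj (h m : GL (Fin 2) F) :
    ((h * m * h⁻¹ : GL (Fin 2) F) : Matrix (Fin 2) (Fin 2) F).trace
      = (m : Matrix (Fin 2) (Fin 2) F).trace := by
  rw [val_conj, Matrix.trace_mul_comm, ← mul_assoc, val_inv_mul_val, one_mul]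

theorem det_conj (h m : GL (Fin 2) F) :
    ((h * m * h⁻¹ : GL (Fin 2) F) : Matrix (Fin 2) (Fin 2) F).det
      = (m : Matrix (Fin 2) (Fin 2) F).det := by
  rw [val_conj, Matrix.det_mul, Matrix.det_mul]
  have h1 : (h : Matrix (Fin 2) (Fin 2) F).det
      * ((h⁻¹ : GL (Fin 2) F) : Matrix (Fin 2) (Fin 2) F).det = 1 := by
    rw [← Matrix.det_mul, val_mul_val_inv, Matrix.det_one]
  rw [mul_comm _ (m : Matrix (Fin 2) (Fin 2) F).det, mul_assoc, h1, mul_one]

/-- a finite solvable subgroup of odd order prime to `p` of `GL₂(F)`, `char F = p` odd, is abelian -/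
theorem commute_of_odd_solvable_p' (p : ℕ) [Fact p.Prime] [CharP F p] (hp2 : p ≠ 2) :
    ∀ (n : ℕ) (K : Subgroup (GL (Fin 2) F)), Finite K → Nat.card K = n → Odd n → ¬ p ∣ n →
      Group.IsSolvable K → ∀ a ∈ K, ∀ b ∈ K, a * b = b * a := by
  have hp : p.Prime := Fact.out
  have h2 : (2 : F) ≠ 0 := by
    intro h
    have h3 : ((2 : ℕ) : F) = 0 := by exact_mod_cast h
    rw [CharP.cast_eq_zero_iff F p] at h3
    have := (Nat.prime_dvd_prime_iff_eq hp Nat.prime_two).mp h3
    exact hp2 this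
  intro n
  induction n using Nat.strong_induction_on with
  | _ n ih =>
    intro K hfin hcard hodd hpn hsolv
    by_cases hbot : K = ⊥
    · subst hbot
      intro a ha b hb
      rw [Subgroup.mem_bot] at ha hb
      rw [ha, hb]
    have hlt : ⁅K, K⁆ < K := by
      have hle : ⁅K, K⁆ ≤ K := by
        rw [Subgroup.commutator_le]
        intro g₁ h₁ g₂ h₂
        rw [commutatorElement_def]
        exact K.mul_mem (K.mul_mem (K.mul_mem h₁ h₂) (K.inv_mem h₁)) (K.inv_mem h₂)
      refine lt_of_le_of_ne hle (fun he => ?_)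
      have : Nontrivial K := (Subgroup.nontrivial_iff_ne_bot K).mpr hbot
      have h1 := Group.IsSolvable.commutator_lt_top_of_nontrivial (↥K)
      apply h1.ne
      apply Subgroup.map_injective K.subtype_injective
      rw [Subgroup.map_subtype_commutator, he, ← MonoidHom.range_eq_map, Subgroup.range_subtype]
    set K' : Subgroup (GL (Fin 2) F) := ⁅K, K⁆ with hK'
    have hfin' : Finite K' :=
      Finite.of_injective (Subgroup.inclusion hlt.le) (Subgroup.inclusion_injective _)
    have hcard' : Nat.card K' ∣ n := hcard ▸ Subgroup.card_dvd_of_le hlt.le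
    have hltc : Nat.card K' < n := hcard ▸ ncard_lt_of_lt hlt
    have hsolv' : Group.IsSolvable K' :=
      Group.isSolvable_of_isSolvable_injective (Subgroup.inclusion_injective hlt.le)
    have hab' := ih (Nat.card K') hltc K' hfin' rfl (Odd.of_dvd_nat hodd hcard')
      (fun h => hpn (h.trans hcard')) hsolv'
    have hnorm : ∀ h ∈ K, ∀ m ∈ K', h * m * h⁻¹ ∈ K' := by
      intro h hh m hm
      have : h * m * h⁻¹ = ⁅h, m⁆ * m := by rw [commutatorElement_def]; group
      rw [this]
      exact K'.mul_mem (Subgroup.commutator_mem_commutator hh (hlt.le hm)) hm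
    have hoddpow : ∀ h ∈ K, ∃ j : ℕ, h ^ (2 * j + 1) = 1 := by
      intro h hh
      obtain ⟨j, hj⟩ := exists_odd_pow_eq_one (hcard ▸ hodd) (⟨h, hh⟩ : K)
      exact ⟨j, by simpa using congrArg Subtype.val hj⟩
    by_cases hsc : ∃ m ∈ K', ((m : Matrix (Fin 2) (Fin 2) F) 0 1 ≠ 0 ∨
        (m : Matrix (Fin 2) (Fin 2) F) 1 0 ≠ 0 ∨
        (m : Matrix (Fin 2) (Fin 2) F) 0 0 ≠ (m : Matrix (Fin 2) (Fin 2) F) 1 1)
    · obtain ⟨m, hmK', hns⟩ := hsc
      have hmK := hlt.le hmK'
      have htr := trace_sq_ne_of_nonscalar p h2 K (hcard ▸ hpn) m hmK hns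
      have hcm : ∀ h ∈ K, (h : Matrix (Fin 2) (Fin 2) F) * (m : Matrix (Fin 2) (Fin 2) F)
          = (m : Matrix (Fin 2) (Fin 2) F) * (h : Matrix (Fin 2) (Fin 2) F) := by
        intro h hh
        have hs'K' := hnorm h hh m hmK'
        have hc := hab' (h * m * h⁻¹) hs'K' m hmK'
        have hcM : ((h * m * h⁻¹ : GL (Fin 2) F) : Matrix (Fin 2) (Fin 2) F)
            * (m : Matrix (Fin 2) (Fin 2) F) = (m : Matrix (Fin 2) (Fin 2) F)
            * ((h * m * h⁻¹ : GL (Fin 2) F) : Matrix (Fin 2) (Fin 2) F) := by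
          rw [← Units.val_mul, ← Units.val_mul, hc]
        have hgrp : h * m = m * h := by
          rcases eq_or_add_eq_trace_of_commute h2 _ _ (det_conj h m) hcM (trace_conj h m) htr
            with h1 | h1
          · have h3 : h * m * h⁻¹ = m := Units.ext h1
            calc h * m = (h * m * h⁻¹) * h := by group
              _ = m * h := by rw [h3]
          · -- `h ^ 2` commutes with `m`
            have h3 : h * (h * m * h⁻¹) * h⁻¹ = m := by
              apply Units.ext
              rw [val_conj h (h * m * h⁻¹)]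
              have e1 : ((h * m * h⁻¹ : GL (Fin 2) F) : Matrix (Fin 2) (Fin 2) F)
                  = (m : Matrix (Fin 2) (Fin 2) F).trace • (1 : Matrix (Fin 2) (Fin 2) F)
                    - (m : Matrix (Fin 2) (Fin 2) F) := by
                rw [← h1]; abel
              rw [e1, mul_sub, sub_mul, mul_smul_comm, smul_mul_assoc, mul_one, val_mul_val_inv,
                ← val_conj, e1]
              abel
            have h4 : Commute (h * h) m := by
              show h * h * m = m * (h * h)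
              calc h * h * m = (h * (h * m * h⁻¹) * h⁻¹) * (h * h) := by group
                _ = m * (h * h) := by rw [h3]
            obtain ⟨j, hj⟩ := hoddpow h hh
            have h5 : h = ((h * h) ^ (j + 1)) := by
              rw [← pow_two, ← pow_mul]
              have : 2 * (j + 1) = (2 * j + 1) + 1 := by ring
              rw [this, pow_succ, hj, one_mul]
            have h6 : Commute ((h * h) ^ (j + 1)) m := h4.pow_left _
            rw [← h5] at h6
            exact h6
        rw [← Units.val_mul, ← Units.val_mul, hgrp]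
      intro a ha b hb
      apply Units.ext
      exact commute_of_commute_nonscalar _ _ _ hns (hcm a ha) (hcm b hb)
    · push Not at hsc
      intro a ha b hb
      rw [← commutatorElement_eq_one_iff_mul_comm]
      have hcK' : ⁅a, b⁆ ∈ K' := Subgroup.commutator_mem_commutator ha hb
      obtain ⟨h01, h10, h00⟩ := hsc _ hcK'
      set c : GL (Fin 2) F := ⁅a, b⁆ with hc
      set ζ : F := (c : Matrix (Fin 2) (Fin 2) F) 0 0 with hζ
      have hcval : (c : Matrix (Fin 2) (Fin 2) F) = ζ • (1 : Matrix (Fin 2) (Fin 2) F) := by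
        apply mat2_ext
        · simp [hζ]
        · simp [h01]
        · simp [h10]
        · simpa using h00.symm
      -- `a * b * a⁻¹ = c * b`
      have h3 : a * b * a⁻¹ = c * b := by rw [hc, commutatorElement_def]; group
      have h4 : (b : Matrix (Fin 2) (Fin 2) F).det = ζ ^ 2 * (b : Matrix (Fin 2) (Fin 2) F).det := by
        have := det_conj a b
        rw [h3, Units.val_mul, hcval, smul_mul_assoc, one_mul, Matrix.det_smul] at this
        simpa using this.symm
      have hbdet : (b : Matrix (Fin 2) (Fin 2) F).det ≠ 0 := by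
        have h5 : (b : Matrix (Fin 2) (Fin 2) F).det
            * ((b⁻¹ : GL (Fin 2) F) : Matrix (Fin 2) (Fin 2) F).det = 1 := by
          rw [← Matrix.det_mul, val_mul_val_inv, Matrix.det_one]
        intro h0
        rw [h0, zero_mul] at h5
        exact zero_ne_one h5
      have hζ2 : ζ ^ 2 = 1 := by
        have : (ζ ^ 2 - 1) * (b : Matrix (Fin 2) (Fin 2) F).det = 0 := by linear_combination -h4
        rcases mul_eq_zero.mp this with h | h
        · linear_combination h
        · exact absurd h hbdet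
      have hζ' : ζ = 1 ∨ ζ = -1 := by
        have : (ζ - 1) * (ζ + 1) = 0 := by linear_combination hζ2
        rcases mul_eq_zero.mp this with h | h
        · left; linear_combination h
        · right; linear_combination h
      rcases hζ' with h | h
      · apply Units.ext
        rw [hcval, h, one_smul]; rfl
      · exfalso
        obtain ⟨j, hj⟩ := hoddpow c (hlt.le hcK')
        have h6 := congrArg (fun x : GL (Fin 2) F => (x : Matrix (Fin 2) (Fin 2) F) 0 0) hj
        simp only [Units.val_pow_eq_pow_val] at h6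
        rw [hcval, h, smul_pow, one_pow, pow_succ, pow_mul] at h6
        simp at h6
        apply h2
        linear_combination -h6

/-- the subgroup of `GL₂(F)` of matrices of determinant one fixing the vector `v` -/
def fixDetOne (v : Fin 2 → F) : Subgroup (GL (Fin 2) F) where
  carrier := {g | (g : Matrix (Fin 2) (Fin 2) F).mulVec v = v ∧
    (g : Matrix (Fin 2) (Fin 2) F).det = 1}
  one_mem' := ⟨by simp, by simp⟩
  mul_mem' := by
    rintro a b ⟨ha, ha'⟩ ⟨hb, hb'⟩
    refine ⟨?_, ?_⟩
    · rw [Units.val_mul, ← Matrix.mulVec_mulVec, hb, ha]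
    · rw [Units.val_mul, Matrix.det_mul, ha', hb', mul_one]
  inv_mem' := by
    rintro a ⟨ha, ha'⟩
    refine ⟨?_, ?_⟩
    · conv_lhs => rw [← ha]
      rw [Matrix.mulVec_mulVec, val_inv_mul_val, Matrix.one_mulVec]
    · have h1 : (a : Matrix (Fin 2) (Fin 2) F).det
          * ((a⁻¹ : GL (Fin 2) F) : Matrix (Fin 2) (Fin 2) F).det = 1 := by
        rw [← Matrix.det_mul, val_mul_val_inv, Matrix.det_one]
      rw [ha', one_mul] at h1
      exact h1

theorem mem_fixDetOne (v : Fin 2 → F) (g : GL (Fin 2) F) :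
    g ∈ fixDetOne v ↔ (g : Matrix (Fin 2) (Fin 2) F).mulVec v = v ∧
      (g : Matrix (Fin 2) (Fin 2) F).det = 1 := Iff.rfl

theorem pow_char_eq_one_of_mem_fixDetOne (p : ℕ) [Fact p.Prime] [CharP F p] (v : Fin 2 → F)
    (hv0 : v ≠ 0) (g : GL (Fin 2) F) (hg : g ∈ fixDetOne v) : g ^ p = 1 := by
  obtain ⟨h1, h2⟩ := hg
  have htr := trace_eq_two_of_mulVec_eq _ h2 v hv0 h1
  apply Units.ext
  rw [Units.val_pow_eq_pow_val, pow_char_of_trace p _ 1 (one_pow 2) h2 htr, one_pow, one_smul]
  rfl

/-- eigenvector of the inverse -/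
theorem inv_mulVec_of_mulVec (g : GL (Fin 2) F) (v : Fin 2 → F) (hv0 : v ≠ 0) (c : F)
    (h : (g : Matrix (Fin 2) (Fin 2) F).mulVec v = c • v) :
    c ≠ 0 ∧ ((g⁻¹ : GL (Fin 2) F) : Matrix (Fin 2) (Fin 2) F).mulVec v = c⁻¹ • v := by
  have h1 : ((g⁻¹ : GL (Fin 2) F) : Matrix (Fin 2) (Fin 2) F).mulVec
      ((g : Matrix (Fin 2) (Fin 2) F).mulVec v) = v := by
    rw [Matrix.mulVec_mulVec, val_inv_mul_val, Matrix.one_mulVec]
  rw [h, Matrix.mulVec_smul] at h1
  have hc : c ≠ 0 := by
    rintro rfl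
    rw [zero_smul] at h1
    exact hv0 h1.symm
  refine ⟨hc, ?_⟩
  calc ((g⁻¹ : GL (Fin 2) F) : Matrix (Fin 2) (Fin 2) F).mulVec v
      = c⁻¹ • (c • ((g⁻¹ : GL (Fin 2) F) : Matrix (Fin 2) (Fin 2) F).mulVec v) := by
        rw [smul_smul, inv_mul_cancel₀ hc, one_smul]
    _ = c⁻¹ • v := by rw [h1]

/-- commutators of matrices with a common eigenvector fix it and have determinant one -/
theorem commutator_mem_fixDetOne (a b : GL (Fin 2) F) (v : Fin 2 → F) (hv0 : v ≠ 0)
    (ha : ∃ c : F, (a : Matrix (Fin 2) (Fin 2) F).mulVec v = c • v)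
    (hb : ∃ c : F, (b : Matrix (Fin 2) (Fin 2) F).mulVec v = c • v) :
    ⁅a, b⁆ ∈ fixDetOne v := by
  obtain ⟨ca, hca⟩ := ha
  obtain ⟨cb, hcb⟩ := hb
  obtain ⟨hca0, hca'⟩ := inv_mulVec_of_mulVec a v hv0 ca hca
  obtain ⟨hcb0, hcb'⟩ := inv_mulVec_of_mulVec b v hv0 cb hcb
  refine ⟨?_, ?_⟩
  · rw [commutatorElement_def, Units.val_mul, Units.val_mul, Units.val_mul,
      ← Matrix.mulVec_mulVec, hcb', Matrix.mulVec_smul, ← Matrix.mulVec_mulVec, hca',
      Matrix.mulVec_smul, ← Matrix.mulVec_mulVec, hcb, Matrix.mulVec_smul, hca, smul_smul,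
      smul_smul, smul_smul]
    have : cb⁻¹ * ca⁻¹ * cb * ca = 1 := by
      field_simp
    rw [this, one_smul]
  · have h1 : ∀ x : GL (Fin 2) F, (x : Matrix (Fin 2) (Fin 2) F).det
        * ((x⁻¹ : GL (Fin 2) F) : Matrix (Fin 2) (Fin 2) F).det = 1 := by
      intro x
      rw [← Matrix.det_mul, val_mul_val_inv, Matrix.det_one]
    rw [commutatorElement_def, Units.val_mul, Units.val_mul, Units.val_mul, Matrix.det_mul,
      Matrix.det_mul, Matrix.det_mul]
    calc (a : Matrix (Fin 2) (Fin 2) F).det * (b : Matrix (Fin 2) (Fin 2) F).det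
          * ((a⁻¹ : GL (Fin 2) F) : Matrix (Fin 2) (Fin 2) F).det
          * ((b⁻¹ : GL (Fin 2) F) : Matrix (Fin 2) (Fin 2) F).det
        = ((a : Matrix (Fin 2) (Fin 2) F).det
            * ((a⁻¹ : GL (Fin 2) F) : Matrix (Fin 2) (Fin 2) F).det)
          * ((b : Matrix (Fin 2) (Fin 2) F).det
            * ((b⁻¹ : GL (Fin 2) F) : Matrix (Fin 2) (Fin 2) F).det) := by ring
      _ = 1 := by rw [h1, h1, one_mul]

/-- **Core**: the derived subgroup of a finite solvable subgroup of odd order of `GL₂(F)`,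
`char F = p` odd, has exponent dividing `p`. -/
theorem commutator_pow_char_eq_one_of_odd_solvable (p : ℕ) [Fact p.Prime] [CharP F p]
    (hp2 : p ≠ 2) (K : Subgroup (GL (Fin 2) F)) [Finite K] (hodd : Odd (Nat.card K))
    (hsolv : Group.IsSolvable K) : ∀ c ∈ ⁅K, K⁆, c ^ p = 1 := by
  have hp : p.Prime := Fact.out
  by_cases hpK : p ∣ Nat.card K
  · obtain ⟨u, hu⟩ := exists_prime_orderOf_dvd_card' p hpK
    have hu1 : (u : GL (Fin 2) F) ≠ 1 := by
      intro h
      have : u = 1 := Subtype.ext h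
      rw [this, orderOf_one] at hu
      exact hp.one_lt.ne hu
    have hup : ((u : GL (Fin 2) F) : Matrix (Fin 2) (Fin 2) F) ^ p = 1 := by
      have h1 : u ^ p = 1 := by rw [← hu]; exact pow_orderOf_eq_one u
      have h2 := congrArg (fun x : K => ((x : GL (Fin 2) F) : Matrix (Fin 2) (Fin 2) F)) h1
      simpa using h2
    have hNp : (((u : GL (Fin 2) F) : Matrix (Fin 2) (Fin 2) F) - 1) ^ p = 0 := by
      rw [sub_pow_char_of_commute (R := Matrix (Fin 2) (Fin 2) F) (p := p) (Commute.one_right _),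
        hup, one_pow, sub_self]
    have hN := sq_eq_zero_of_pow_eq_zero _ p hNp
    obtain ⟨v, hv0, hv⟩ := exists_invariant_line_of_odd p hp2 K hodd u.1 u.2 hu1 hN
    intro c hc
    have hle : ⁅K, K⁆ ≤ fixDetOne v := by
      rw [Subgroup.commutator_le]
      intro a ha b hb
      exact commutator_mem_fixDetOne a b v hv0 (hv a ha) (hv b hb)
    exact pow_char_eq_one_of_mem_fixDetOne p v hv0 c (hle hc)
  · have hab := commute_of_odd_solvable_p' p hp2 _ K inferInstance rfl hodd hpK hsolv
    have hbot : ⁅K, K⁆ ≤ ⊥ := by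
      rw [Subgroup.commutator_le]
      intro a ha b hb
      rw [Subgroup.mem_bot, commutatorElement_eq_one_iff_mul_comm]
      exact hab a ha b hb
    intro c hc
    rw [Subgroup.mem_bot.mp (hbot hc), one_pow]

end OddGL2

end Cfsg.Agent.Helper4
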