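import Mathlib
import Cfsg.Agent.S0640
import Cfsg.Agent.Helper4.OddGL2

set_option autoImplicit false
open Cfsg

/-!
# Odd-order solvable groups acting on `p`-groups of rank at most two (helper4)

`isPGroup_commutator_of_action`: a finite solvable group `K` of odd order acting on a group `D` of
exponent `p` (odd), class at most two and rank at most two, with a `p`-group as kernel, has a
`p`-group as derived subgroup.  The structural part on `D` is adapted from `Cfsg.Agent.S0640`.
-/

namespace Cfsg.Agent.Helper4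

open scoped commutatorElement
open Cfsg.Agent.Helper86 Cfsg.Agent.Helper24 Cfsg.Agent.S0640

section RankTwoAut

/-- a subgroup all of whose `p'`-elements lie in a `p`-subgroup is a `p`-group -/
theorem isPGroup_of_p'_mem {K : Type*} [Group K] [Finite K] {p : ℕ} [hp : Fact p.Prime]
    (M N : Subgroup K) (hN : IsPGroup p N)
    (h : ∀ g ∈ M, (orderOf g).Coprime p → g ∈ N) : IsPGroup p M := by
  rintro ⟨k, hk⟩
  have ho : orderOf k ≠ 0 := (orderOf_pos k).ne'
  obtain ⟨e, m, hm, heq⟩ := Nat.exists_eq_pow_mul_and_not_dvd ho p hp.out.ne_one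
  refine ⟨e, Subtype.ext ?_⟩
  show k ^ p ^ e = 1
  set g := k ^ p ^ e with hg
  have hgM : g ∈ M := M.pow_mem hk _
  have hgm : g ^ m = 1 := by rw [hg, ← pow_mul, ← heq, pow_orderOf_eq_one]
  have hcop : (orderOf g).Coprime p :=
    Nat.Coprime.coprime_dvd_left (orderOf_dvd_of_pow_eq_one hgm)
      ((Nat.Prime.coprime_iff_not_dvd hp.out).mpr hm).symm
  have hgN := h g hgM hcop
  obtain ⟨j, hj⟩ := hN ⟨g, hgN⟩
  have hj' : g ^ p ^ j = 1 := by simpa using congrArg Subtype.val hj
  have h1 : orderOf g = 1 :=
    Nat.Coprime.eq_one_of_dvd (hcop.pow_right j) (orderOf_dvd_of_pow_eq_one hj')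
  exact orderOf_eq_one_iff.mp h1

/-- transfer of "the derived subgroup is a `p`-group" along a homomorphism with `p`-group kernel -/
theorem isPGroup_commutator_of_hom {K L : Type*} [Group K] [Group L] {p : ℕ} (φ : K →* L)
    (hker : ∀ k : K, φ k = 1 → ∃ i : ℕ, k ^ p ^ i = 1) (j : ℕ)
    (hrange : ∀ c ∈ ⁅φ.range, φ.range⁆, c ^ p ^ j = 1) :
    IsPGroup p (commutator K) := by
  rintro ⟨c, hc⟩
  have h1 : φ c ∈ ⁅φ.range, φ.range⁆ := by
    rw [MonoidHom.range_eq_map, ← Subgroup.map_commutator]
    exact Subgroup.mem_map_of_mem φ hc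
  have h2 := hrange _ h1
  rw [← map_pow] at h2
  obtain ⟨i, hi⟩ := hker _ h2
  refine ⟨j + i, Subtype.ext ?_⟩
  show c ^ p ^ (j + i) = 1
  rw [pow_add, pow_mul]
  exact hi

/-- the homomorphism `Aut(D) → Aut(D / Z(D))` -/
noncomputable def quotAutHom (D : Type*) [Group D] :
    MulAut D →* MulAut (D ⧸ Subgroup.center D) where
  toFun β := quotAut β
  map_one' := by
    ext u
    induction u using QuotientGroup.induction_on with
    | H u => rfl
  map_mul' β γ := by
    ext u
    induction u using QuotientGroup.induction_on with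
    | H u => rfl

theorem quotAutHom_apply {D : Type*} [Group D] (β : MulAut D) : quotAutHom D β = quotAut β := rfl

/-- structure of a nonabelian group of exponent `p`, class two and rank at most two
(adapted from `Cfsg.Agent.S0640.dvd_of_aut_exp_p`) -/
theorem exp_p_class_two_structure {D : Type*} [Group D] [Finite D] {p : ℕ} [hp : Fact p.Prime]
    (hexp : ∀ x : D, x ^ p = 1)
    (hcen : ∀ x y : D, ⁅x, y⁆ ∈ Subgroup.center D) (hrk : Cfsg.PRankLE p 2 D)
    (x y : D) (hxy : x * y ≠ y * x) :
    Nat.card (D ⧸ Subgroup.center D) = p ^ 2 ∧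
    (∀ u v : D ⧸ Subgroup.center D, u * v = v * u) ∧
    (∀ u : D ⧸ Subgroup.center D, u ^ p = 1) ∧
    (∀ (β : MulAut D) (r : ℕ), β ^ r = 1 → r.Coprime p → quotAut β = 1 → β = 1) := by
  classical
  have hDp : IsPGroup p D := fun x => ⟨1, by rw [pow_one]; exact hexp x⟩
  set Z : Subgroup D := Subgroup.center D with hZdef
  have hxZ : x ∉ Z := by
    intro h
    exact hxy ((Subgroup.mem_center_iff.mp h y).symm)
  haveI : Nontrivial D := ⟨⟨x * y, y * x, hxy⟩⟩
  have hZbot : Z ≠ ⊥ := (hDp.bot_lt_center).ne'
  -- the subgroup generated by `Z` and `x`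
  have hcommS : ∀ w : D, w * x = x * w →
      ∀ a ∈ ((Z : Set D) ∪ {x, w}), ∀ b ∈ ((Z : Set D) ∪ {x, w}), a * b = b * a := by
    intro w hw a ha b hb
    rcases ha with ha | ha
    · exact (Subgroup.mem_center_iff.mp ha b).symm
    · rcases hb with hb | hb
      · exact Subgroup.mem_center_iff.mp hb a
      · rcases ha with rfl | rfl <;> rcases hb with rfl | rfl
        · rfl
        · exact hw.symm
        · exact hw
        · rfl
  set Bx : Subgroup D := Subgroup.closure ((Z : Set D) ∪ {x, x}) with hBx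
  have hBxc : IsMulCommutative Bx := Subgroup.isMulCommutative_closure (hcommS x rfl)
  have hZBx : Z ≤ Bx := fun u hu => Subgroup.subset_closure (Or.inl hu)
  have hxBx : x ∈ Bx := Subgroup.subset_closure (Or.inr (Or.inl rfl))
  have hZlt : Z < Bx := lt_of_le_of_ne hZBx (fun h => hxZ (h ▸ hxBx))
  have hBxle : Nat.card Bx ≤ p ^ 2 := hrk Bx hBxc (fun a _ => hexp a)
  obtain ⟨a, ha⟩ := IsPGroup.iff_card.mp (hDp.to_subgroup Z)
  obtain ⟨b, hb⟩ := IsPGroup.iff_card.mp (hDp.to_subgroup Bx)
  have hb2 : b ≤ 2 := by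
    rw [hb] at hBxle
    exact (Nat.pow_le_pow_iff_right hp.out.one_lt).mp hBxle
  have hab : a < b := by
    have := card_lt_of_lt hZlt
    rw [ha, hb] at this
    exact (Nat.pow_lt_pow_iff_right hp.out.one_lt).mp this
  have ha0 : a ≠ 0 := by
    intro h0
    rw [h0, pow_zero] at ha
    exact hZbot (Subgroup.card_eq_one.mp ha)
  have ha1 : a = 1 := by omega
  have hb2' : b = 2 := by omega
  rw [ha1, pow_one] at ha
  rw [hb2'] at hb
  -- the centralizer of `x` is `Bx`
  have hcentx : ∀ w : D, w * x = x * w → w ∈ Bx := by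
    intro w hw
    set Bw : Subgroup D := Subgroup.closure ((Z : Set D) ∪ {x, w}) with hBw
    have hBwc : IsMulCommutative Bw := Subgroup.isMulCommutative_closure (hcommS w hw)
    have hBwle : Nat.card Bw ≤ p ^ 2 := hrk Bw hBwc (fun a _ => hexp a)
    have hle : Bx ≤ Bw := by
      apply Subgroup.closure_mono
      rintro u (hu | hu)
      · exact Or.inl hu
      · rcases hu with rfl | rfl
        · exact Or.inr (Or.inl rfl)
        · exact Or.inr (Or.inl rfl)
    have heq : Bx = Bw := Subgroup.eq_of_le_of_card_ge hle (by rw [hb]; exact hBwle)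
    rw [heq]
    exact Subgroup.subset_closure (Or.inr (Or.inr rfl))
  -- the order of `D`
  have hker : (commHom hcen x).ker = Bx := by
    ext d
    rw [MonoidHom.mem_ker, commHom_apply, commutatorElement_eq_one_iff_mul_comm]
    constructor
    · intro h
      exact hcentx d h
    · intro h
      have := hBxc.is_comm.comm ⟨d, h⟩ ⟨x, hxBx⟩
      exact congrArg Subtype.val this
  have hrange : (commHom hcen x).range ≤ Z := by
    rintro _ ⟨d, rfl⟩
    exact hcen d x
  have hcardD : Nat.card D ≤ p ^ 3 := by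
    have h1 : Nat.card D = Nat.card (D ⧸ (commHom hcen x).ker) * Nat.card (commHom hcen x).ker :=
      Subgroup.card_eq_card_quotient_mul_card_subgroup _
    have h2 : Nat.card (D ⧸ (commHom hcen x).ker) = Nat.card (commHom hcen x).range :=
      Nat.card_congr (QuotientGroup.quotientKerEquivRange (commHom hcen x)).toEquiv
    have h3 : Nat.card (commHom hcen x).range ≤ p := ha ▸ Subgroup.card_le_of_le hrange
    rw [h1, h2, hker, hb]
    calc Nat.card (commHom hcen x).range * p ^ 2 ≤ p * p ^ 2 := Nat.mul_le_mul_right _ h3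
      _ = p ^ 3 := by ring
  have hyBx : y ∉ Bx := by
    intro h
    have := hBxc.is_comm.comm ⟨x, hxBx⟩ ⟨y, h⟩
    exact hxy (congrArg Subtype.val this)
  obtain ⟨k, hk⟩ := IsPGroup.iff_card.mp hDp
  have hk3 : k = 3 := by
    have h1 : k ≤ 3 := by
      rw [hk] at hcardD
      exact (Nat.pow_le_pow_iff_right hp.out.one_lt).mp hcardD
    have h2 : 2 < k := by
      have hlt : Bx < ⊤ := lt_of_le_of_ne le_top (fun h => hyBx (h ▸ Subgroup.mem_top y))
      have := card_lt_of_lt hlt
      rw [hb, Subgroup.card_top, hk] at this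
      exact (Nat.pow_lt_pow_iff_right hp.out.one_lt).mp this
    omega
  rw [hk3] at hk
  -- the quotient by the centre
  have hcardV : Nat.card (D ⧸ Z) = p ^ 2 := by
    have h1 : Nat.card D = Nat.card (D ⧸ Z) * Nat.card Z :=
      Subgroup.card_eq_card_quotient_mul_card_subgroup _
    rw [hk, ha] at h1
    have h2 : p ^ 3 = p ^ 2 * p := by ring
    rw [h2] at h1
    exact (Nat.eq_of_mul_eq_mul_right hp.out.pos h1).symm
  have hcommV : ∀ u v : D ⧸ Z, u * v = v * u := by
    intro u v
    induction u using QuotientGroup.induction_on with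
    | H u =>
      induction v using QuotientGroup.induction_on with
      | H v =>
        rw [← QuotientGroup.mk_mul, ← QuotientGroup.mk_mul, QuotientGroup.eq]
        have h1 := hcen v⁻¹ u⁻¹
        have e : (u * v)⁻¹ * (v * u) = ⁅v⁻¹, u⁻¹⁆ := by
          rw [commutatorElement_def]; group
        rw [e]
        exact h1
  have hexpV : ∀ u : D ⧸ Z, u ^ p = 1 := by
    intro u
    induction u using QuotientGroup.induction_on with
    | H u =>
      rw [← QuotientGroup.mk_pow, hexp u]
      rfl
  refine ⟨hcardV, hcommV, hexpV, ?_⟩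
  intro β r hβq hcop h1
  have hmod : ∀ d : D, d⁻¹ * β d ∈ Z := by
    intro d
    have h2 : quotAut β (QuotientGroup.mk d) = QuotientGroup.mk d := by
      rw [h1]
      rfl
    rw [quotAut_mk] at h2
    exact QuotientGroup.eq.mp h2.symm
  -- `β` fixes `z = ⁅x, y⁆`
  set z : D := ⁅x, y⁆ with hz
  have hz1 : z ≠ 1 := by
    intro h
    rw [hz, commutatorElement_eq_one_iff_mul_comm] at h
    exact hxy h
  have hzZ : z ∈ Z := hcen x y
  have hβz : β z = z := by
    have ex : β x = x * (x⁻¹ * β x) := by group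
    have ey : β y = y * (y⁻¹ * β y) := by group
    rw [hz, map_commutatorElement, ex, ey]
    exact commutator_mul_central x y _ _ (hmod x) (hmod y)
  have hZz : Z = Subgroup.zpowers z := by
    symm
    apply Subgroup.eq_of_le_of_card_ge
    · rw [Subgroup.zpowers_le]
      exact hzZ
    · rw [ha, Nat.card_zpowers, orderOf_eq_prime (hexp z) hz1]
  have hβZ : ∀ u ∈ Z, β u = u := by
    intro u hu
    rw [hZz] at hu
    obtain ⟨i, rfl⟩ := Subgroup.mem_zpowers_iff.mp hu
    rw [map_zpow, hβz]
  ext d
  have := Cfsg.Agent.S5236.apply_eq_of_fixed (p := p) β hβq hcop d (hβZ _ (hmod d)) ⟨1, by rw [pow_one]; exact hexp _⟩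
  rw [this]
  rfl

/-- a homomorphism from a finite solvable group of odd order to `GL₂(𝔽_p)`, `p` odd, with a
`p`-group as kernel: the derived subgroup is a `p`-group -/
theorem isPGroup_commutator_of_hom_GL2 {K : Type*} [Group K] [Finite K] {p : ℕ}
    [hp : Fact p.Prime] (hp2 : p ≠ 2) (hodd : Odd (Nat.card K)) (hsolv : Group.IsSolvable K)
    (φ : K →* GL (Fin 2) (ZMod p)) (hker : ∀ k : K, φ k = 1 → ∃ i : ℕ, k ^ p ^ i = 1) :
    IsPGroup p (commutator K) := by
  have hfin : Finite φ.range := Finite.of_surjective φ.rangeRestrict φ.rangeRestrict_surjective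
  have hodd' : Odd (Nat.card φ.range) := Odd.of_dvd_nat hodd (Subgroup.card_range_dvd φ)
  have hsolv' : Group.IsSolvable φ.range :=
    Group.isSolvable_of_surjective (f := φ.rangeRestrict) φ.rangeRestrict_surjective
  have h := commutator_pow_char_eq_one_of_odd_solvable (F := ZMod p) p hp2 φ.range hodd' hsolv'
  apply isPGroup_commutator_of_hom φ hker 1
  intro c hc
  rw [pow_one]
  exact h c hc

/-- **Action lemma**: a finite solvable group `K` of odd order acting on a group `D` of odd prime
exponent `p`, class at most two and rank at most two, such that the kernel of the action is a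
`p`-group, has a `p`-group as derived subgroup. -/
theorem isPGroup_commutator_of_action {D K : Type*} [Group D] [Finite D] [Group K] [Finite K]
    {p : ℕ} [hp : Fact p.Prime] (hp2 : p ≠ 2)
    (hexp : ∀ x : D, x ^ p = 1) (hcen : ∀ x y : D, ⁅x, y⁆ ∈ Subgroup.center D)
    (hrk : Cfsg.PRankLE p 2 D) (hodd : Odd (Nat.card K)) (hsolv : Group.IsSolvable K)
    (ψ : K →* MulAut D) (hker : IsPGroup p ψ.ker) : IsPGroup p (commutator K) := by
  classical
  have hDp : IsPGroup p D := fun x => ⟨1, by rw [pow_one]; exact hexp x⟩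
  have hker' : ∀ k : K, ψ k = 1 → ∃ i : ℕ, k ^ p ^ i = 1 := by
    intro k hk
    obtain ⟨i, hi⟩ := hker ⟨k, hk⟩
    exact ⟨i, by simpa using congrArg Subtype.val hi⟩
  by_cases hcomm : ∀ a b : D, a * b = b * a
  · have hle : Nat.card D ≤ p ^ 2 := by
      have h1 := hrk ⊤ ⟨⟨fun a b => Subtype.ext (hcomm a b)⟩⟩ (fun a _ => hexp a)
      rwa [Subgroup.card_top] at h1
    obtain ⟨k, hk⟩ := IsPGroup.iff_card.mp hDp
    have hk2 : k ≤ 2 := by
      rw [hk] at hle
      exact (Nat.pow_le_pow_iff_right hp.out.one_lt).mp hle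
    interval_cases k
    · -- trivial `D`
      have : Subsingleton D := (Nat.card_eq_one_iff_unique.mp (by simpa using hk)).1
      apply isPGroup_commutator_of_hom ψ hker' 0
      intro c _
      rw [pow_zero, pow_one]
      ext x
      exact Subsingleton.elim _ _
    · -- cyclic `D`
      have hcyc : IsCyclic D := isCyclic_of_prime_card (by simpa using hk)
      have hab : ∀ α β : MulAut D, α * β = β * α := by
        intro α β
        apply (IsCyclic.mulAutMulEquiv D).injective
        rw [map_mul, map_mul, mul_comm]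
      apply isPGroup_commutator_of_hom ψ hker' 0
      have hbot : ⁅ψ.range, ψ.range⁆ ≤ ⊥ := by
        rw [Subgroup.commutator_le]
        intro a _ b _
        rw [Subgroup.mem_bot, commutatorElement_eq_one_iff_mul_comm]
        exact hab a b
      intro c hc
      rw [pow_zero, pow_one]
      exact Subgroup.mem_bot.mp (hbot hc)
    · -- `D` elementary abelian of order `p ^ 2`
      let _ : CommGroup D := { (inferInstance : Group D) with mul_comm := hcomm }
      obtain ⟨Θ, hΘ, -⟩ := exists_embedding_GL2_inv (A := D) p hexp hk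
      apply isPGroup_commutator_of_hom_GL2 hp2 hodd hsolv (Θ.comp ψ)
      intro k hk1
      apply hker' k
      apply hΘ
      rw [map_one]
      exact hk1
  · push Not at hcomm
    obtain ⟨x, y, hxy⟩ := hcomm
    obtain ⟨hcardV, hcommV, hexpV, hfaith⟩ := exp_p_class_two_structure hexp hcen hrk x y hxy
    let _ : CommGroup (D ⧸ Subgroup.center D) :=
      { (inferInstance : Group (D ⧸ Subgroup.center D)) with mul_comm := hcommV }
    obtain ⟨Θ, hΘ, -⟩ := exists_embedding_GL2_inv (A := D ⧸ Subgroup.center D) p hexpV hcardV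
    set φ : K →* GL (Fin 2) (ZMod p) := Θ.comp ((quotAutHom D).comp ψ) with hφ
    have hPker : IsPGroup p φ.ker := by
      apply isPGroup_of_p'_mem φ.ker ψ.ker hker
      intro g hg hcop
      rw [MonoidHom.mem_ker] at hg ⊢
      have h1 : quotAut (ψ g) = 1 := by
        apply hΘ
        rw [map_one]
        exact hg
      apply hfaith (ψ g) (orderOf g) _ hcop h1
      rw [← map_pow, pow_orderOf_eq_one, map_one]
    apply isPGroup_commutator_of_hom_GL2 hp2 hodd hsolv φ
    intro k hk1
    obtain ⟨i, hi⟩ := hPker ⟨k, hk1⟩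
    exact ⟨i, by simpa using congrArg Subtype.val hi⟩

end RankTwoAut

end Cfsg.Agent.Helper4
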