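import Mathlib
import Cfsg.Agent.Helper4.RankTwoAut
import Cfsg.Agent.Helper24.CritSub
import Cfsg.Agent.Helper55.SolvCore
import Cfsg.Agent.Helper54.PConstrained
import Cfsg.Agent.Lib.Cores

set_option autoImplicit false
open Cfsg

/-!
# Solvable groups of odd order and `p`-rank at most two (helper4)
-/

namespace Cfsg.Agent.Helper4

open scoped commutatorElement
open Cfsg.Agent.Helper24

section RankTwoSolv

/-- Generalisation of `S1449`: `A ∩ C(R)` is only assumed to be a `p`-group. -/
theorem isPGroup_commutator_of_normalizes {G : Type*} [Group G] [Finite G] (p : ℕ) [Fact p.Prime]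
    (hp : p ≠ 2) (R A : Subgroup G) (hR : IsPGroup p R) (hr : Cfsg.PRankLE p 2 R)
    (hA : A ≤ Subgroup.normalizer (R : Set G)) (hAs : Group.IsSolvable A)
    (hAodd : Odd (Nat.card A))
    (hfaith : IsPGroup p ↥(A ⊓ Subgroup.centralizer (R : Set G))) :
    IsPGroup p ↥⁅A, A⁆ := by
  classical
  have hpp : p.Prime := Fact.out
  obtain ⟨D, hDR, hDinv, hDexp, hDcl, hDfaith⟩ := exists_small_exponent_crit (p := p) R hR
  have hAD : A ≤ Subgroup.normalizer (D : Set G) := by
    intro a ha
    rw [Subgroup.mem_normalizer_iff]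
    intro h
    constructor
    · intro hh
      exact hDinv a (hA ha) h hh
    · intro hh
      have := hDinv a⁻¹ (Subgroup.inv_mem _ (hA ha)) _ hh
      simpa [mul_assoc] using this
  set ψ : ↥A →* MulAut ↥D := (D.normalizerMonoidHom).comp (Subgroup.inclusion hAD) with hψ
  have hψ_apply : ∀ (a : A) (x : D), ((ψ a x : D) : G) = a * x * a⁻¹ := by
    intro a x
    rfl
  have hexp : ∀ x : D, x ^ p = 1 := by
    intro x
    apply Subtype.ext
    rcases hDexp x x.2 with h | ⟨h, -⟩
    · simpa using h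
    · exact absurd h hp
  have hcen : ∀ x y : D, ⁅x, y⁆ ∈ Subgroup.center D := by
    intro x y
    rw [Subgroup.mem_center_iff]
    intro w
    apply Subtype.ext
    have := (hDcl x x.2 y (hDR y.2)).2 w w.2
    show (w : G) * ⁅(x : G), (y : G)⁆ = ⁅(x : G), (y : G)⁆ * w
    exact this.symm
  have hrkD : Cfsg.PRankLE p 2 D := by
    intro B hB hBexp
    have hinj : Function.Injective (Subgroup.inclusion hDR) := Subgroup.inclusion_injective hDR
    have hcard : Nat.card (B.map (Subgroup.inclusion hDR)) = Nat.card B :=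
      Nat.card_congr (B.equivMapOfInjective _ hinj).symm.toEquiv
    rw [← hcard]
    apply hr
    · refine ⟨⟨?_⟩⟩
      rintro ⟨_, ⟨a, ha, rfl⟩⟩ ⟨_, ⟨b, hb, rfl⟩⟩
      apply Subtype.ext
      have := hB.is_comm.comm ⟨a, ha⟩ ⟨b, hb⟩
      have h2 := congrArg (fun v : B => Subgroup.inclusion hDR (v : D)) this
      simpa using h2
    · rintro _ ⟨a, ha, rfl⟩
      rw [← map_pow, hBexp a ha, map_one]
  have hker : IsPGroup p ψ.ker := by
    apply isPGroup_of_p'_mem ψ.ker ((A ⊓ Subgroup.centralizer (R : Set G)).subgroupOf A)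
      hfaith.comap_subtype
    intro g hg hcop
    have hgo : (orderOf (g : G)).Coprime p := by rwa [Subgroup.orderOf_coe]
    have hcent : ∀ x ∈ D, (g : G) * x = x * g := by
      intro x hx
      have h1 : ψ g ⟨x, hx⟩ = ⟨x, hx⟩ := by rw [MonoidHom.mem_ker.mp hg]; rfl
      have h2 : (g : G) * x * (g : G)⁻¹ = x := by
        have := congrArg Subtype.val h1
        rwa [hψ_apply] at this
      calc (g : G) * x = ((g : G) * x * (g : G)⁻¹) * g := by group
        _ = x * g := by rw [h2]
    have hR' := hDfaith g (hA g.2) hgo hcent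
    have h3 : (g : G) ∈ Subgroup.centralizer (R : Set G) := by
      rw [Subgroup.mem_centralizer_iff]
      intro x hx
      exact (hR' x hx).symm
    rw [Subgroup.mem_subgroupOf]
    exact ⟨g.2, h3⟩
  have hfinal := isPGroup_commutator_of_action hp hexp hcen hrkD hAodd hAs ψ hker
  rw [← Subgroup.map_subtype_commutator A]
  exact hfinal.map A.subtype

/-- The `p`-rank does not grow in quotients by normal `p'`-subgroups. -/
theorem pRankLE_quotient_of_coprime {G : Type*} [Group G] [Finite G] (p k : ℕ) [hp : Fact p.Prime]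
    (K : Subgroup G) [K.Normal] (hK : (Nat.card K).Coprime p) (hr : Cfsg.PRankLE p k G) :
    Cfsg.PRankLE p k (G ⧸ K) := by
  classical
  intro B hB hBexp
  set π := QuotientGroup.mk' K with hπ
  set A : Subgroup G := B.comap π with hA
  obtain ⟨P⟩ : Nonempty (Sylow p A) := inferInstance
  set P' : Subgroup G := (P : Subgroup A).map A.subtype with hP'
  have hP'A : P' ≤ A := Subgroup.map_subtype_le _
  have hP'p : IsPGroup p P' := P.isPGroup'.map A.subtype
  have hBp : IsPGroup p B := fun x => ⟨1, by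
    rw [pow_one]
    exact Subtype.ext (hBexp x x.2)⟩
  -- `π` is injective on `P'`
  have hinj : ∀ x ∈ P', π x = 1 → x = 1 := by
    intro x hx h1
    have hxK : x ∈ K := by
      rw [hπ, QuotientGroup.mk'_apply, QuotientGroup.eq_one_iff] at h1
      exact h1
    obtain ⟨j, hj⟩ := hP'p ⟨x, hx⟩
    have hj' : x ^ p ^ j = 1 := by simpa using congrArg Subtype.val hj
    have h2 : orderOf x ∣ Nat.card K := by
      have : orderOf (⟨x, hxK⟩ : K) = orderOf x := Subgroup.orderOf_mk x hxK
      rw [← this]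
      exact orderOf_dvd_natCard _
    have h3 : orderOf x ∣ p ^ j := orderOf_dvd_of_pow_eq_one hj'
    have h4 : orderOf x = 1 :=
      Nat.eq_one_of_dvd_coprimes (hK.pow_right j) h2 h3
    exact orderOf_eq_one_iff.mp h4
  -- cardinalities
  have hKA : K ≤ A := by
    intro x hx
    rw [hA, Subgroup.mem_comap, hπ, QuotientGroup.mk'_apply, (QuotientGroup.eq_one_iff x).mpr hx]
    exact B.one_mem
  have hcardA : Nat.card A = Nat.card K * Nat.card B := by
    have h1 : A.index = B.index := by
      rw [hA]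
      exact Subgroup.index_comap_of_surjective B (QuotientGroup.mk'_surjective K)
    have h2 : Nat.card A * A.index = Nat.card G := Subgroup.card_mul_index A
    have h3 : Nat.card B * B.index = Nat.card (G ⧸ K) := Subgroup.card_mul_index B
    have h4 : Nat.card G = Nat.card (G ⧸ K) * Nat.card K :=
      Subgroup.card_eq_card_quotient_mul_card_subgroup K
    have h5 : B.index ≠ 0 := Subgroup.index_ne_zero_of_finite
    have h6 : Nat.card A * B.index = (Nat.card K * Nat.card B) * B.index := by
      rw [← h1, h2, h4, ← h3, h1]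
      ring
    exact Nat.eq_of_mul_eq_mul_right (Nat.pos_of_ne_zero h5) h6
  obtain ⟨b, hb⟩ := IsPGroup.iff_card.mp hBp
  have hcardP : Nat.card P' = Nat.card B := by
    have h1 : Nat.card P' = Nat.card (P : Subgroup A) :=
      Nat.card_congr ((P : Subgroup A).equivMapOfInjective A.subtype
        A.subtype_injective).symm.toEquiv
    rw [h1, Sylow.card_eq_multiplicity, hcardA, hb]
    have hK0 : Nat.card K ≠ 0 := Nat.card_pos.ne'
    rw [Nat.factorization_mul hK0 (pow_ne_zero _ hp.out.ne_zero), Finsupp.add_apply,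
      Nat.factorization_eq_zero_of_not_dvd ((Nat.Prime.coprime_iff_not_dvd hp.out).mp hK.symm),
      zero_add, Nat.factorization_pow, Finsupp.smul_apply, hp.out.factorization_self, smul_eq_mul,
      mul_one]
  rw [← hcardP]
  have hmemB : ∀ x ∈ P', π x ∈ B := fun x hx => Subgroup.mem_comap.mp (hP'A hx)
  apply hr
  · refine ⟨⟨?_⟩⟩
    rintro ⟨x, hx⟩ ⟨y, hy⟩
    apply Subtype.ext
    show x * y = y * x
    have h1 : π (x * y * (y * x)⁻¹) = 1 := by
      have hc := hB.is_comm.comm ⟨π x, hmemB x hx⟩ ⟨π y, hmemB y hy⟩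
      have hc' : π x * π y = π y * π x := congrArg Subtype.val hc
      rw [map_mul, map_inv, map_mul, map_mul, hc', mul_inv_cancel]
    have h2 := hinj _ (P'.mul_mem (P'.mul_mem hx hy) (P'.inv_mem (P'.mul_mem hy hx))) h1
    exact mul_inv_eq_one.mp h2
  · intro x hx
    apply hinj _ (P'.pow_mem hx p)
    rw [map_pow]
    exact hBexp _ (hmemB x hx)

/-- A normal subgroup of order prime to `p` and `p`-power index is a normal `p`-complement. -/
theorem hasNormalPComplement_of_coprime_of_index {X : Type*} [Group X] [Finite X] (p : ℕ)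
    [hp : Fact p.Prime] (N : Subgroup X) [hN : N.Normal] (hc : (Nat.card N).Coprime p) (m : ℕ)
    (hm : N.index = p ^ m) : Cfsg.HasNormalPComplement p X := by
  obtain ⟨P⟩ : Nonempty (Sylow p X) := inferInstance
  refine ⟨P, N, hN, ?_⟩
  have hcardP : Nat.card P = p ^ m := by
    rw [Sylow.card_eq_multiplicity, ← Subgroup.card_mul_index N, hm]
    have hN0 : Nat.card N ≠ 0 := Nat.card_pos.ne'
    rw [Nat.factorization_mul hN0 (pow_ne_zero _ hp.out.ne_zero), Finsupp.add_apply,
      Nat.factorization_eq_zero_of_not_dvd ((Nat.Prime.coprime_iff_not_dvd hp.out).mp hc.symm),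
      zero_add, Nat.factorization_pow, Finsupp.smul_apply, hp.out.factorization_self, smul_eq_mul,
      mul_one]
  apply Subgroup.isComplement'_of_coprime
  · rw [hcardP, ← hm]
    exact Subgroup.card_mul_index N
  · rw [hcardP]
    exact hc.pow_right m

/-- In a solvable group `G` of odd order and `p`-rank at most two, the derived subgroup of
`G / O_{p'}(G)` is a `p`-group, and `O_p(G / O_{p'}(G))` contains its centralizer. -/
theorem isPGroup_commutator_quotient_pPrimeCore {G : Type*} [Group G] [Finite G]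
    [Group.IsSolvable G] (hodd : Odd (Nat.card G)) (p : ℕ) [hp : Fact p.Prime] (hp2 : p ≠ 2)
    (hr : Cfsg.PRankLE p 2 G) :
    IsPGroup p (commutator (G ⧸ Cfsg.pPrimeCore p G)) ∧
    Cfsg.PRankLE p 2 (G ⧸ Cfsg.pPrimeCore p G) ∧
    Subgroup.centralizer (Cfsg.pCore p (G ⧸ Cfsg.pPrimeCore p G) : Set (G ⧸ Cfsg.pPrimeCore p G))
      ≤ Cfsg.pCore p (G ⧸ Cfsg.pPrimeCore p G) := by
  set K := Cfsg.pPrimeCore p G with hK
  have hKc : (Nat.card K).Coprime p := Cfsg.Agent.Lib.card_pPrimeCore_coprime p
  have hsolv : Group.IsSolvable (G ⧸ K) :=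
    Group.isSolvable_of_surjective (QuotientGroup.mk'_surjective K)
  have hoddq : Odd (Nat.card (G ⧸ K)) := Odd.of_dvd_nat hodd (Subgroup.card_quotient_dvd_card K)
  have hcore : Cfsg.pPrimeCore p (G ⧸ K) = ⊥ := Cfsg.Agent.Helper54.pPrimeCore_quotient_eq_bot
  have hCR := Cfsg.Agent.Helper55.centralizer_pCore_le (G := G ⧸ K) p hcore
  have hrq : Cfsg.PRankLE p 2 (G ⧸ K) := pRankLE_quotient_of_coprime p 2 K hKc hr
  refine ⟨?_, hrq, hCR⟩
  set R := Cfsg.pCore p (G ⧸ K) with hR
  have hRp : IsPGroup p R := Cfsg.Agent.Lib.isPGroup_pCore p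
  have hrR : Cfsg.PRankLE p 2 R := Cfsg.Agent.Lib.pRankLE_subgroup hrq R
  have htop_solv : Group.IsSolvable (⊤ : Subgroup (G ⧸ K)) :=
    Group.isSolvable_of_isSolvable_injective (f := (⊤ : Subgroup (G ⧸ K)).subtype)
      (Subgroup.subtype_injective _)
  have htop_odd : Odd (Nat.card (⊤ : Subgroup (G ⧸ K))) := by rwa [Subgroup.card_top]
  have hnorm : (⊤ : Subgroup (G ⧸ K)) ≤ Subgroup.normalizer (R : Set (G ⧸ K)) := by
    rw [Subgroup.normalizer_eq_top]
  have hfaith : IsPGroup p ↥((⊤ : Subgroup (G ⧸ K)) ⊓ Subgroup.centralizer (R : Set (G ⧸ K))) := by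
    apply hRp.to_le
    rw [top_inf_eq]
    exact hCR
  have h := isPGroup_commutator_of_normalizes p hp2 R ⊤ hRp hrR hnorm htop_solv htop_odd hfaith
  rwa [← commutator_def] at h

end RankTwoSolv

end Cfsg.Agent.Helper4
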