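import Mathlib
import Cfsg.Agent.Helper4.RankTwoSolv
import Cfsg.Agent.S0044
import Cfsg.Agent.Helper60.Hall
import Cfsg.Agent.S0640

set_option autoImplicit false
open Cfsg

/-!
# Solvable groups of odd order whose Fitting subgroup has rank at most two (helper4)
-/

namespace Cfsg.Agent.Helper4

open scoped commutatorElement
open Cfsg.Agent.Helper24

section RankTwoSolv2

/-- relative form of `isPGroup_commutator_of_action`: the kernel of the action is a `p`-group
modulo a normal subgroup `C`. -/
theorem exists_pow_mem_of_action {D K : Type*} [Group D] [Finite D] [Group K] [Finite K]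
    {p : ℕ} [hp : Fact p.Prime] (hp2 : p ≠ 2)
    (hexp : ∀ x : D, x ^ p = 1) (hcen : ∀ x y : D, ⁅x, y⁆ ∈ Subgroup.center D)
    (hrk : Cfsg.PRankLE p 2 D) (hodd : Odd (Nat.card K)) (hsolv : Group.IsSolvable K)
    (ψ : K →* MulAut D) (C : Subgroup K) [C.Normal] (hC : ∀ x ∈ C, ψ x = 1)
    (hker : ∀ k : K, ψ k = 1 → ∃ i : ℕ, k ^ p ^ i ∈ C) :
    ∀ c ∈ commutator K, ∃ i : ℕ, c ^ p ^ i ∈ C := by
  have hC' : C ≤ ψ.ker := fun x hx => MonoidHom.mem_ker.mpr (hC x hx)
  set ψ' : K ⧸ C →* MulAut D := QuotientGroup.lift C ψ hC' with hψ'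
  have hsolv' : Group.IsSolvable (K ⧸ C) :=
    Group.isSolvable_of_surjective (QuotientGroup.mk'_surjective C)
  have hodd' : Odd (Nat.card (K ⧸ C)) := Odd.of_dvd_nat hodd (Subgroup.card_quotient_dvd_card C)
  have hker' : IsPGroup p ψ'.ker := by
    rintro ⟨y, hy⟩
    induction y using QuotientGroup.induction_on with
    | H k =>
      have h1 : ψ k = 1 := MonoidHom.mem_ker.mp hy
      obtain ⟨i, hi⟩ := hker k h1
      refine ⟨i, Subtype.ext ?_⟩
      show (QuotientGroup.mk k : K ⧸ C) ^ p ^ i = 1
      rw [← QuotientGroup.mk_pow]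
      exact (QuotientGroup.eq_one_iff _).mpr hi
  have h := isPGroup_commutator_of_action hp2 hexp hcen hrk hodd' hsolv' ψ' hker'
  intro c hc
  have hc' : (QuotientGroup.mk' C c) ∈ commutator (K ⧸ C) := by
    have h1 : QuotientGroup.mk' C c ∈ (commutator K).map (QuotientGroup.mk' C) :=
      Subgroup.mem_map_of_mem _ hc
    rw [commutator_def, Subgroup.map_commutator] at h1
    rw [commutator_def]
    exact Subgroup.commutator_mono le_top le_top h1
  obtain ⟨i, hi⟩ := h ⟨_, hc'⟩
  refine ⟨i, ?_⟩
  have hi' : (QuotientGroup.mk' C c) ^ p ^ i = 1 := by simpa using congrArg Subtype.val hi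
  rw [← map_pow, QuotientGroup.mk'_apply, QuotientGroup.eq_one_iff] at hi'
  exact hi'

/-- In a solvable group of odd order in which `O_p(G)` has rank at most two, the derived subgroup
acts on `O_p(G)` as a `p`-group. -/
theorem exists_pow_mem_centralizer_pCore {G : Type*} [Group G] [Finite G] [Group.IsSolvable G]
    (hodd : Odd (Nat.card G)) (p : ℕ) [hp : Fact p.Prime]
    (hr : Cfsg.PRankLE p 2 ↥(Cfsg.pCore p G)) :
    ∀ c ∈ commutator G, ∃ i : ℕ, c ^ p ^ i ∈ Subgroup.centralizer (Cfsg.pCore p G : Set G) := by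
  classical
  set R := Cfsg.pCore p G with hR
  have hRp : IsPGroup p R := Cfsg.Agent.Lib.isPGroup_pCore p
  by_cases hp2 : p = 2
  · -- `O_2(G) = 1`
    intro c _
    refine ⟨0, ?_⟩
    rw [Subgroup.mem_centralizer_iff]
    intro x hx
    have hx1 : x = 1 := by
      obtain ⟨j, hj⟩ := hRp ⟨x, hx⟩
      have hj' : x ^ p ^ j = 1 := by simpa using congrArg Subtype.val hj
      have h1 : orderOf x ∣ 2 ^ j := by rw [← hp2]; exact orderOf_dvd_of_pow_eq_one hj'
      have h2 : Odd (orderOf x) := Odd.of_dvd_nat hodd (orderOf_dvd_natCard x)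
      have h3 : orderOf x = 1 := by
        obtain ⟨k, -, hk⟩ := (Nat.dvd_prime_pow Nat.prime_two).mp h1
        rcases k with _ | k
        · simpa using hk
        · rw [hk] at h2
          exact absurd h2 (by rw [Nat.not_odd_iff_even]; exact (Nat.even_pow.mpr ⟨even_two, by omega⟩))
      exact orderOf_eq_one_iff.mp h3
    rw [hx1, one_mul, mul_one]
  obtain ⟨D, hDR, hDinv, hDexp, hDcl, hDfaith⟩ := exists_small_exponent_crit (p := p) R hRp
  have hnormR : ∀ g : G, g ∈ Subgroup.normalizer (R : Set G) := by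
    intro g
    rw [Subgroup.normalizer_eq_top]
    exact Subgroup.mem_top g
  haveI hDn : D.Normal := ⟨fun x hx g => hDinv g (hnormR g) x hx⟩
  set ψ : G →* MulAut ↥D := MulAut.conjNormal with hψ
  have hψ_apply : ∀ (a : G) (x : D), ((ψ a x : D) : G) = a * x * a⁻¹ := by
    intro a x
    rfl
  have hexp : ∀ x : D, x ^ p = 1 := by
    intro x
    apply Subtype.ext
    rcases hDexp x x.2 with h | ⟨h, -⟩
    · simpa using h
    · exact absurd h hp2
  have hcen : ∀ x y : D, ⁅x, y⁆ ∈ Subgroup.center D := by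
    intro x y
    rw [Subgroup.mem_center_iff]
    intro w
    apply Subtype.ext
    have := (hDcl x x.2 y (hDR y.2)).2 w w.2
    show (w : G) * ⁅(x : G), (y : G)⁆ = ⁅(x : G), (y : G)⁆ * w
    exact this.symm
  have hrkD : Cfsg.PRankLE p 2 D := by
    intro B hB hBexp
    have hinj : Function.Injective (Subgroup.inclusion hDR) := Subgroup.inclusion_injective hDR
    have hcard : Nat.card (B.map (Subgroup.inclusion hDR)) = Nat.card B :=
      Nat.card_congr (B.equivMapOfInjective _ hinj).symm.toEquiv
    rw [← hcard]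
    apply hr
    · refine ⟨⟨?_⟩⟩
      rintro ⟨_, ⟨a, ha, rfl⟩⟩ ⟨_, ⟨b, hb, rfl⟩⟩
      apply Subtype.ext
      have := hB.is_comm.comm ⟨a, ha⟩ ⟨b, hb⟩
      have h2 := congrArg (fun v : B => Subgroup.inclusion hDR (v : D)) this
      simpa using h2
    · rintro _ ⟨a, ha, rfl⟩
      rw [← map_pow, hBexp a ha, map_one]
  have hcent_of_ker : ∀ k : G, ψ k = 1 → ∀ x ∈ D, k * x = x * k := by
    intro k hk x hx
    have h1 : ψ k ⟨x, hx⟩ = ⟨x, hx⟩ := by rw [hk]; rfl
    have h2 : k * x * k⁻¹ = x := by
      have := congrArg Subtype.val h1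
      rwa [hψ_apply] at this
    calc k * x = (k * x * k⁻¹) * k := by group
      _ = x * k := by rw [h2]
  haveI hCn : (Subgroup.centralizer (R : Set G)).Normal := Subgroup.normal_centralizer
  apply exists_pow_mem_of_action hp2 hexp hcen hrkD hodd inferInstance ψ
    (Subgroup.centralizer (R : Set G))
  · intro x hx
    ext d
    rw [hψ_apply]
    have h1 := Subgroup.mem_centralizer_iff.mp hx (d : G) (hDR d.2)
    show x * (d : G) * x⁻¹ = (d : G)
    rw [← h1, mul_inv_cancel_right]
  · intro k hk
    have ho : orderOf k ≠ 0 := (orderOf_pos k).ne'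
    obtain ⟨e, m, hm, heq⟩ := Nat.exists_eq_pow_mul_and_not_dvd ho p hp.out.ne_one
    refine ⟨e, ?_⟩
    set g := k ^ p ^ e with hg
    have hgm : g ^ m = 1 := by rw [hg, ← pow_mul, ← heq, pow_orderOf_eq_one]
    have hcop : (orderOf g).Coprime p :=
      Nat.Coprime.coprime_dvd_left (orderOf_dvd_of_pow_eq_one hgm)
        ((Nat.Prime.coprime_iff_not_dvd hp.out).mpr hm).symm
    have hgker : ψ g = 1 := by rw [hg, map_pow, hk, one_pow]
    have hR' := hDfaith g (hnormR g) hcop (hcent_of_ker g hgker)
    rw [Subgroup.mem_centralizer_iff]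
    intro x hx
    exact (hR' x hx).symm

/-- a subgroup `K` containing, for every prime `r`, a subgroup whose index in `H` is prime to `r`,
contains `H` -/
theorem le_of_forall_prime_exists_le {G : Type*} [Group G] [Finite G] (H K : Subgroup G)
    (h : ∀ r : ℕ, r.Prime → ∃ P : Subgroup G, P ≤ K ∧ (P.relIndex H).Coprime r) : H ≤ K := by
  rw [← Subgroup.relIndex_eq_one]
  by_contra hne
  obtain ⟨r, hr, hrd⟩ := Nat.exists_prime_and_dvd hne
  obtain ⟨P, hPK, hcop⟩ := h r hr
  have hdvd : K.relIndex H ∣ P.relIndex H := Subgroup.relIndex_dvd_of_le_left H hPK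
  exact hr.one_lt.ne' (Nat.Coprime.eq_one_of_dvd hcop.symm (hrd.trans hdvd))

/-- the index of the image of a Sylow subgroup of `N` -/
theorem relIndex_map_sylow_coprime {G : Type*} [Group G] [Finite G] (N : Subgroup G) (q : ℕ)
    [Fact q.Prime] (Q : Sylow q N) :
    (((Q : Subgroup N).map N.subtype).relIndex N).Coprime q := by
  have h1 : ((Q : Subgroup N).map N.subtype).relIndex N = (Q : Subgroup N).index := by
    unfold Subgroup.relIndex Subgroup.subgroupOf
    rw [Subgroup.comap_map_eq_self_of_injective N.subtype_injective]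
  rw [h1, Nat.coprime_comm, Nat.Prime.coprime_iff_not_dvd Fact.out]
  exact Q.not_dvd_index

/-- **B&G-type theorem**: in a solvable group of odd order in which every `O_p(G)` has rank at
most two, the derived subgroup lies in the Fitting subgroup. -/
theorem commutator_le_fittingSubgroup {G : Type*} [Group G] [Finite G] [Group.IsSolvable G]
    (hodd : Odd (Nat.card G))
    (hr : ∀ p : ℕ, p.Prime → Cfsg.PRankLE p 2 ↥(Cfsg.pCore p G)) :
    commutator G ≤ Cfsg.fittingSubgroup G := by
  classical
  set F := Cfsg.fittingSubgroup G with hF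
  set N := commutator G with hN
  have hstar : ∀ p : ℕ, p.Prime → ∀ c ∈ N, ∃ i : ℕ,
      c ^ p ^ i ∈ Subgroup.centralizer (Cfsg.pCore p G : Set G) := by
    intro p hp
    haveI := Fact.mk hp
    exact exists_pow_mem_centralizer_pCore hodd p (hr p hp)
  have hOF : ∀ p : ℕ, p.Prime → Cfsg.pCore p G ≤ F := by
    intro p hp
    haveI := Fact.mk hp
    exact Cfsg.Agent.Lib.pCore_le_fittingSubgroup p
  have hOFi : ∀ p : ℕ, p.Prime → ((Cfsg.pCore p G).relIndex F).Coprime p := by
    intro p hp
    haveI := Fact.mk hp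
    exact Cfsg.Agent.Lib.relIndex_pCore_fittingSubgroup_coprime p
  -- an element centralizing every `O_p(G)` lies in `F`
  have hcentF : ∀ x : G, (∀ p : ℕ, p.Prime → x ∈ Subgroup.centralizer (Cfsg.pCore p G : Set G)) →
      x ∈ F := by
    intro x hx
    apply Cfsg.Agent.S0044.result
    have hle : F ≤ Subgroup.centralizer ({x} : Set G) := by
      apply le_of_forall_prime_exists_le
      intro r hr'
      refine ⟨Cfsg.pCore r G, ?_, hOFi r hr'⟩
      intro y hy
      rw [Subgroup.mem_centralizer_singleton_iff]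
      exact Subgroup.mem_centralizer_iff.mp (hx r hr') y hy
    rw [Subgroup.mem_centralizer_iff]
    intro y hy
    have := Subgroup.mem_centralizer_singleton_iff.mp (hle hy)
    exact this
  apply le_of_forall_prime_exists_le
  intro q hq
  haveI := Fact.mk hq
  obtain ⟨Q⟩ : Nonempty (Sylow q N) := inferInstance
  refine ⟨(Q : Subgroup N).map N.subtype, ?_, relIndex_map_sylow_coprime N q Q⟩
  -- the subgroup `T`
  set J : Subgroup G := ⨆ p ∈ {p : ℕ | p.Prime ∧ p ≠ q}, Cfsg.pCore p G with hJ
  haveI hJn : J.Normal := Subgroup.biSup_normal _ _ (fun p _ => inferInstance)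
  haveI hCJn : (Subgroup.centralizer (J : Set G)).Normal := Subgroup.normal_centralizer
  haveI hNn : N.Normal := by rw [hN, commutator_def]; infer_instance
  set T : Subgroup G := N ⊓ Subgroup.centralizer (J : Set G) with hT
  have hTn : T.Normal := Subgroup.normal_inf_normal _ _
  have hOJ : ∀ p : ℕ, p.Prime → p ≠ q → Cfsg.pCore p G ≤ J := by
    intro p hp hpq
    exact le_biSup (fun p => Cfsg.pCore p G) (show p ∈ {p : ℕ | p.Prime ∧ p ≠ q} from ⟨hp, hpq⟩)
  have hJF : J ≤ F := by
    apply iSup₂_le
    intro p hp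
    exact hOF p hp.1
  -- `q`-elements of `N` lie in `T`
  have hqT : ∀ y ∈ N, (∃ k : ℕ, y ^ q ^ k = 1) → y ∈ T := by
    rintro y hy ⟨k, hk⟩
    suffices hyc : y ∈ Subgroup.centralizer (J : Set G) from ⟨hy, hyc⟩
    have hle : J ≤ Subgroup.centralizer ({y} : Set G) := by
      apply iSup₂_le
      intro p hp
      obtain ⟨i, hi⟩ := hstar p hp.1 y hy
      have hcop : (p ^ i).Coprime (orderOf y) := by
        apply Nat.Coprime.pow_left
        have h1 : orderOf y ∣ q ^ k := orderOf_dvd_of_pow_eq_one hk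
        have h2 : p.Coprime (q ^ k) :=
          Nat.Coprime.pow_right k ((Nat.coprime_primes hp.1 hq).mpr hp.2)
        exact Nat.Coprime.coprime_dvd_right h1 h2
      obtain ⟨m, hm⟩ := exists_pow_eq_self_of_coprime hcop
      have hyc : y ∈ Subgroup.centralizer (Cfsg.pCore p G : Set G) := by
        rw [← hm]
        exact Subgroup.pow_mem _ hi m
      intro z hz
      rw [Subgroup.mem_centralizer_singleton_iff]
      exact Subgroup.mem_centralizer_iff.mp hyc z hz
    rw [Subgroup.mem_centralizer_iff]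
    intro z hz
    exact Subgroup.mem_centralizer_singleton_iff.mp (hle hz)
  -- the index of `J` in `F` is a power of `q`
  have hJidx : ∃ k : ℕ, J.relIndex F = q ^ k := by
    refine ⟨_, Nat.eq_prime_pow_of_unique_prime_dvd ?_ ?_⟩
    · have h0 : (J.subgroupOf F).index ≠ 0 := Subgroup.index_ne_zero_of_finite
      exact h0
    · intro d hd hdd
      by_contra hdq
      have h1 : J.relIndex F ∣ (Cfsg.pCore d G).relIndex F :=
        Subgroup.relIndex_dvd_of_le_left F (hOJ d hd hdq)
      exact hd.one_lt.ne' (Nat.Coprime.eq_one_of_dvd (hOFi d hd).symm (hdd.trans h1))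
  obtain ⟨kJ, hkJ⟩ := hJidx
  -- every element of `T` has a `q`-power in `J`
  have hpowJ : ∀ x ∈ T, ∃ i : ℕ, x ^ q ^ i ∈ J := by
    intro x hx
    obtain ⟨j, hj⟩ := hstar q hq x hx.1
    set u := x ^ q ^ j with hu
    have huT : u ∈ T := T.pow_mem hx _
    have huF : u ∈ F := by
      apply hcentF
      intro p hp
      by_cases hpq : p = q
      · rw [hpq]; exact hj
      · exact Subgroup.centralizer_le (hOJ p hp hpq) huT.2
    haveI : (J.subgroupOf F).Normal := Subgroup.normal_subgroupOf
    have h1 := Subgroup.pow_index_mem (J.subgroupOf F) (⟨u, huF⟩ : F)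
    rw [Subgroup.mem_subgroupOf] at h1
    have h2 : (J.subgroupOf F).index = q ^ kJ := hkJ
    rw [h2] at h1
    refine ⟨j + kJ, ?_⟩
    rw [pow_add, pow_mul]
    simpa using h1
  -- `T` is nilpotent
  have hTnil : Group.IsNilpotent T := by
    apply Group.of_quotient_center_nilpotent
    have hPG : IsPGroup q (↥T ⧸ Subgroup.center ↥T) := by
      intro y
      induction y using QuotientGroup.induction_on with
      | H x =>
        obtain ⟨i, hi⟩ := hpowJ x x.2
        refine ⟨i, ?_⟩
        rw [← QuotientGroup.mk_pow, QuotientGroup.eq_one_iff, Subgroup.mem_center_iff]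
        intro w
        apply Subtype.ext
        have hw := Subgroup.mem_centralizer_iff.mp w.2.2 _ hi
        simpa using hw.symm
    exact hPG.isNilpotent
  have hTF : T ≤ F := Cfsg.Agent.Lib.le_fittingSubgroup hTn hTnil
  rintro _ ⟨y, hy, rfl⟩
  apply hTF
  apply hqT _ y.2
  obtain ⟨k, hk⟩ := Q.isPGroup' ⟨y, hy⟩
  exact ⟨k, by simpa using congrArg (fun z : (Q : Subgroup N) => ((z : N) : G)) hk⟩

/-- `p`-rank bounds pass from a subgroup to a smaller subgroup -/
theorem pRankLE_of_le {G : Type*} [Group G] {p k : ℕ} {H K : Subgroup G} (hHK : H ≤ K)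
    (h : Cfsg.PRankLE p k K) : Cfsg.PRankLE p k H := by
  intro B hB hBexp
  have hinj : Function.Injective (Subgroup.inclusion hHK) := Subgroup.inclusion_injective hHK
  have hcard : Nat.card (B.map (Subgroup.inclusion hHK)) = Nat.card B :=
    Nat.card_congr (B.equivMapOfInjective _ hinj).symm.toEquiv
  rw [← hcard]
  apply h
  · refine ⟨⟨?_⟩⟩
    rintro ⟨_, ⟨a, ha, rfl⟩⟩ ⟨_, ⟨b, hb, rfl⟩⟩
    apply Subtype.ext
    have := hB.is_comm.comm ⟨a, ha⟩ ⟨b, hb⟩
    have h2 := congrArg (fun v : B => Subgroup.inclusion hHK (v : H)) this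
    simpa using h2
  · rintro _ ⟨a, ha, rfl⟩
    rw [← map_pow, hBexp a ha, map_one]

/-- an element normalizing `A` whose order divides `|A|`, `|A|` prime to the index of `A`, lies
in `A` -/
theorem mem_of_mem_normalizer_of_coprime {G : Type*} [Group G] [Finite G] (A : Subgroup G)
    (hcop : (Nat.card A).Coprime A.index) (y : G) (hy : y ∈ Subgroup.normalizer (A : Set G))
    (hyA : y ^ Nat.card A = 1) : y ∈ A := by
  set M := Subgroup.normalizer (A : Set G) with hM
  haveI : (A.subgroupOf M).Normal := Subgroup.normal_in_normalizer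
  have h1 : ((QuotientGroup.mk (⟨y, hy⟩ : M) : M ⧸ A.subgroupOf M)) ^ Nat.card A = 1 := by
    rw [← QuotientGroup.mk_pow]
    have : (⟨y, hy⟩ : M) ^ Nat.card A = 1 := Subtype.ext (by simpa using hyA)
    rw [this]
    rfl
  have h2 : orderOf (QuotientGroup.mk (⟨y, hy⟩ : M) : M ⧸ A.subgroupOf M) ∣ A.index := by
    have h3 : Nat.card (M ⧸ A.subgroupOf M) = A.relIndex M := (Subgroup.index_eq_card _).symm
    have h4 : A.relIndex M ∣ A.index := Subgroup.relIndex_dvd_index_of_le Subgroup.le_normalizer
    exact ((orderOf_dvd_natCard _).trans (h3 ▸ dvd_rfl)).trans h4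
  have h5 : orderOf (QuotientGroup.mk (⟨y, hy⟩ : M) : M ⧸ A.subgroupOf M) = 1 :=
    Nat.eq_one_of_dvd_coprimes hcop (orderOf_dvd_of_pow_eq_one h1) h2
  have h6 := orderOf_eq_one_iff.mp h5
  rw [QuotientGroup.eq_one_iff, Subgroup.mem_subgroupOf] at h6
  exact h6

/-- characteristic subgroups of a Sylow subgroup `S` inside `[S, S]` are normal when the derived
subgroup of `G` is nilpotent -/
theorem normal_of_char_le_commutator {G : Type*} [Group G] [Finite G]
    (hnil : Group.IsNilpotent ↥(commutator G))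
    (q : ℕ) [hq : Fact q.Prime] (S : Sylow q G) (T : Subgroup ↥(S : Subgroup G))
    (hT : T.Characteristic)
    (hTS : T.map (S : Subgroup G).subtype ≤ ⁅(S : Subgroup G), (S : Subgroup G)⁆) :
    (T.map (S : Subgroup G).subtype).Normal := by
  classical
  set N := commutator G with hN
  haveI hNn : N.Normal := by rw [hN, commutator_def]; infer_instance
  set T' : Subgroup G := T.map (S : Subgroup G).subtype with hT'
  -- the normalizer of `S` normalizes `T'`
  have hconj : ∀ g ∈ Subgroup.normalizer ((S : Subgroup G) : Set G), ∀ t ∈ T', g * t * g⁻¹ ∈ T' := by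
    intro g hg t ht
    obtain ⟨t₀, ht₀, rfl⟩ := Subgroup.mem_map.mp ht
    set φ : MulAut ↥(S : Subgroup G) := (S : Subgroup G).normalizerMonoidHom ⟨g, hg⟩ with hφ
    have hmap := Subgroup.characteristic_iff_map_eq.mp hT φ
    have hmem : φ t₀ ∈ T := by
      rw [← hmap]
      exact Subgroup.mem_map_of_mem _ ht₀
    refine Subgroup.mem_map.mpr ⟨φ t₀, hmem, ?_⟩
    rfl
  have hnormS : Subgroup.normalizer ((S : Subgroup G) : Set G) ≤ Subgroup.normalizer (T' : Set G) := by
    intro g hg
    rw [Subgroup.mem_normalizer_iff]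
    intro t
    constructor
    · exact hconj g hg t
    · intro ht
      have := hconj g⁻¹ (Subgroup.inv_mem _ hg) _ ht
      simpa [mul_assoc] using this
  have hS_le : (S : Subgroup G) ≤ Subgroup.normalizer (T' : Set G) :=
    Subgroup.le_normalizer.trans hnormS
  -- `T'` is a `q`-subgroup of `N`
  have hT'N : T' ≤ N := by
    refine hTS.trans ?_
    rw [hN, commutator_def]
    exact Subgroup.commutator_mono le_top le_top
  have hT'S : T' ≤ S := Subgroup.map_subtype_le T
  -- `N` normalizes `T'`
  have hN_le : N ≤ Subgroup.normalizer (T' : Set G) := by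
    apply le_of_forall_prime_exists_le
    intro r hr
    haveI := Fact.mk hr
    obtain ⟨P⟩ : Nonempty (Sylow r N) := inferInstance
    have hPn : (P : Subgroup N).Normal := inferInstance
    have hPc : (P : Subgroup N).Characteristic := Sylow.characteristic_of_normal P hPn
    have hPG : ((P : Subgroup N).map N.subtype).Normal :=
      ConjAct.normal_of_characteristic_of_normal
    refine ⟨(P : Subgroup N).map N.subtype, ?_, relIndex_map_sylow_coprime N r P⟩
    by_cases hrq : r = q
    · subst hrq
      have hPp : IsPGroup r ((P : Subgroup N).map N.subtype) := P.isPGroup'.map N.subtype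
      exact (Cfsg.Agent.Lib.normal_pGroup_le_sylow hPG hPp S).trans hS_le
    · -- `P` centralizes the `q`-subgroup `T'` of `N`
      refine le_trans ?_ (Subgroup.centralizer_le_normalizer _)
      rintro _ ⟨x, hx, rfl⟩
      rw [Subgroup.mem_centralizer_iff]
      intro t ht
      -- `t` lies in the Sylow `q`-subgroup of `N`
      have htN : t ∈ N := hT'N ht
      obtain ⟨Q⟩ : Nonempty (Sylow q N) := inferInstance
      have hQn : (Q : Subgroup N).Normal := inferInstance
      have htq : ∃ k : ℕ, (⟨t, htN⟩ : N) ^ q ^ k = 1 := by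
        obtain ⟨k, hk⟩ := S.isPGroup' ⟨t, hT'S ht⟩
        refine ⟨k, Subtype.ext ?_⟩
        simpa using congrArg Subtype.val hk
      have htQ : (⟨t, htN⟩ : N) ∈ (Q : Subgroup N) := by
        obtain ⟨k, hk⟩ := htq
        have hz : IsPGroup q (Subgroup.zpowers (⟨t, htN⟩ : N)) := by
          rintro ⟨z, hz⟩
          obtain ⟨n, rfl⟩ := Subgroup.mem_zpowers_iff.mp hz
          refine ⟨k, Subtype.ext ?_⟩
          show ((⟨t, htN⟩ : N) ^ n) ^ q ^ k = 1
          rw [← zpow_natCast, ← zpow_mul, mul_comm, zpow_mul, zpow_natCast, hk, one_zpow]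
        obtain ⟨Q', hQ'⟩ := hz.exists_le_sylow
        haveI := Sylow.unique_of_normal Q hQn
        have hQQ : Q' = Q := Subsingleton.elim _ _
        rw [← hQQ]
        exact hQ' (Subgroup.mem_zpowers _)
      have hdis : Disjoint (P : Subgroup N) (Q : Subgroup N) := by
        apply Subgroup.disjoint_of_coprime_natCard
        obtain ⟨a, ha⟩ := IsPGroup.iff_card.mp P.isPGroup'
        obtain ⟨b, hb⟩ := IsPGroup.iff_card.mp Q.isPGroup'
        rw [ha, hb]
        exact Nat.Coprime.pow _ _ ((Nat.coprime_primes hr hq.out).mpr hrq)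
      have hcomm := Subgroup.commute_of_normal_of_disjoint _ _ hPn hQn hdis x ⟨t, htN⟩ hx htQ
      have := congrArg Subtype.val hcomm.eq
      simpa using this.symm
  -- Frattini
  have hSM : (S : Subgroup G) ≤ (S : Subgroup G) ⊔ N := le_sup_left
  haveI hMn : ((S : Subgroup G) ⊔ N).Normal :=
    Subgroup.Normal.of_commutator_le G (le_sup_right)
  have hfrat := Sylow.normalizer_sup_eq_top (S.subtype hSM)
  have hmapS : (((S.subtype hSM : Sylow q ↥((S : Subgroup G) ⊔ N)) :
      Subgroup ↥((S : Subgroup G) ⊔ N)).map ((S : Subgroup G) ⊔ N).subtype) = (S : Subgroup G) := by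
    rw [Sylow.coe_subtype, Subgroup.subgroupOf_map_subtype, inf_eq_left.mpr hSM]
  rw [hmapS] at hfrat
  have htop : Subgroup.normalizer (T' : Set G) = ⊤ := by
    rw [eq_top_iff, ← hfrat]
    apply sup_le hnormS
    exact sup_le hS_le hN_le
  exact Subgroup.normalizer_eq_top_iff.mp htop

/-- Sylow tower: in a solvable group of odd order in which every `O_r(G)` has rank at most two
and `G' ≤ F(G)`, there is a characteristic Hall subgroup for the primes greater than `p`. -/
theorem exists_char_hall_gt {G : Type*} [Group G] [Finite G] [Group.IsSolvable G]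
    (hodd : Odd (Nat.card G))
    (hr : ∀ p : ℕ, p.Prime → Cfsg.PRankLE p 2 ↥(Cfsg.pCore p G))
    (hNF : commutator G ≤ Cfsg.fittingSubgroup G) (p : ℕ) :
    ∃ N : Subgroup G, N.Characteristic ∧ Cfsg.IsPiHall {q | q.Prime ∧ p < q} N := by
  classical
  set F := Cfsg.fittingSubgroup G with hF
  obtain ⟨A, hA1, hA2⟩ := Cfsg.Agent.Helper60.exists_hall (fun l => l.Prime ∧ p < l) G
  have hcop : (Nat.card A).Coprime A.index :=
    Nat.coprime_of_dvd (fun k hk h1 h2 => hA2 k hk h2 (hA1 k hk h1))
  have hOFi : ∀ r : ℕ, r.Prime → ((Cfsg.pCore r G).relIndex F).Coprime r := by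
    intro r hr'
    haveI := Fact.mk hr'
    exact Cfsg.Agent.Lib.relIndex_pCore_fittingSubgroup_coprime r
  -- Step 1: `A` centralizes `O_r(G)` for `r ≤ p`
  have hstep1 : ∀ r : ℕ, r.Prime → ¬ (p < r) →
      Cfsg.pCore r G ≤ Subgroup.centralizer (A : Set G) := by
    intro r hr' hrp
    haveI := Fact.mk hr'
    set R := Cfsg.pCore r G with hR
    have hRp : IsPGroup r R := Cfsg.Agent.Lib.isPGroup_pCore r
    rw [← Subgroup.le_centralizer_iff]
    by_cases hbot : R = ⊥
    · rw [hbot]
      intro a _
      rw [Subgroup.mem_centralizer_iff]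
      intro x hx
      rw [Subgroup.mem_bot.mp hx, one_mul, mul_one]
    have hr2 : r ≠ 2 := by
      rintro rfl
      apply hbot
      rw [Subgroup.eq_bot_iff_forall]
      intro x hx
      obtain ⟨j, hj⟩ := hRp ⟨x, hx⟩
      have hj' : x ^ 2 ^ j = 1 := by simpa using congrArg Subtype.val hj
      have h1 : orderOf x ∣ 2 ^ j := orderOf_dvd_of_pow_eq_one hj'
      have h2 : Odd (orderOf x) := Odd.of_dvd_nat hodd (orderOf_dvd_natCard x)
      obtain ⟨k, -, hk⟩ := (Nat.dvd_prime_pow Nat.prime_two).mp h1
      rcases k with _ | k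
      · exact orderOf_eq_one_iff.mp (by simpa using hk)
      · rw [hk] at h2
        exact absurd h2 (by
          rw [Nat.not_odd_iff_even]
          exact (Nat.even_pow.mpr ⟨even_two, by omega⟩))
    set c : G →* MulAut ↥R := MulAut.conjNormal with hc
    intro a ha
    have hca : c a = 1 := by
      by_contra hne
      have ho : orderOf (c a) ≠ 1 := fun h => hne (orderOf_eq_one_iff.mp h)
      obtain ⟨l, hl, hld⟩ := Nat.exists_prime_and_dvd ho
      have h1 : orderOf (c a) ∣ orderOf a := orderOf_map_dvd c a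
      have h2 : orderOf a ∣ Nat.card A := by
        have : orderOf (⟨a, ha⟩ : A) = orderOf a := Subgroup.orderOf_mk a ha
        rw [← this]
        exact orderOf_dvd_natCard _
      have hlπ := hA1 l hl (hld.trans (h1.trans h2))
      haveI : Finite (MulAut ↥R) := MulEquiv.finite_left
      have hdvd : l ∣ Nat.card (MulAut ↥R) := hld.trans (orderOf_dvd_natCard _)
      have hlr : l ≠ r := by
        rintro rfl
        exact hrp hlπ.2
      have := (Cfsg.Agent.S0640.result hr2 hRp (hr r hr') l hl hlr hdvd).2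
      omega
    rw [Subgroup.mem_centralizer_iff]
    intro x hx
    have h2 : c a ⟨x, hx⟩ = ⟨x, hx⟩ := by rw [hca]; rfl
    have h3 : a * x * a⁻¹ = x := by
      have := congrArg Subtype.val h2
      simpa [hc] using this
    calc x * a = (a * x * a⁻¹) * a := by rw [h3]
      _ = a * x := by group
  -- Step 2: `O_l(G) ≤ A` for `l > p`
  have hstep2 : ∀ l : ℕ, l.Prime → p < l → Cfsg.pCore l G ≤ A := by
    intro l hl hlp
    haveI := Fact.mk hl
    obtain ⟨P⟩ : Nonempty (Sylow l A) := inferInstance
    set P' : Subgroup G := (P : Subgroup A).map A.subtype with hP'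
    have hcard : Nat.card P' = l ^ (Nat.card G).factorization l := by
      have h1 : Nat.card P' = Nat.card (P : Subgroup A) :=
        Nat.card_congr ((P : Subgroup A).equivMapOfInjective A.subtype
          A.subtype_injective).symm.toEquiv
      rw [h1, Sylow.card_eq_multiplicity, ← Subgroup.card_mul_index A]
      have hA0 : Nat.card A ≠ 0 := Nat.card_pos.ne'
      have hi0 : A.index ≠ 0 := Subgroup.index_ne_zero_of_finite
      rw [Nat.factorization_mul hA0 hi0, Finsupp.add_apply,
        Nat.factorization_eq_zero_of_not_dvd (fun h => hA2 l hl h ⟨hl, hlp⟩), add_zero]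
    have hle := Cfsg.Agent.Lib.pCore_le_sylow (Sylow.ofCard P' hcard)
    exact hle.trans (Subgroup.map_subtype_le _)
  -- Step 3: `F` normalizes `A`
  have hstep3 : F ≤ Subgroup.normalizer (A : Set G) := by
    apply le_of_forall_prime_exists_le
    intro r hr'
    refine ⟨Cfsg.pCore r G, ?_, hOFi r hr'⟩
    by_cases hrp : p < r
    · exact (hstep2 r hr' hrp).trans Subgroup.le_normalizer
    · exact (hstep1 r hr' hrp).trans (Subgroup.centralizer_le_normalizer _)
  -- Step 4: `A` is normal, indeed characteristic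
  have hpow : ∀ x ∈ A, x ^ Nat.card A = 1 := by
    intro x hx
    have h1 : orderOf x ∣ Nat.card A := by
      have : orderOf (⟨x, hx⟩ : A) = orderOf x := Subgroup.orderOf_mk x hx
      rw [← this]
      exact orderOf_dvd_natCard _
    exact orderOf_dvd_iff_pow_eq_one.mp h1
  have hAn : A.Normal := by
    refine ⟨fun x hx g => ?_⟩
    apply mem_of_mem_normalizer_of_coprime A hcop
    · have h1 : g * x * g⁻¹ = ⁅g, x⁆ * x := by rw [commutatorElement_def]; group
      rw [h1]
      apply Subgroup.mul_mem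
      · apply hstep3
        apply hNF
        rw [commutator_def]
        exact Subgroup.commutator_mem_commutator (Subgroup.mem_top g) (Subgroup.mem_top x)
      · exact Subgroup.le_normalizer hx
    · have h2 : (g * x * g⁻¹) ^ Nat.card A = g * x ^ Nat.card A * g⁻¹ := by
        rw [conj_pow]
      rw [h2, hpow x hx, mul_one, mul_inv_cancel]
  refine ⟨A, ?_, ?_, ?_⟩
  · rw [Subgroup.characteristic_iff_map_le]
    intro φ
    rintro _ ⟨x, hx, rfl⟩
    apply mem_of_mem_normalizer_of_coprime A hcop
    · rw [Subgroup.normalizer_eq_top_iff.mpr hAn]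
      exact Subgroup.mem_top _
    · show (φ x) ^ Nat.card A = 1
      rw [← map_pow, hpow x hx, map_one]
  · intro l hl hld
    exact hA1 l hl hld
  · intro l hl hlπ hld
    exact hA2 l hl hld hlπ

end RankTwoSolv2

end Cfsg.Agent.Helper4
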