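import Cfsg.Agent.Helper4.BGUniqA
import Cfsg.Agent.Helper54.BGUnique2
import Cfsg.Agent.Helper31.LocalCore

/-!
# Bender–Glauberman §8, last theorem: specialization of (a), and part (b) (helper4)
-/

set_option autoImplicit false
set_option linter.unusedSectionVars false
set_option linter.unusedVariables false
set_option linter.style.haveILetI false

namespace Cfsg.Agent.Helper4.BGU

open Cfsg Cfsg.Agent.Helper29.Bender Cfsg.Agent.Helper31

variable {G : Type*} [Group G]

/-! ### Generic version of steps 3 and 4 -/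

section generic

variable [Finite G] {M X : Subgroup G}

/-- If the maximal `X`-invariant `q`-subgroups are unique, there are none (`q ∤ |F(M)|`,
`C_F(X) ≤ X ≤ F = F(M)`). -/
theorem inv_q_eq_bot_of_unique (hG : IsMinSimpleOddOrder G) (hM : IsCoatom M)
    (hX : X ≤ fittingOf M)
    (hCX : fittingOf M ⊓ Subgroup.centralizer (X : Set G) ≤ X)
    (q : ℕ) [hq : Fact q.Prime] (hqF : ¬ q ∣ Nat.card ↥(fittingOf M))
    (huniq : ∀ Y₁ ∈ maxInvSubgroups ⊤ X {q}, ∀ Y₂ ∈ maxInvSubgroups ⊤ X {q}, Y₁ = Y₂)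
    {U : Subgroup G} (hUq : IsPGroup q ↥U) (hXU : X ≤ Subgroup.normalizer (U : Set G)) :
    U = ⊥ := by
  have hs : IsSimpleGroup G := hG.2.1
  have hMs : Group.IsSolvable ↥M := hG.2.2.2 M hM.1
  obtain ⟨Y, hY, hUY⟩ := exists_maxInv_ge (mem_invSubgroups_of_isPGroup hq.out hUq hXU)
  have hYq := isPGroup_of_mem_maxInv hq.out hY
  have hXY : X ≤ Subgroup.normalizer (Y : Set G) := hY.1.2.2
  have hall : ∀ U' : Subgroup G, IsPGroup q ↥U' → X ≤ Subgroup.normalizer (U' : Set G) →
      U' ≤ Y := by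
    intro U' hU'q hXU'
    obtain ⟨Y', hY', hU'Y'⟩ := exists_maxInv_ge (mem_invSubgroups_of_isPGroup hq.out hU'q hXU')
    rw [huniq Y hY Y' hY']
    exact hU'Y'
  have hFY : fittingOf M ≤ Subgroup.normalizer (Y : Set G) :=
    le_normalizer_of_largest (isNilpotent_fittingOf M) hX hYq hXY hall
  -- `M` normalizes `Y`
  have hMY : M ≤ Subgroup.normalizer (Y : Set G) := by
    apply AInv.le_normalizer
    intro m hm y hy
    have hmN : m ∈ Subgroup.normalizer ((fittingOf M : Subgroup G) : Set G) :=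
      le_normalizer_fittingOf M hm
    have hinv := le_normalizer_map_conj_of_mem_normalizer hFY hmN
    have hsub := hall _ (isPGroup_map_conj hYq m) (hX.trans hinv)
    apply hsub
    rw [mem_map_conj_iff]
    have : m⁻¹ * (m * y * m⁻¹) * m = y := by group
    rw [this]
    exact hy
  have hY0 : Y = ⊥ := by
    by_contra hY0
    have hNtop := normalizer_ne_top_of_isPGroup hG.2.2.1 hYq hY0
    have hNM : Subgroup.normalizer (Y : Set G) = M := by
      rcases eq_or_lt_of_le hMY with h' | h'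
      · exact h'.symm
      · exact absurd (hM.2 _ h') hNtop
    have hYM : Y ≤ M := by rw [← hNM]; exact Subgroup.le_normalizer
    have hcop : (Nat.card ↥Y).Coprime (Nat.card ↥(fittingOf M)) := by
      obtain ⟨k, hk⟩ := IsPGroup.iff_card.mp hYq
      rw [hk]
      exact Nat.Coprime.pow_left k ((Nat.Prime.coprime_iff_not_dvd hq.out).mpr hqF)
    exact hY0 (inv_in_M_eq_bot hMs hX hCX hYM hXY hcop)
  rw [eq_bot_iff, ← hY0]
  exact hUY

/-- If for every prime `q ∤ |F(M)|` the maximal `X`-invariant `q`-subgroups are unique, then `X`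
normalizes no nontrivial subgroup of order coprime to `|F(M)|`. -/
theorem inv_eq_bot_of_unique (hG : IsMinSimpleOddOrder G) (hM : IsCoatom M)
    (hX : X ≤ fittingOf M)
    (hCX : fittingOf M ⊓ Subgroup.centralizer (X : Set G) ≤ X)
    (huniq : ∀ q : ℕ, q.Prime → ¬ q ∣ Nat.card ↥(fittingOf M) →
      ∀ Y₁ ∈ maxInvSubgroups ⊤ X {q}, ∀ Y₂ ∈ maxInvSubgroups ⊤ X {q}, Y₁ = Y₂)
    (Y : Subgroup G) (hcopF : (Nat.card ↥(fittingOf M)).Coprime (Nat.card ↥Y))
    (hXY : X ≤ Subgroup.normalizer (Y : Set G)) : Y = ⊥ := by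
  have hcop : (Nat.card ↥X).Coprime (Nat.card ↥Y) :=
    Nat.Coprime.coprime_dvd_left (Subgroup.card_dvd_of_le hX) hcopF
  have hXsolv : Group.IsSolvable ↥X := by
    have : Group.IsNilpotent ↥(fittingOf M) := isNilpotent_fittingOf M
    have : Group.IsSolvable ↥(fittingOf M) := inferInstance
    exact Group.isSolvable_of_isSolvable_injective (Subgroup.inclusion_injective hX)
  by_contra hY0
  have hcard : Nat.card ↥Y ≠ 1 := fun h' => hY0 (Subgroup.eq_bot_of_card_eq _ h')
  obtain ⟨q, hq, hqY⟩ := Nat.exists_prime_and_dvd hcard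
  have : Fact q.Prime := ⟨hq⟩
  have hqF : ¬ q ∣ Nat.card ↥(fittingOf M) := by
    intro hd
    exact hq.one_lt.ne' (Nat.eq_one_of_dvd_coprimes hcopF hd hqY)
  obtain ⟨P, hP⟩ := Cfsg.Agent.S0023.result X Y hXY hcop (Or.inl hXsolv) q
  have hPq : IsPGroup q ↥((P : Subgroup ↥Y).map Y.subtype) := P.isPGroup'.map _
  have hP0 := inv_q_eq_bot_of_unique hG hM hX hCX q hqF (huniq q hq hqF) hPq hP
  have hP0' : (P : Subgroup ↥Y) = ⊥ :=
    (Subgroup.map_eq_bot_iff_of_injective _ Y.subtype_injective).mp hP0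
  have hdvd : q ∣ Nat.card ↥(P : Subgroup ↥Y) := by
    have := P.dvd_card_of_dvd_card hqY
    simpa using this
  rw [hP0', Subgroup.card_bot] at hdvd
  exact hq.one_lt.ne' (Nat.dvd_one.mp hdvd)

end generic

/-! ### Part (a), as stated -/

section partA

variable [Finite G]

theorem isPGroup_of_isElementaryAbelian {p : ℕ} [Fact p.Prime] {A₀ : Subgroup G}
    (hA₀e : IsElementaryAbelian p A₀) : IsPGroup p ↥A₀ := by
  intro a
  refine ⟨1, ?_⟩
  apply Subtype.ext
  rw [pow_one]
  simpa using hA₀e.2 a a.2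

theorem dvd_card_of_cube_le {p : ℕ} [hp : Fact p.Prime] {A₀ : Subgroup G}
    (hA₀e : IsElementaryAbelian p A₀) (hA₀3 : p ^ 3 ≤ Nat.card ↥A₀) : p ∣ Nat.card ↥A₀ := by
  obtain ⟨k, hk⟩ := IsPGroup.iff_card.mp (isPGroup_of_isElementaryAbelian hA₀e)
  have hk0 : k ≠ 0 := by
    rintro rfl
    rw [hk, pow_zero] at hA₀3
    have : 1 < p ^ 3 := Nat.one_lt_pow (by omega) hp.out.one_lt
    omega
  rw [hk]
  exact dvd_pow_self p hk0

theorem le_centralizer_of_isElementaryAbelian {p : ℕ} {A₀ : Subgroup G}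
    (hA₀e : IsElementaryAbelian p A₀) : A₀ ≤ Subgroup.centralizer (A₀ : Set G) := by
  intro a ha
  rw [Subgroup.mem_centralizer_iff]
  intro b hb
  have := hA₀e.1.is_comm.comm ⟨b, hb⟩ ⟨a, ha⟩
  exact congrArg Subtype.val this

/-- **B–G §8, last theorem, part (a).** -/
theorem partA (hG : IsMinSimpleOddOrder G) (M : Subgroup G) (hM : IsCoatom M) (p : ℕ)
    [hp : Fact p.Prime] (A₀ : Subgroup G) (hA₀ : A₀ ≤ fittingOf M)
    (hA₀e : IsElementaryAbelian p A₀) (hA₀3 : p ^ 3 ≤ Nat.card ↥A₀)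
    (hnp : ¬ IsPGroup p ↥(fittingOf M)) :
    InUniqueMaximal (fittingOf M ⊓ Subgroup.centralizer (A₀ : Set G)) := by
  have hA₀X : A₀ ≤ fittingOf M ⊓ Subgroup.centralizer (A₀ : Set G) :=
    le_inf hA₀ (le_centralizer_of_isElementaryAbelian hA₀e)
  have hpF : p ∣ Nat.card ↥(fittingOf M) :=
    (dvd_card_of_cube_le hA₀e hA₀3).trans (Subgroup.card_dvd_of_le hA₀)
  have hF0 : Nat.card ↥(fittingOf M) ≠ 0 := Nat.card_pos.ne'
  have hq : ∃ q : ℕ, q.Prime ∧ q ∣ Nat.card ↥(fittingOf M) ∧ q ≠ p := by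
    by_contra hcon
    push Not at hcon
    apply hnp
    have := Nat.eq_prime_pow_of_unique_prime_dvd hF0 (fun {d} hd hdvd => hcon d hd hdvd)
    exact IsPGroup.of_card this
  obtain ⟨q, hqp, hqF, hne⟩ := hq
  have hF2 : 2 ≤ (Nat.card ↥(fittingOf M)).primeFactors.card := by
    have hsub : ({p, q} : Finset ℕ) ⊆ (Nat.card ↥(fittingOf M)).primeFactors := by
      intro r hr
      rw [Finset.mem_insert, Finset.mem_singleton] at hr
      rcases hr with rfl | rfl
      · exact Nat.mem_primeFactors.mpr ⟨hp.out, hpF, hF0⟩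
      · exact Nat.mem_primeFactors.mpr ⟨hqp, hqF, hF0⟩
    have := Finset.card_le_card hsub
    rwa [Finset.card_pair hne.symm] at this
  have h : Hyp M (fittingOf M ⊓ Subgroup.centralizer (A₀ : Set G)) :=
    { minsimple := hG
      coatom := hM
      hF2 := hF2
      hX := inf_le_left
      hCX := by
        intro w hw
        refine ⟨hw.1, ?_⟩
        exact Subgroup.centralizer_le (by exact_mod_cast hA₀X) hw.2 }
  exact h.unique hA₀X inf_le_right hA₀e hA₀3

end partA

/-! ### Part (b) -/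

section partB

variable [Finite G]

open Cfsg.Agent.Helper54.BGU in
theorem exists_sylow_of_isSylIn_top {p : ℕ} [Fact p.Prime] {R : Subgroup G}
    (h : IsSylIn p R ⊤) : ∃ S : Sylow p G, (S : Subgroup G) = R :=
  ⟨⟨R, h.2.1, fun {Q} hQ hRQ => h.2.2 Q hQ hRQ le_top⟩, rfl⟩

/-- The centre of `F`, as a subgroup of `G`, is normalized by `N_G(F)`. -/
theorem normalizer_le_normalizer_inf_centralizer (F : Subgroup G) :
    Subgroup.normalizer (F : Set G) ≤
      Subgroup.normalizer ((F ⊓ Subgroup.centralizer (F : Set G) : Subgroup G) : Set G) := by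
  apply AInv.le_normalizer
  intro m hm z hz
  have hmi : m⁻¹ ∈ Subgroup.normalizer (F : Set G) := Subgroup.inv_mem _ hm
  refine Subgroup.mem_inf.mpr ⟨(Subgroup.mem_normalizer_iff.mp hm z).mp hz.1, ?_⟩
  rw [Subgroup.mem_centralizer_iff]
  intro f hf
  have h1 : m⁻¹ * f * m ∈ F := by
    have := (Subgroup.mem_normalizer_iff.mp hmi f).mp hf
    simpa using this
  have h2 := (Subgroup.mem_centralizer_iff.mp hz.2) _ h1
  calc f * (m * z * m⁻¹) = m * ((m⁻¹ * f * m) * z) * m⁻¹ := by group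
    _ = m * (z * (m⁻¹ * f * m)) * m⁻¹ := by rw [h2]
    _ = m * z * m⁻¹ * f := by group

theorem inf_centralizer_ne_bot {p : ℕ} [Fact p.Prime] {F : Subgroup G} (hF : IsPGroup p ↥F)
    (hF0 : F ≠ ⊥) : F ⊓ Subgroup.centralizer (F : Set G) ≠ ⊥ := by
  haveI : Nontrivial ↥F := (Subgroup.nontrivial_iff_ne_bot F).mpr hF0
  haveI : Nontrivial (Subgroup.center ↥F) := hF.center_nontrivial
  obtain ⟨z, hz⟩ := exists_ne (1 : Subgroup.center ↥F)
  intro h
  apply hz
  have hmem : ((z : ↥F) : G) ∈ F ⊓ Subgroup.centralizer (F : Set G) := by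
    refine Subgroup.mem_inf.mpr ⟨(z : ↥F).2, ?_⟩
    rw [Subgroup.mem_centralizer_iff]
    intro f hf
    have := (Subgroup.mem_center_iff.mp z.2) ⟨f, hf⟩
    exact congrArg Subtype.val this
  rw [h, Subgroup.mem_bot] at hmem
  apply Subtype.ext
  apply Subtype.ext
  simpa using hmem

open Cfsg.Agent.Helper54.BGU in
/-- **B–G §8, last theorem, part (b).** -/
theorem partB (hG : IsMinSimpleOddOrder G) (M : Subgroup G) (hM : IsCoatom M) (p : ℕ)
    [hp : Fact p.Prime] (A₀ : Subgroup G) (hA₀ : A₀ ≤ fittingOf M)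
    (hA₀e : IsElementaryAbelian p A₀) (hA₀3 : p ^ 3 ≤ Nat.card ↥A₀)
    (hFp : IsPGroup p ↥(fittingOf M)) (P : Sylow p M) :
    ¬ p ∣ ((P : Subgroup M).map M.subtype).index ∧
      ∀ A : Subgroup G, IsSCN ((P : Subgroup M).map M.subtype) A → ¬ PRankLE p 2 ↥A →
        A ≤ fittingOf M ∧ InUniqueMaximal A := by
  classical
  have hpp : p.Prime := hp.out
  haveI hs : IsSimpleGroup G := hG.2.1
  have hMs : Group.IsSolvable ↥M := hG.2.2.2 M hM.1
  have hoddM : Odd (Nat.card ↥M) := Odd.of_dvd_nat hG.1 (Subgroup.card_subgroup_dvd_card M)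
  set F := fittingOf M with hF
  set P' : Subgroup G := (P : Subgroup M).map M.subtype with hP'
  have hpF : p ∣ Nat.card ↥F :=
    (dvd_card_of_cube_le hA₀e hA₀3).trans (Subgroup.card_dvd_of_le hA₀)
  have hF0 : F ≠ ⊥ := by
    intro h
    rw [h, Subgroup.card_bot] at hpF
    exact hpp.one_lt.ne' (Nat.dvd_one.mp hpF)
  have hFM : F ≤ M := fittingOf_le M
  have hMF : M ≤ Subgroup.normalizer (F : Set G) := le_normalizer_fittingOf M
  obtain ⟨kF, hkF⟩ := IsPGroup.iff_card.mp hFp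
  have hcopF : ∀ Y : Subgroup G, (Nat.card Y).Coprime p →
      (Nat.card Y).Coprime (Nat.card F) := by
    intro Y hY
    rw [hkF]
    exact Nat.Coprime.pow_right kF hY
  -- `O_{p'}(M) = 1`
  have hOpp : opp p M = ⊥ :=
    inv_in_M_eq_bot hMs (X := F) le_rfl inf_le_left (opp_le M)
      (hFM.trans (le_normalizer_opp M)) (hcopF _ (card_opp_coprime M))
  have hSyl : IsSylIn p P' M := isSylIn_of_sylow P
  have hP'p : IsPGroup p P' := hSyl.2.1
  have hP'M : P' ≤ M := hSyl.1
  have hFP' : F ≤ P' := by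
    have h1 : IsPGroup p ↥(P' ⊔ F) :=
      IsPGroup.to_sup_of_normal_right' hP'p hFp (hP'M.trans hMF)
    have h2 := hSyl.2.2 (P' ⊔ F) h1 le_sup_left (sup_le hP'M hFM)
    rw [← h2]
    exact le_sup_right
  have hP'0 : P' ≠ ⊥ := by
    intro h
    apply hF0
    rw [eq_bot_iff, ← h]
    exact hFP'
  have hMzl : M ≤ Subgroup.normalizer (zl P' : Set G) :=
    le_normalizer_zl_of_opp_eq_bot hMs hoddM hSyl hOpp
  have hzl0 : zl P' ≠ ⊥ := zl_ne_bot hP'p hP'0
  have hNzl : Subgroup.normalizer (zl P' : Set G) = M :=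
    normalizer_eq_of_coatom hM hzl0 ((zl_le P').trans hP'M) hMzl
  have hNP' : Subgroup.normalizer (P' : Set G) ≤ M := by
    rw [← hNzl]
    exact normalizer_le_normalizer_zl P'
  have hSylG : IsSylIn p P' ⊤ := hSyl.of_normalizer_le le_top (inf_le_left.trans hNP')
  obtain ⟨S, hS⟩ := exists_sylow_of_isSylIn_top hSylG
  refine ⟨?_, ?_⟩
  · rw [← hS]
    exact S.not_dvd_index
  intro A hSCN hA3
  obtain ⟨hAP, hPA, hPC⟩ := hSCN
  have hAM : A ≤ M := hAP.trans hP'M
  have hAp : IsPGroup p A := hP'p.to_le hAP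
  have hAcomm : A ≤ Subgroup.centralizer (A : Set G) := by
    intro a ha
    have h1 : a ∈ P' ⊓ Subgroup.centralizer (A : Set G) := by rw [hPC]; exact ha
    exact h1.2
  have hAc : IsMulCommutative A := by
    refine ⟨⟨fun a b => ?_⟩⟩
    apply Subtype.ext
    have := (Subgroup.mem_centralizer_iff.mp (hAcomm b.2)) a a.2
    simpa using this
  -- `A ≤ F`
  have hAF : A ≤ F := by
    have hAc' : IsMulCommutative (A.subgroupOf M) := by
      refine ⟨⟨fun a b => ?_⟩⟩
      apply Subtype.ext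
      apply Subtype.ext
      have := (Subgroup.mem_centralizer_iff.mp (hAcomm (Subgroup.mem_subgroupOf.mp b.2)))
        _ (Subgroup.mem_subgroupOf.mp a.2)
      simpa using this
    have hle : A.subgroupOf M ≤ (P : Subgroup M) := by
      intro x hx
      obtain ⟨y, hy, hyx⟩ := hAP (Subgroup.mem_subgroupOf.mp hx)
      have : y = x := Subtype.ext hyx
      rw [← this]
      exact hy
    have hnorm : (P : Subgroup M) ≤ Subgroup.normalizer ((A.subgroupOf M : Subgroup M) : Set M) := by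
      apply AInv.le_normalizer
      intro x hx u hu
      rw [Subgroup.mem_subgroupOf] at hu ⊢
      have hxN : (x : G) ∈ Subgroup.normalizer (A : Set G) := hPA ⟨x, hx, rfl⟩
      have := (Subgroup.mem_normalizer_iff.mp hxN (u : G)).mp hu
      simpa using this
    have h1457 := Cfsg.Agent.S1457.result (G := ↥M) hoddM p P (A.subgroupOf M) hle hAc' hnorm
    have hbot : pPrimeCore p ↥M = ⊥ :=
      (Subgroup.map_eq_bot_iff_of_injective _ M.subtype_injective).mp hOpp
    have hWp : IsPGroup p ↥(pPrimePCore p ↥M) := by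
      obtain ⟨a, ha⟩ := Cfsg.Agent.Helper31.relIndex_pPrimeCore_pPrimePCore (Γ := ↥M) (p := p)
      rw [hbot, Subgroup.relIndex_bot_left] at ha
      exact IsPGroup.of_card ha
    haveI hWn : (pPrimePCore p ↥M).Normal := by unfold pPrimePCore; infer_instance
    have hWF : (pPrimePCore p ↥M).map M.subtype ≤ fittingOf M := by
      apply le_fittingOf (Subgroup.map_subtype_le _)
      · apply AInv.le_normalizer
        rintro m hm _ ⟨w, hw, rfl⟩
        exact ⟨⟨m, hm⟩ * w * ⟨m, hm⟩⁻¹, hWn.conj_mem w hw _, by simp⟩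
      · haveI : Group.IsNilpotent ↥(pPrimePCore p ↥M) := hWp.isNilpotent
        exact Group.nilpotent_of_mulEquiv
          ((pPrimePCore p ↥M).equivMapOfInjective M.subtype M.subtype_injective)
    intro a ha
    apply hWF
    exact ⟨⟨a, hAM ha⟩, h1457 (Subgroup.mem_subgroupOf.mpr ha), rfl⟩
  refine ⟨hAF, ?_⟩
  -- `C_F(A) ≤ A`
  have hCA : F ⊓ Subgroup.centralizer (A : Set G) ≤ A := by
    intro w hw
    rw [← hPC]
    exact ⟨hFP' hw.1, hw.2⟩
  -- `C_G(A) ≤ M`
  set Z : Subgroup G := F ⊓ Subgroup.centralizer (F : Set G) with hZ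
  have hZ0 : Z ≠ ⊥ := inf_centralizer_ne_bot hFp hF0
  have hMZ : M ≤ Subgroup.normalizer (Z : Set G) :=
    hMF.trans (normalizer_le_normalizer_inf_centralizer F)
  have hNZ : Subgroup.normalizer (Z : Set G) = M :=
    normalizer_eq_of_coatom hM hZ0 (inf_le_left.trans hFM) hMZ
  have hZA : Z ≤ A := by
    intro z hz
    rw [← hPC]
    refine ⟨hFP' hz.1, ?_⟩
    exact Subgroup.centralizer_le (by exact_mod_cast hAF) hz.2
  have hCAM : Subgroup.centralizer (A : Set G) ≤ M := by
    rw [← hNZ]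
    refine (Subgroup.centralizer_le (by exact_mod_cast hZA)).trans ?_
    intro c hc
    rw [Subgroup.mem_normalizer_iff]
    intro z
    have hcomm : ∀ z ∈ Z, c * z * c⁻¹ = z := by
      intro z hz
      have := (Subgroup.mem_centralizer_iff.mp hc) z hz
      rw [← this]; group
    constructor
    · intro hz
      rw [hcomm z hz]; exact hz
    · intro hz
      have h1 : c⁻¹ * (c * z * c⁻¹) * c⁻¹⁻¹ ∈ Z := by
        have hci : c⁻¹ ∈ Subgroup.centralizer (Z : Set G) := Subgroup.inv_mem _ hc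
        have := (Subgroup.mem_centralizer_iff.mp hci) _ hz
        rw [← this]
        simpa using hz
      have e : c⁻¹ * (c * z * c⁻¹) * c⁻¹⁻¹ = z := by group
      rwa [e] at h1
  obtain ⟨kA, hkA⟩ := IsPGroup.iff_card.mp hAp
  have hA1 : ¬ PRankLE p 1 ↥A := by
    intro h
    apply hA3
    intro B hB hBe
    exact (h B hB hBe).trans (Nat.pow_le_pow_right hpp.pos (by norm_num))
  have hAbot : A ≠ ⊥ := by
    rintro rfl
    apply hA3
    intro B _ _
    have h1 : Nat.card B ≤ Nat.card (⊥ : Subgroup G) := Subgroup.card_le_card_group B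
    rw [Subgroup.card_bot] at h1
    exact h1.trans (Nat.one_le_pow _ _ hpp.pos)
  have hkA0 : kA ≠ 0 := by
    rintro rfl
    rw [pow_zero] at hkA
    exact hAbot ((Subgroup.card_eq_one).mp hkA)
  have hpA : p ∣ Nat.card A := by rw [hkA]; exact dvd_pow_self p hkA0
  have hpG : p ∣ Nat.card G := hpA.trans (Subgroup.card_subgroup_dvd_card A)
  have hSCN' : IsSCN (S : Subgroup G) A := by rw [hS]; exact ⟨hAP, hPA, hPC⟩
  have hTH : TransitivityHypothesis A :=
    Cfsg.Agent.S1396.result hG p hpG A hAp hAc (Or.inr ⟨S, hSCN', hA1⟩)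
  have hAeq : A ⊓ Subgroup.centralizer (A : Set G) = A := inf_of_le_left hAcomm
  have hZr : ¬ RankLE 2 ↥(A ⊓ Subgroup.centralizer (A : Set G)) := by
    rw [hAeq]
    intro h
    exact hA3 (h p hpp)
  -- `K = O_{p'}(C_G(A)) = 1`
  set K := piCoreOf (primesNotDvd (Nat.card A)) (Subgroup.centralizer (A : Set G)) with hK
  have hKC : K ≤ Subgroup.centralizer (A : Set G) := piCoreOf_le _ _
  have hKcop : (Nat.card K).Coprime p := by
    rw [Nat.coprime_comm, hpp.coprime_iff_not_dvd]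
    intro hd
    exact (piCoreOf_primes (primesNotDvd (Nat.card A))
      (Subgroup.centralizer (A : Set G)) p hpp hd).2 hpA
  have hAK : A ≤ Subgroup.normalizer (K : Set G) := by
    apply AInv.le_normalizer
    intro a ha k hk
    have := (Subgroup.mem_centralizer_iff.mp (hKC hk)) a ha
    have e : a * k * a⁻¹ = k := by rw [this]; group
    rw [e]; exact hk
  have hK0 : K = ⊥ :=
    inv_in_M_eq_bot hMs hAF hCA (hKC.trans hCAM) hAK (hcopF K hKcop)
  have huniq : ∀ q : ℕ, q.Prime → ¬ q ∣ Nat.card ↥(fittingOf M) →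
      ∀ Y₁ ∈ maxInvSubgroups ⊤ A {q}, ∀ Y₂ ∈ maxInvSubgroups ⊤ A {q}, Y₁ = Y₂ := by
    intro q hq hqF Y₁ hY₁ Y₂ hY₂
    have hqA : ¬ q ∣ Nat.card A := fun hd => hqF (hd.trans (Subgroup.card_dvd_of_le hAF))
    obtain ⟨c, hc, hce⟩ := bg_transitivity_rank3 hG hTH hZr hq hqA hY₁ hY₂
    rw [← hK, hK0, Subgroup.mem_bot] at hc
    rw [← hce, hc]
    ext x
    simp
  have hall := inv_eq_bot_of_unique hG hM hAF hCA huniq
  apply inUniqueMaximal_of_invariant_le hG M hM A hAp hAbot hAM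
  intro Y hY
  rw [mem_invSubgroups_iff] at hY
  rw [hall Y (hcopF Y hY.1).symm hY.2]
  exact bot_le

end partB

end Cfsg.Agent.Helper4.BGU
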