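import Mathlib
import Cfsg.Prelude.Def_Solvable
import Cfsg.Agent.Lib.Cores

/-!
# Dual Hall–Higman Lemma 1.2.3 (solvable form)

In a finite solvable group with `O_p(G) = 1`, the `p'`-core `O_{p'}(G)` contains its own
centralizer.
-/

set_option autoImplicit false

namespace Cfsg.Agent.Helper4.BG36

open Cfsg.Agent.Lib
open scoped commutatorElement

variable {G : Type*} [Group G]

/-- If every `p`-element of a finite group is trivial, then its order is prime to `p`. -/
theorem coprime_card_of_forall_pElement_eq_one [Finite G] {p : ℕ} [hp : Fact p.Prime]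
    (h : ∀ a : G, orderOf a = p → a = 1) : (Nat.card G).Coprime p := by
  rw [Nat.coprime_comm, Nat.Prime.coprime_iff_not_dvd hp.out]
  intro hdvd
  obtain ⟨x, hx⟩ := exists_prime_orderOf_dvd_card' p hdvd
  have := h x hx
  rw [this, orderOf_one] at hx
  exact hp.out.one_lt.ne hx

/-- Key step: if `A ⊴ G` centralizes `O_{p'}(G)`, has `[A,A] ≤ O_{p'}(G)`, and `O_p(G) = 1`, then
`A ≤ O_{p'}(G)`. -/
theorem le_pPrimeCore_of_commutator_le [Finite G] {p : ℕ} [hp : Fact p.Prime]
    (hcore : Cfsg.pCore p G = ⊥) (A : Subgroup G) (hAn : A.Normal)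
    (hAC : A ≤ Subgroup.centralizer (Cfsg.pPrimeCore p G : Set G))
    (hAA : ⁅A, A⁆ ≤ Cfsg.pPrimeCore p G) : A ≤ Cfsg.pPrimeCore p G := by
  have hQp : (Nat.card (Cfsg.pPrimeCore p G)).Coprime p := card_pPrimeCore_coprime p
  -- every element of order `p` of `A` is central in `A`
  have hcentral : ∀ a ∈ A, orderOf a = p → ∀ x ∈ A, x * a * x⁻¹ = a := by
    intro a ha hco x hx
    set c := a⁻¹ * (x * a * x⁻¹) with hc
    have hcQ : c ∈ Cfsg.pPrimeCore p G := by
      apply hAA
      have : c = ⁅a⁻¹, x⁆ := by
        rw [hc, commutatorElement_def]; group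
      rw [this]
      exact Subgroup.commutator_mem_commutator (A.inv_mem ha) hx
    have hac : Commute a c := by
      have := (Subgroup.mem_centralizer_iff.mp (hAC ha)) c hcQ
      exact this.symm
    have hxa : x * a * x⁻¹ = a * c := by rw [hc]; group
    have hpow : c ^ p = 1 := by
      have h1 : (x * a * x⁻¹) ^ p = 1 := by
        rw [conj_pow, ← hco, pow_orderOf_eq_one]; group
      rw [hxa, hac.mul_pow] at h1
      have h2 : a ^ p = 1 := by rw [← hco, pow_orderOf_eq_one]
      rw [h2, one_mul] at h1
      exact h1
    have hc1 : c = 1 := by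
      have hdvd : orderOf c ∣ p := orderOf_dvd_of_pow_eq_one hpow
      have hdvd2 : orderOf c ∣ Nat.card (Cfsg.pPrimeCore p G) := by
        have : orderOf (⟨c, hcQ⟩ : Cfsg.pPrimeCore p G) ∣ Nat.card (Cfsg.pPrimeCore p G) :=
          orderOf_dvd_natCard _
        rwa [Subgroup.orderOf_mk] at this
      have h1 : orderOf c ∣ Nat.gcd (Nat.card (Cfsg.pPrimeCore p G)) p := Nat.dvd_gcd hdvd2 hdvd
      rw [hQp] at h1
      exact orderOf_eq_one_iff.mp (Nat.dvd_one.mp h1)
    rw [hxa, hc1, mul_one]
  -- the subgroup generated by the elements of order `p` of `A`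
  set s : Set G := {a | a ∈ A ∧ orderOf a = p} with hs
  have hsA : s ⊆ A := fun a ha => ha.1
  have hclA : Subgroup.closure s ≤ A := (Subgroup.closure_le A).mpr hsA
  have hscomm : ∀ a ∈ s, ∀ b ∈ s, a * b = b * a := by
    intro a ha b hb
    have := hcentral a ha.1 ha.2 b hb.1
    calc a * b = (b * a * b⁻¹) * b := by rw [this]
      _ = b * a := by group
  have hcomm : IsMulCommutative ↥(Subgroup.closure s) := Subgroup.isMulCommutative_closure hscomm
  have hcomm' : ∀ a ∈ Subgroup.closure s, ∀ b ∈ Subgroup.closure s, a * b = b * a := by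
    intro a ha b hb
    have := hcomm.is_comm.comm (⟨a, ha⟩ : ↥(Subgroup.closure s)) ⟨b, hb⟩
    exact congrArg Subtype.val this
  have hord : ∀ a ∈ Subgroup.closure s, a ^ p = 1 := by
    intro a ha
    induction ha using Subgroup.closure_induction with
    | mem a ha => rw [← ha.2, pow_orderOf_eq_one]
    | one => simp
    | mul a b ha hb iha ihb =>
      have hab : Commute a b := hcomm' a ha b hb
      rw [hab.mul_pow, iha, ihb, one_mul]
    | inv a ha iha => rw [inv_pow, iha, inv_one]
  -- it is normal
  have hnormal : (Subgroup.closure s).Normal := by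
    have hconj : Group.conjugatesOfSet s = s := by
      apply Set.Subset.antisymm
      · intro b hb
        rw [Group.mem_conjugatesOfSet_iff] at hb
        obtain ⟨a, ha, hab⟩ := hb
        rw [isConj_iff] at hab
        obtain ⟨g, rfl⟩ := hab
        refine ⟨hAn.conj_mem a ha.1 g, ?_⟩
        have : orderOf (g * a * g⁻¹) = orderOf a := by
          have := orderOf_injective (MulAut.conj g).toMonoidHom (MulAut.conj g).injective a
          simpa using this
        rw [this]; exact ha.2
      · exact Group.subset_conjugatesOfSet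
    have : Subgroup.normalClosure s = Subgroup.closure s := by
      unfold Subgroup.normalClosure; rw [hconj]
    rw [← this]; exact Subgroup.normalClosure_normal
  -- it is a `p`-group
  have hpg : IsPGroup p ↥(Subgroup.closure s) := by
    intro g
    refine ⟨1, ?_⟩
    apply Subtype.ext
    rw [pow_one, Subgroup.coe_pow]
    exact hord g g.2
  have hbot : Subgroup.closure s = ⊥ := by
    have := le_pCore hnormal hpg
    rw [hcore] at this
    exact le_bot_iff.mp this
  -- so `A` has no element of order `p`
  have hAcard : (Nat.card A).Coprime p := by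
    apply coprime_card_of_forall_pElement_eq_one
    intro a ha
    have hmem : (a : G) ∈ Subgroup.closure s :=
      Subgroup.subset_closure ⟨a.2, by rw [Subgroup.orderOf_coe]; exact ha⟩
    rw [hbot, Subgroup.mem_bot] at hmem
    exact Subtype.ext hmem
  exact le_pPrimeCore hAn hAcard

/-- **Dual Hall–Higman Lemma 1.2.3** (solvable form): in a finite solvable group with trivial
`p`-core, the `p'`-core contains its own centralizer. -/
theorem centralizer_pPrimeCore_le [Finite G] [hsol : Group.IsSolvable G] (p : ℕ) [Fact p.Prime]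
    (h : Cfsg.pCore p G = ⊥) :
    Subgroup.centralizer (Cfsg.pPrimeCore p G : Set G) ≤ Cfsg.pPrimeCore p G := by
  haveI hQc : (Cfsg.pPrimeCore p G).Characteristic := pPrimeCore_characteristic p
  haveI hQn : (Cfsg.pPrimeCore p G).Normal := inferInstance
  set C := Subgroup.centralizer (Cfsg.pPrimeCore p G : Set G) with hC
  have hCn : C.Normal := Subgroup.normal_centralizer
  obtain ⟨N, hN⟩ := hsol.solvable
  -- downward induction
  have key : ∀ n : ℕ, n ≤ N → derivedSeries G (N - n) ⊓ C ≤ Cfsg.pPrimeCore p G := by
    intro n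
    induction n with
    | zero =>
      intro _
      rw [Nat.sub_zero, hN, bot_inf_eq]; exact bot_le
    | succ n ih =>
      intro hn
      have hn' : n ≤ N := Nat.le_of_succ_le hn
      have hstep : N - n = (N - (n + 1)) + 1 := by omega
      set E := derivedSeries G (N - (n + 1)) ⊓ C with hE
      have hEn : E.Normal := Subgroup.normal_inf_normal _ _
      apply le_pPrimeCore_of_commutator_le h E hEn inf_le_right
      refine le_trans ?_ (ih hn')
      rw [hstep, derivedSeries_succ]
      apply le_inf
      · exact Subgroup.commutator_mono inf_le_left inf_le_left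
      · exact le_trans (Subgroup.commutator_le_left E E) inf_le_right
  have := key N le_rfl
  rw [Nat.sub_self, derivedSeries_zero, top_inf_eq] at this
  exact this

end Cfsg.Agent.Helper4.BG36
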