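import Mathlib
import Cfsg.Agent.Helper4.StronglyEmb

/-!
# Tightly embedded subgroups: Aschbacher's lemma on `N_S(T)` (helper4)
-/

set_option autoImplicit false
set_option linter.style.haveILetI false

namespace Cfsg.Agent.Helper4

open scoped commutatorElement

variable {G : Type*} [Group G]

/-- `|N ⊔ H| = |N| |H|` when `H` normalizes `N` and `N ⊓ H = ⊥`. -/
theorem card_sup_of_le_normalizer [Finite G] (N H : Subgroup G)
    (hLE : H ≤ Subgroup.normalizer (N : Set G)) (hdisj : N ⊓ H = ⊥) :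
    Nat.card (N ⊔ H : Subgroup G) = Nat.card N * Nat.card H := by
  rw [← Nat.card_prod]
  symm
  apply Nat.card_congr
  refine Equiv.ofBijective (fun x : N × H => (⟨x.1.1 * x.2.1,
    Subgroup.mul_mem_sup x.1.2 x.2.2⟩ : (N ⊔ H : Subgroup G))) ⟨?_, ?_⟩
  · rintro ⟨⟨n, hn⟩, ⟨h, hh⟩⟩ ⟨⟨n', hn'⟩, ⟨h', hh'⟩⟩ hxy
    have h1 : n * h = n' * h' := congrArg Subtype.val hxy
    have h2 : n'⁻¹ * n = h' * h⁻¹ := by
      rw [eq_mul_inv_iff_mul_eq, mul_assoc, h1, inv_mul_cancel_left]
    have h3 : n'⁻¹ * n ∈ N ⊓ H := ⟨N.mul_mem (N.inv_mem hn') hn, by rw [h2]; exact H.mul_mem hh' (H.inv_mem hh)⟩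
    rw [hdisj, Subgroup.mem_bot] at h3
    have h4 : n = n' := by
      have := inv_mul_eq_one.mp h3
      exact this.symm
    subst h4
    have h5 : h = h' := mul_left_cancel h1
    subst h5
    rfl
  · rintro ⟨x, hx⟩
    have : x ∈ ((N ⊔ H : Subgroup G) : Set G) := hx
    rw [Subgroup.coe_mul_of_right_le_normalizer_left N H hLE] at this
    obtain ⟨n, hn, h, hh, rfl⟩ := this
    exact ⟨⟨⟨n, hn⟩, ⟨h, hh⟩⟩, rfl⟩

/-- a 2-group without involutions is trivial -/
theorem eq_bot_of_two_group_no_invol [Finite G] (U : Subgroup G) (hU : IsPGroup 2 U)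
    (hno : ∀ u ∈ U, orderOf u ≠ 2) : U = ⊥ := by
  by_contra hne
  have : Fact (Nat.Prime 2) := ⟨Nat.prime_two⟩
  obtain ⟨k, hk⟩ := hU.exists_card_eq
  have hk0 : k ≠ 0 := by
    rintro rfl
    rw [pow_zero] at hk
    exact hne (Subgroup.card_eq_one.mp hk)
  have heven : Even (Nat.card U) := by
    rw [hk]
    exact (Nat.even_pow.mpr ⟨even_two, hk0⟩)
  obtain ⟨t, htU, ht⟩ := (even_card_iff_exists_invol U).mp heven
  exact hno t htU ht

/-- element form of (the odd-intersection part of) tight embedding -/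
def TightE (K : Subgroup G) : Prop :=
  ∀ x u : G, u ∈ K → x⁻¹ * u * x ∈ K → orderOf u = 2 → x ∈ Subgroup.normalizer (K : Set G)

theorem mem_normalizer_map_conj (K : Subgroup G) (g x : G) :
    x ∈ Subgroup.normalizer ((K.map (MulAut.conj g).toMonoidHom : Subgroup G) : Set G) ↔
      g⁻¹ * x * g ∈ Subgroup.normalizer (K : Set G) := by
  rw [Subgroup.mem_normalizer_iff, Subgroup.mem_normalizer_iff]
  constructor
  · intro h k
    have := h (g * k * g⁻¹)
    simp only [Subgroup.mem_map, MulEquiv.coe_toMonoidHom, MulAut.conj_apply] at this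
    constructor
    · intro hk
      obtain ⟨k', hk', he⟩ := this.mp ⟨k, hk, rfl⟩
      have : g⁻¹ * x * g * k * (g⁻¹ * x * g)⁻¹ = k' := by
        have : k' = g⁻¹ * (g * k' * g⁻¹) * g := by group
        rw [this, he]; group
      rw [this]; exact hk'
    · intro hk
      obtain ⟨k', hk', he⟩ := this.mpr ⟨g⁻¹ * x * g * k * (g⁻¹ * x * g)⁻¹, hk, by group⟩
      have : k = k' := by
        have h1 : k = g⁻¹ * (g * k * g⁻¹) * g := by group
        have h2 : k' = g⁻¹ * (g * k' * g⁻¹) * g := by group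
        rw [h1, h2, he]
      rw [this]; exact hk'
  · intro h y
    simp only [Subgroup.mem_map, MulEquiv.coe_toMonoidHom, MulAut.conj_apply]
    constructor
    · rintro ⟨k, hk, rfl⟩
      refine ⟨g⁻¹ * x * g * k * (g⁻¹ * x * g)⁻¹, (h k).mp hk, by group⟩
    · rintro ⟨k, hk, he⟩
      refine ⟨(g⁻¹ * x * g)⁻¹ * k * (g⁻¹ * x * g), ?_, ?_⟩
      · rw [h]
        have : g⁻¹ * x * g * ((g⁻¹ * x * g)⁻¹ * k * (g⁻¹ * x * g)) * (g⁻¹ * x * g)⁻¹ = k := by group
        rw [this]; exact hk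
      · have : y = x⁻¹ * (x * y * x⁻¹) * x := by group
        rw [this, ← he]; group

theorem mem_map_conj (K : Subgroup G) (g x : G) :
    x ∈ K.map (MulAut.conj g).toMonoidHom ↔ g⁻¹ * x * g ∈ K := by
  simp only [Subgroup.mem_map, MulEquiv.coe_toMonoidHom, MulAut.conj_apply]
  constructor
  · rintro ⟨k, hk, rfl⟩
    have : g⁻¹ * (g * k * g⁻¹) * g = k := by group
    rw [this]; exact hk
  · intro h
    exact ⟨_, h, by group⟩

theorem TightE.conj {K : Subgroup G} (hK : TightE K) (g : G) :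
    TightE (K.map (MulAut.conj g).toMonoidHom) := by
  intro x u hu hxu hu2
  rw [mem_normalizer_map_conj]
  rw [mem_map_conj] at hu hxu
  apply hK (g⁻¹ * x * g) (g⁻¹ * u * g) hu
  · have : (g⁻¹ * x * g)⁻¹ * (g⁻¹ * u * g) * (g⁻¹ * x * g) = g⁻¹ * (x⁻¹ * u * x) * g := by group
    rw [this]; exact hxu
  · have := (MulAut.conj g⁻¹).orderOf_eq u
    rw [MulAut.conj_apply, inv_inv] at this
    rw [this]
    exact hu2

/-- the normalizer of a nontrivial 2-subgroup of a tightly embedded `K` normalizes `K` -/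
theorem TightE.normalizer_le [Finite G] {K : Subgroup G} (hK : TightE K) (U : Subgroup G)
    (hU : IsPGroup 2 U) (hU1 : U ≠ ⊥) (hUK : U ≤ K) :
    Subgroup.normalizer (U : Set G) ≤ Subgroup.normalizer (K : Set G) := by
  intro x hx
  have h1 : ∃ u ∈ U, orderOf u = 2 := by
    by_contra h
    push Not at h
    exact hU1 (eq_bot_of_two_group_no_invol U hU h)
  obtain ⟨u, hu, hu2⟩ := h1
  apply hK x u (hUK hu) _ hu2
  apply hUK
  exact (Subgroup.mem_normalizer_iff''.mp hx u).mp hu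

/-- in a finite group, `y T y⁻¹ ⊆ T` implies `y ∈ N(T)` -/
theorem mem_normalizer_of_conj_mem [Finite G] (T : Subgroup G) (y : G)
    (h : ∀ t ∈ T, y * t * y⁻¹ ∈ T) : y ∈ Subgroup.normalizer (T : Set G) := by
  rw [Subgroup.mem_normalizer_iff]
  intro t
  refine ⟨h t, fun ht => ?_⟩
  -- conjugation by y is an injective self-map of the finite set T
  let f : T → T := fun t => ⟨y * t.1 * y⁻¹, h t.1 t.2⟩
  have hinj : Function.Injective f := by
    intro a b hab
    have : y * a.1 * y⁻¹ = y * b.1 * y⁻¹ := congrArg Subtype.val hab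
    apply Subtype.ext
    exact mul_left_cancel (mul_right_cancel this)
  have hsurj : Function.Surjective f := Finite.surjective_of_injective hinj
  obtain ⟨a, ha⟩ := hsurj ⟨y * t * y⁻¹, ht⟩
  have h1 : y * a.1 * y⁻¹ = y * t * y⁻¹ := congrArg Subtype.val ha
  have h2 : a.1 = t := mul_left_cancel (mul_right_cancel h1)
  rw [← h2]
  exact a.2

/-- normalizers grow in `p`-groups -/
theorem exists_normalizing_not_mem [Finite G] {p : ℕ} [Fact p.Prime] (S D : Subgroup G)
    (hS : IsPGroup p S) (hDS : D ≤ S) (hne : D ≠ S) :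
    ∃ y ∈ S, y ∉ D ∧ y ∈ Subgroup.normalizer (D : Set G) := by
  haveI : Group.IsNilpotent S := hS.isNilpotent
  have hnc := Group.normalizerCondition_of_isNilpotent (G := S)
  have hlt : D.subgroupOf S < ⊤ := by
    rw [lt_top_iff_ne_top]
    intro h
    apply hne
    rw [Subgroup.subgroupOf_eq_top] at h
    exact le_antisymm hDS h
  have h1 := hnc (D.subgroupOf S) hlt
  obtain ⟨y, hyN, hyD⟩ := SetLike.exists_of_lt h1
  refine ⟨y.1, y.2, ?_, ?_⟩
  · intro h
    exact hyD (Subgroup.mem_subgroupOf.mpr h)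
  · apply mem_normalizer_of_conj_mem
    intro d hd
    have := (Subgroup.mem_normalizer_iff.mp hyN ⟨d, hDS hd⟩).mp (Subgroup.mem_subgroupOf.mpr hd)
    exact Subgroup.mem_subgroupOf.mp this

/-- a Sylow `p`-subgroup of a subgroup `A`, containing a given `p`-subgroup, as a subgroup of `G` -/
theorem exists_sylow_subgroup_ge [Finite G] {p : ℕ} [Fact p.Prime] (A U : Subgroup G)
    (hU : IsPGroup p U) (hUA : U ≤ A) :
    ∃ P : Subgroup G, U ≤ P ∧ P ≤ A ∧ IsPGroup p P ∧ ¬ p ∣ P.relIndex A := by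
  have hU' : IsPGroup p (U.subgroupOf A) := hU.comap_subtype
  obtain ⟨Q, hQ⟩ := hU'.exists_le_sylow
  refine ⟨(Q : Subgroup A).map A.subtype, ?_, ?_, ?_, ?_⟩
  · intro u hu
    exact ⟨⟨u, hUA hu⟩, hQ (Subgroup.mem_subgroupOf.mpr hu), rfl⟩
  · rintro _ ⟨a, -, rfl⟩
    exact a.2
  · exact Q.2.map _
  · have h1 : ((Q : Subgroup A).map A.subtype).relIndex A = (Q : Subgroup A).index := by
      unfold Subgroup.relIndex
      congr 1
      ext a
      simp [Subgroup.mem_subgroupOf]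
    rw [h1]
    exact Q.not_dvd_index

/-- The basic configuration: parts (a)-(d). -/
theorem tight_config_basic [Finite G] (K K' : Subgroup G)
    (hodd : ∀ u, u ∈ K → u ∈ K' → orderOf u ≠ 2)
    (T : Subgroup G) (hT2 : IsPGroup 2 T) (hTK' : T ≤ K')
    (hTN : T ≤ Subgroup.normalizer (K : Set G))
    (S : Subgroup G) (hTS : T ≤ S) (hSKT : S ≤ K ⊔ T) :
    T ⊓ K = ⊥ ∧
      T ⊓ (S ⊓ Subgroup.normalizer (T : Set G) ⊓ K) = ⊥ ∧
      ⁅T, S ⊓ Subgroup.normalizer (T : Set G) ⊓ K⁆ = ⊥ ∧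
      T ⊔ (S ⊓ Subgroup.normalizer (T : Set G) ⊓ K) = S ⊓ Subgroup.normalizer (T : Set G) := by
  have ha : T ⊓ K = ⊥ := by
    apply eq_bot_of_two_group_no_invol
    · exact hT2.to_le inf_le_left
    · intro u hu
      exact hodd u hu.2 (hTK' hu.1)
  have hb : T ⊓ (S ⊓ Subgroup.normalizer (T : Set G) ⊓ K) = ⊥ := by
    rw [eq_bot_iff, ← ha]
    exact inf_le_inf_left T inf_le_right
  refine ⟨ha, hb, ?_, ?_⟩
  · rw [eq_bot_iff, Subgroup.commutator_le]
    intro t ht r hr
    have h1 : ⁅t, r⁆ ∈ T := by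
      rw [commutatorElement_def]
      have hrN : r ∈ Subgroup.normalizer (T : Set G) := hr.1.2
      have : r * t⁻¹ * r⁻¹ ∈ T := (Subgroup.mem_normalizer_iff.mp hrN t⁻¹).mp (T.inv_mem ht)
      have h2 : t * r * t⁻¹ * r⁻¹ = t * (r * t⁻¹ * r⁻¹) := by group
      rw [h2]
      exact T.mul_mem ht this
    have h2 : ⁅t, r⁆ ∈ K := by
      rw [commutatorElement_def]
      have htN : t ∈ Subgroup.normalizer (K : Set G) := hTN ht
      have : t * r * t⁻¹ ∈ K := (Subgroup.mem_normalizer_iff.mp htN r).mp hr.2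
      exact K.mul_mem this (K.inv_mem hr.2)
    have : ⁅t, r⁆ ∈ T ⊓ K := ⟨h1, h2⟩
    rwa [ha] at this
  · apply le_antisymm
    · apply sup_le
      · exact le_inf hTS Subgroup.le_normalizer
      · exact inf_le_left
    · intro s hs
      have h1 : s ∈ ((K ⊔ T : Subgroup G) : Set G) := hSKT hs.1
      rw [Subgroup.coe_mul_of_right_le_normalizer_left K T hTN] at h1
      obtain ⟨k, hk, t, ht, rfl⟩ := h1
      have hkS : k ∈ S := by
        have : k = k * t * t⁻¹ := by group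
        rw [this]
        exact S.mul_mem hs.1 (S.inv_mem (hTS ht))
      have hkN : k ∈ Subgroup.normalizer (T : Set G) := by
        have : k = k * t * t⁻¹ := by group
        rw [this]
        exact Subgroup.mul_mem _ hs.2 (Subgroup.inv_mem _ (Subgroup.le_normalizer ht))
      have hkR : k ∈ S ⊓ Subgroup.normalizer (T : Set G) ⊓ K := ⟨⟨hkS, hkN⟩, hk⟩
      exact Subgroup.mul_mem _ (Subgroup.mem_sup_right hkR) (Subgroup.mem_sup_left ht)

theorem card_mul_relIndex_of_le {H K : Subgroup G} (h : H ≤ K) :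
    Nat.card H * H.relIndex K = Nat.card K := by
  rw [← Subgroup.relIndex_bot_left, ← Subgroup.relIndex_bot_left (H := K)]
  exact Subgroup.relIndex_mul_relIndex ⊥ H K bot_le h

/-- a power of two dividing `a * m` with `m` odd divides `a` -/
theorem two_pow_dvd_of_dvd_mul_odd {k a m : ℕ} (h : 2 ^ k ∣ a * m) (hm : ¬ 2 ∣ m) : 2 ^ k ∣ a := by
  have hc : Nat.Coprime (2 ^ k) m := by
    apply Nat.Coprime.pow_left
    rw [Nat.coprime_two_left]
    exact Nat.odd_iff.mpr (by omega)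
  exact hc.dvd_of_dvd_mul_right h

/-- the counting half of the tightly embedded lemma -/
theorem tight_config_card [Finite G] (K K' : Subgroup G) (hK' : TightE K')
    (hodd : ∀ u, u ∈ K → u ∈ K' → orderOf u ≠ 2)
    (hcard : Nat.card K' = Nat.card K)
    (T : Subgroup G) (hT2 : IsPGroup 2 T) (hTK' : T ≤ K')
    (hTN : T ≤ Subgroup.normalizer (K : Set G))
    (S : Subgroup G) (hS2 : IsPGroup 2 S) (hTS : T ≤ S) (hSKT : S ≤ K ⊔ T)
    (hSyl : ¬ 2 ∣ S.relIndex (K ⊔ T)) :
    Nat.card T ≤ Nat.card (S ⊓ Subgroup.normalizer (T : Set G) ⊓ K : Subgroup G) ∧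
      ((∃ f : T →* (S ⊓ Subgroup.normalizer (T : Set G) ⊓ K : Subgroup G), Function.Injective f) ∨
        ¬ 2 ∣ (S ⊓ Subgroup.normalizer (T : Set G) ⊓ K).relIndex K) := by
  have : Fact (Nat.Prime 2) := ⟨Nat.prime_two⟩
  obtain ⟨ha, hb, hc, hd⟩ := tight_config_basic K K' hodd T hT2 hTK' hTN S hTS hSKT
  set R := S ⊓ Subgroup.normalizer (T : Set G) ⊓ K with hR
  have hRN : R ≤ Subgroup.normalizer (T : Set G) := fun r hr => hr.1.2
  have hRK : R ≤ K := inf_le_right
  have hR2 : IsPGroup 2 R := hS2.to_le (fun r hr => hr.1.1)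
  by_cases hnorm : S ≤ Subgroup.normalizer (T : Set G)
  · -- normal case
    have hd' : T ⊔ R = S := by rw [hd]; exact inf_eq_left.mpr hnorm
    have h1 : Nat.card S = Nat.card T * Nat.card R := by
      rw [← hd']
      exact card_sup_of_le_normalizer T R hRN hb
    have h2 : Nat.card (K ⊔ T : Subgroup G) = Nat.card K * Nat.card T :=
      card_sup_of_le_normalizer K T hTN (by rw [inf_comm]; exact ha)
    have h3 := card_mul_relIndex_of_le hSKT
    have h4 := card_mul_relIndex_of_le hRK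
    set m := S.relIndex (K ⊔ T) with hm
    have hTpos : 0 < Nat.card T := Nat.card_pos
    have hRpos : 0 < Nat.card R := Nat.card_pos
    -- |K| = |R| * m
    have h5 : Nat.card K = Nat.card R * m := by
      have : Nat.card T * (Nat.card K) = Nat.card T * (Nat.card R * m) := by
        rw [← mul_assoc, ← h1, h3, h2, mul_comm]
      exact Nat.eq_of_mul_eq_mul_left hTpos this
    have h6 : R.relIndex K = m := by
      have : Nat.card R * R.relIndex K = Nat.card R * m := by rw [h4, h5]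
      exact Nat.eq_of_mul_eq_mul_left hRpos this
    refine ⟨?_, Or.inr (by rw [h6]; exact hSyl)⟩
    obtain ⟨k, hk⟩ := hT2.exists_card_eq
    have h7 : Nat.card T ∣ Nat.card K' := Subgroup.card_dvd_of_le hTK'
    rw [hcard, h5, hk] at h7
    rw [hk]
    exact Nat.le_of_dvd hRpos (two_pow_dvd_of_dvd_mul_odd h7 hSyl)
  · -- non-normal case
    set D := S ⊓ Subgroup.normalizer (T : Set G) with hD
    have hDS : D ≤ S := inf_le_left
    have hDne : D ≠ S := fun h => hnorm (by rw [← h]; exact inf_le_right)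
    obtain ⟨y, hyS, hyD, hyN⟩ := exists_normalizing_not_mem S D hS2 hDS hDne
    -- conjugates of elements of T by y lie in D = T ⊔ R = T * R
    have hconj : ∀ t ∈ T, ∃ t' ∈ T, ∃ r ∈ R, y * t * y⁻¹ = t' * r := by
      intro t ht
      have htD : t ∈ D := ⟨hTS ht, Subgroup.le_normalizer ht⟩
      have h1 : y * t * y⁻¹ ∈ D := (Subgroup.mem_normalizer_iff.mp hyN t).mp htD
      rw [← hd] at h1
      have h2 : y * t * y⁻¹ ∈ ((T ⊔ R : Subgroup G) : Set G) := h1
      rw [Subgroup.coe_mul_of_right_le_normalizer_left T R hRN] at h2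
      obtain ⟨t', ht', r, hr, he⟩ := h2
      exact ⟨t', ht', r, hr, he.symm⟩
    -- uniqueness of the R-component
    have huniq : ∀ t₁ ∈ T, ∀ r₁ ∈ R, ∀ t₂ ∈ T, ∀ r₂ ∈ R, t₁ * r₁ = t₂ * r₂ → r₁ = r₂ := by
      intro t₁ ht₁ r₁ hr₁ t₂ ht₂ r₂ hr₂ he
      have h1 : t₂⁻¹ * t₁ = r₂ * r₁⁻¹ := by
        rw [eq_mul_inv_iff_mul_eq, mul_assoc, he, inv_mul_cancel_left]
      have h2 : t₂⁻¹ * t₁ ∈ T ⊓ R :=
        ⟨T.mul_mem (T.inv_mem ht₂) ht₁, by rw [h1]; exact R.mul_mem hr₂ (R.inv_mem hr₁)⟩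
      rw [hb, Subgroup.mem_bot] at h2
      rw [h2] at h1
      exact (mul_inv_eq_one.mp h1.symm).symm
    -- T ∩ T^y = 1
    have hTy : ∀ t ∈ T, y * t * y⁻¹ ∈ T → t = 1 := by
      let U : Subgroup G := T ⊓ T.comap (MulAut.conj y).toMonoidHom
      have hU2 : IsPGroup 2 U := hT2.to_le inf_le_left
      have hUbot : U = ⊥ := by
        apply eq_bot_of_two_group_no_invol U hU2
        intro u hu hu2
        have huT : u ∈ T := hu.1
        have huy : y * u * y⁻¹ ∈ T := hu.2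
        -- y normalizes K'
        have hyK' : y⁻¹ ∈ Subgroup.normalizer (K' : Set G) := by
          apply hK' y⁻¹ u (hTK' huT) _ hu2
          rw [inv_inv]
          exact hTK' huy
        have hyK'' : y ∈ Subgroup.normalizer (K' : Set G) := by
          have := Subgroup.inv_mem _ hyK'
          rwa [inv_inv] at this
        -- then y normalizes T
        apply hyD
        refine ⟨hyS, ?_⟩
        apply mem_normalizer_of_conj_mem
        intro t ht
        obtain ⟨t', ht', r, hr, he⟩ := hconj t ht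
        have hrK' : r ∈ K' := by
          have h1 : y * t * y⁻¹ ∈ K' := (Subgroup.mem_normalizer_iff.mp hyK'' t).mp (hTK' ht)
          have h2 : r = t'⁻¹ * (y * t * y⁻¹) := by rw [he, inv_mul_cancel_left]
          rw [h2]
          exact K'.mul_mem (K'.inv_mem (hTK' ht')) h1
        have hr1 : r = 1 := by
          have hz : Subgroup.zpowers r = ⊥ := by
            apply eq_bot_of_two_group_no_invol
            · exact hR2.to_le (Subgroup.zpowers_le.mpr hr)
            · intro w hw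
              have hwK : w ∈ K := (Subgroup.zpowers_le.mpr (hRK hr)) hw
              have hwK' : w ∈ K' := (Subgroup.zpowers_le.mpr hrK') hw
              exact hodd w hwK hwK'
          exact Subgroup.zpowers_eq_bot.mp hz
        rw [he, hr1, mul_one]
        exact ht'
      intro t ht hty
      have : t ∈ U := ⟨ht, hty⟩
      rw [hUbot, Subgroup.mem_bot] at this
      exact this
    -- the homomorphism
    choose t' ht' r hr he using hconj
    let f : T →* R := MonoidHom.mk' (fun t => ⟨r t.1 t.2, hr t.1 t.2⟩) (by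
      intro a b
      apply Subtype.ext
      show r (a.1 * b.1) (T.mul_mem a.2 b.2) = r a.1 a.2 * r b.1 b.2
      have h1 := he (a.1 * b.1) (T.mul_mem a.2 b.2)
      have h2 := he a.1 a.2
      have h3 := he b.1 b.2
      have h4 : y * (a.1 * b.1) * y⁻¹ = (y * a.1 * y⁻¹) * (y * b.1 * y⁻¹) := by group
      rw [h4, h2, h3] at h1
      -- t'a ra t'b rb = t'a (ra t'b ra⁻¹) (ra rb)
      have hra : r a.1 a.2 * t' b.1 b.2 * (r a.1 a.2)⁻¹ ∈ T :=
        (Subgroup.mem_normalizer_iff.mp (hRN (hr a.1 a.2)) _).mp (ht' b.1 b.2)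
      have h5 : t' a.1 a.2 * r a.1 a.2 * (t' b.1 b.2 * r b.1 b.2)
          = (t' a.1 a.2 * (r a.1 a.2 * t' b.1 b.2 * (r a.1 a.2)⁻¹)) * (r a.1 a.2 * r b.1 b.2) := by
        group
      rw [h5] at h1
      exact (huniq _ (T.mul_mem (ht' a.1 a.2) hra) _ (R.mul_mem (hr a.1 a.2) (hr b.1 b.2))
        _ (ht' _ _) _ (hr _ _) h1).symm)
    have hf : Function.Injective f := by
      rw [injective_iff_map_eq_one]
      intro a ha
      have h1 : r a.1 a.2 = 1 := congrArg Subtype.val ha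
      have h2 := he a.1 a.2
      rw [h1, mul_one] at h2
      apply Subtype.ext
      apply hTy a.1 a.2
      rw [h2]
      exact ht' a.1 a.2
    exact ⟨Nat.card_le_card_of_injective f hf, Or.inl ⟨f, hf⟩⟩

/-- two `p`-subgroups of `A` of the same order, one of them of index prime to `p` in `A`, are
isomorphic -/
theorem nonempty_mulEquiv_of_sylow_card [Finite G] {p : ℕ} [hp : Fact p.Prime] (A P₁ P₂ : Subgroup G)
    (h₁A : P₁ ≤ A) (h₂A : P₂ ≤ A) (h₁ : IsPGroup p P₁) (h₂ : IsPGroup p P₂)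
    (hsyl : ¬ p ∣ P₁.relIndex A) (hcard : Nat.card P₂ = Nat.card P₁) :
    Nonempty (P₁ ≃* P₂) := by
  have h₁' : IsPGroup p (P₁.subgroupOf A) := h₁.comap_subtype
  have h₂' : IsPGroup p (P₂.subgroupOf A) := h₂.comap_subtype
  obtain ⟨Q₁, hQ₁⟩ := h₁'.exists_le_sylow
  obtain ⟨Q₂, hQ₂⟩ := h₂'.exists_le_sylow
  have e₁ : P₁.subgroupOf A ≃* P₁ := Subgroup.subgroupOfEquivOfLe h₁A
  have e₂ : P₂.subgroupOf A ≃* P₂ := Subgroup.subgroupOfEquivOfLe h₂A
  have c₁ : Nat.card (P₁.subgroupOf A) = Nat.card P₁ := Nat.card_congr e₁.toEquiv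
  have c₂ : Nat.card (P₂.subgroupOf A) = Nat.card P₂ := Nat.card_congr e₂.toEquiv
  have cQ : Nat.card Q₂ = Nat.card Q₁ := Nat.card_congr (Sylow.equiv Q₂ Q₁).toEquiv
  -- |Q₁| ≤ |P₁|
  have hQ₁le : Nat.card Q₁ ≤ Nat.card P₁ := by
    obtain ⟨k, hk⟩ := Q₁.2.exists_card_eq
    have h1 : Nat.card Q₁ ∣ Nat.card A := Subgroup.card_subgroup_dvd_card _
    rw [← card_mul_relIndex_of_le h₁A, hk] at h1
    have hc : Nat.Coprime (p ^ k) (P₁.relIndex A) :=
      Nat.Coprime.pow_left _ ((Nat.Prime.coprime_iff_not_dvd hp.out).mpr hsyl)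
    have h2 : p ^ k ∣ Nat.card P₁ := hc.dvd_of_dvd_mul_right h1
    rw [hk]
    exact Nat.le_of_dvd Nat.card_pos h2
  have hEq₁ : P₁.subgroupOf A = Q₁ := by
    apply Subgroup.eq_of_le_of_card_ge hQ₁
    rw [c₁]
    exact hQ₁le
  have hEq₂ : P₂.subgroupOf A = Q₂ := by
    apply Subgroup.eq_of_le_of_card_ge hQ₂
    rw [c₂, hcard, cQ]
    exact hQ₁le
  have f₁ : P₁ ≃* (Q₁ : Subgroup A) := e₁.symm.trans (MulEquiv.subgroupCongr hEq₁)
  have f₂ : (Q₂ : Subgroup A) ≃* P₂ := (MulEquiv.subgroupCongr hEq₂.symm).trans e₂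
  exact ⟨f₁.trans ((Sylow.equiv Q₁ Q₂).trans f₂)⟩

end Cfsg.Agent.Helper4
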