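import Mathlib
import Cfsg.Agent.Helper48.WielandtOrder
import Cfsg.Agent.Helper4.TightEmb

/-!
# A normal `q`-section above `V = O_p(H)`

`exists_normal_prime_power_over`: `H ⊴ G` solvable, `V ⊴ G` a `p`-group with `V < H` containing every
normal-in-`G` `p`-subgroup of `H`. Then there are a prime `q ≠ p` and `L ⊴ G` with `V ≤ L ≤ H` and
`|L| = |V| q ^ k`, `k > 0`.
-/

set_option autoImplicit false

namespace Cfsg.Agent.Helper4.BG36

open Subgroup
open scoped commutatorElement Pointwise

variable {G : Type*} [Group G]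

/-- `A ⊔ V` has abelian image modulo the normal subgroup `V` when `⁅A, A⁆ ≤ V`. -/
theorem commutator_sup_le {A V : Subgroup G} [V.Normal] (h : ⁅A, A⁆ ≤ V) : ⁅A ⊔ V, A ⊔ V⁆ ≤ V := by
  have hker : (QuotientGroup.mk' V).ker = V := QuotientGroup.ker_mk' V
  have hV : V.map (QuotientGroup.mk' V) = ⊥ := by rw [Subgroup.map_eq_bot_iff, hker]
  have h1 : (⁅A ⊔ V, A ⊔ V⁆).map (QuotientGroup.mk' V) = ⊥ := by
    rw [Subgroup.map_commutator, Subgroup.map_sup, hV, sup_bot_eq, ← Subgroup.map_commutator,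
      Subgroup.map_eq_bot_iff, hker]
    exact h
  rw [Subgroup.map_eq_bot_iff, hker] at h1
  exact h1

theorem exists_normal_prime_power_over [Finite G] (H V : Subgroup G)
    [H.Normal] [V.Normal] [hsol : Group.IsSolvable H] {p : ℕ} [hp : Fact p.Prime] (hVH : V ≤ H)
    (hne : V ≠ H) (hV : IsPGroup p V)
    (hmax : ∀ M : Subgroup G, M.Normal → M ≤ H → IsPGroup p M → M ≤ V) :
    ∃ (q : ℕ) (_ : q.Prime) (L : Subgroup G) (k : ℕ), q ≠ p ∧ L.Normal ∧ V ≤ L ∧ L ≤ H ∧ 0 < k ∧
      Nat.card L = Nat.card V * q ^ k := by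
  classical
  -- a minimal normal subgroup of `G` inside `H`, not inside `V`
  have hex : ∃ M : Subgroup G, M.Normal ∧ M ≤ H ∧ ¬ M ≤ V :=
    ⟨H, inferInstance, le_rfl, fun h => hne (le_antisymm hVH h)⟩
  obtain ⟨M, ⟨hMn, hMH, hMV⟩, hMmin⟩ :=
    exists_minimalFor_of_wellFoundedLT (fun M : Subgroup G => M.Normal ∧ M ≤ H ∧ ¬ M ≤ V)
      (fun M : Subgroup G => Nat.card M) hex
  have hM1 : M ≠ ⊥ := by rintro rfl; exact hMV bot_le
  have hMsol : Group.IsSolvable M :=
    Group.isSolvable_of_isSolvable_injective (Subgroup.inclusion_injective hMH)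
  have hlt : ⁅M, M⁆ < M := Cfsg.Agent.Helper48.commutator_self_lt_of_isSolvable hMsol hM1
  have := hMn
  have hMM : ⁅M, M⁆ ≤ V := by
    by_contra hcon
    have hn : (⁅M, M⁆ : Subgroup G).Normal := inferInstance
    have h1 := hMmin ⟨hn, hlt.le.trans hMH, hcon⟩ (Subgroup.card_le_of_le hlt.le)
    have h2 : Nat.card M ≤ Nat.card ↥⁅M, M⁆ := h1
    exact hlt.ne (Subgroup.eq_of_le_of_card_ge hlt.le h2)
  set A : Subgroup G := M ⊔ V with hA
  have hAn : A.Normal := inferInstance
  have hAH : A ≤ H := sup_le hMH hVH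
  have hVA : V ≤ A := le_sup_right
  have hAA : ⁅A, A⁆ ≤ V := commutator_sup_le hMM
  -- `A` is not a `p`-group
  have hAp : ¬ IsPGroup p A := fun h => hMV (le_sup_left.trans (hmax A hAn hAH h))
  -- a prime `q ≠ p` dividing `|A|`
  obtain ⟨q, hq, hqA, hqp⟩ : ∃ q : ℕ, q.Prime ∧ q ∣ Nat.card A ∧ q ≠ p := by
    by_contra hcon
    push Not at hcon
    apply hAp
    rw [IsPGroup.iff_card]
    have hpos : Nat.card A ≠ 0 := Nat.card_pos.ne'
    refine ⟨(Nat.card A).factorization p, ?_⟩
    apply Nat.eq_pow_of_factorization_eq_single hpos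
    ext r
    by_cases hr : r = p
    · subst hr; simp
    · rw [Finsupp.single_apply, if_neg (Ne.symm hr)]
      by_contra h0
      have hrp : r.Prime := Nat.prime_of_mem_primeFactors
        (Nat.support_factorization _ ▸ Finsupp.mem_support_iff.mpr h0)
      have hrd : r ∣ Nat.card A := Nat.dvd_of_factorization_pos h0
      exact hr (hcon r hrp hrd)
  haveI : Fact q.Prime := ⟨hq⟩
  -- a Sylow `q`-subgroup of `A`
  obtain ⟨S⟩ : Nonempty (Sylow q A) := inferInstance
  set S' : Subgroup G := (S : Subgroup A).map A.subtype with hS'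
  have hS'A : S' ≤ A := Subgroup.map_subtype_le _
  have hfr : normalizer (S' : Set G) ⊔ A = ⊤ := Sylow.normalizer_sup_eq_top S
  set L : Subgroup G := V ⊔ S' with hL
  have hLA : L ≤ A := sup_le hVA hS'A
  -- `A` normalizes `L`
  have hAL : A ≤ normalizer (L : Set G) := by
    intro a ha
    rw [mem_normalizer_iff]
    have hsub : ∀ b ∈ A, ∀ l ∈ L, b * l * b⁻¹ ∈ L := by
      intro b hb l hl
      obtain ⟨v, hv, s, hs, rfl⟩ := Subgroup.mem_sup_of_normal_left.mp hl
      have hc : ⁅b, s⁆ ∈ V := hAA (commutator_mem_commutator hb (hS'A hs))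
      have e : b * (v * s) * b⁻¹ = (b * v * b⁻¹) * (⁅b, s⁆ * s) := by
        rw [commutatorElement_def]; group
      rw [e]
      exact L.mul_mem (le_sup_left (a := V) (‹V.Normal›.conj_mem v hv b))
        (L.mul_mem (le_sup_left (a := V) hc) (le_sup_right (b := S') hs))
    intro l
    constructor
    · exact hsub a ha l
    · intro h
      have := hsub a⁻¹ (A.inv_mem ha) _ h
      simpa [mul_assoc] using this
  -- `N_G(S')` normalizes `L`
  have hNL : normalizer (S' : Set G) ≤ normalizer (L : Set G) := by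
    intro n hn
    rw [mem_normalizer_iff]
    have hsub : ∀ b ∈ normalizer (S' : Set G), ∀ l ∈ L, b * l * b⁻¹ ∈ L := by
      intro b hb l hl
      obtain ⟨v, hv, s, hs, rfl⟩ := Subgroup.mem_sup_of_normal_left.mp hl
      have e : b * (v * s) * b⁻¹ = (b * v * b⁻¹) * (b * s * b⁻¹) := by group
      rw [e]
      exact L.mul_mem (le_sup_left (a := V) (‹V.Normal›.conj_mem v hv b))
        (le_sup_right (b := S') ((mem_normalizer_iff.mp hb s).mp hs))
    intro l
    constructor
    · exact hsub n hn l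
    · intro h
      have := hsub n⁻¹ (inv_mem hn) _ h
      simpa [mul_assoc] using this
  have hLn : L.Normal := by
    rw [← normalizer_eq_top_iff, eq_top_iff, ← hfr]
    exact sup_le hNL hAL
  -- cardinalities
  have hScard : Nat.card S' = q ^ (Nat.card A).factorization q := by
    rw [hS', Subgroup.card_map_of_injective (Subgroup.subtype_injective A)]
    exact S.card_eq_multiplicity
  have hkpos : 0 < (Nat.card A).factorization q :=
    hq.factorization_pos_of_dvd Nat.card_pos.ne' hqA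
  have hcop : (Nat.card V).Coprime (Nat.card S') := by
    obtain ⟨n, hn⟩ := hV.exists_card_eq
    rw [hn, hScard]
    exact Nat.Coprime.pow _ _ ((Nat.coprime_primes hp.out hq).mpr (Ne.symm hqp))
  have hdisj : V ⊓ S' = ⊥ := (Subgroup.disjoint_of_coprime_natCard hcop).eq_bot
  have hLcard : Nat.card L = Nat.card V * Nat.card S' :=
    Cfsg.Agent.Helper4.card_sup_of_le_normalizer V S'
      (fun x _ => by rw [normalizer_eq_top_iff.mpr ‹V.Normal›]; exact Subgroup.mem_top x) hdisj
  exact ⟨q, hq, L, (Nat.card A).factorization q, hqp, hLn, le_sup_left, hLA.trans hAH, hkpos,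
    by rw [hLcard, hScard]⟩

end Cfsg.Agent.Helper4.BG36
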