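import Mathlib
import Cfsg.Prelude.Def_Local

/-!
# BG Theorem 3.6 (S1444): induction base definitions

`Below n` : the statement of BG Theorem 3.6 (statement S1444) for all groups of order `< n`
in a fixed universe.  The induction for S1444 is a strong induction on `Nat.card G` with
induction hypothesis `Below (Nat.card G)`.
-/

set_option autoImplicit false

namespace Cfsg.Agent.Helper4.BG36

universe u

/-- BG Theorem 3.6 for all groups of order `< n` (in universe `u`). -/
def Below (n : ℕ) : Prop :=
  ∀ (G : Type u) [Group G] [Finite G] [Group.IsSolvable G], Nat.card G < n → Odd (Nat.card G) →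
    ∀ (H R R₀ : Subgroup G) [H.Normal], (Nat.card H).Coprime H.index →
      Subgroup.IsComplement' H R → R₀ ≤ R → (Nat.card R₀).Prime →
      IsZGroup ↥(H ⊓ Subgroup.centralizer (R₀ : Set G)) →
      ∀ (p : ℕ) [Fact p.Prime], Cfsg.PLengthLE p 1 ↥⁅H, R⁆

theorem Below.mono {m n : ℕ} (hmn : m ≤ n) (h : Below.{u} n) : Below.{u} m := by
  intro G _ _ _ hlt
  exact h G (lt_of_lt_of_le hlt hmn)

end Cfsg.Agent.Helper4.BG36
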