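import Mathlib
import Cfsg.Agent.Helper4.BG36Base
import Cfsg.Agent.Helper54.BG36Plumb
import Cfsg.Agent.Helper54.BG36Frat
import Cfsg.Agent.Helper53.PLenSubdirect
import Cfsg.Agent.Helper53.LemmaL

/-!
# BG Theorem 3.6 (S1444): the plumbing lemmas, collected

Thin wrappers around the lemmas written by helper54 (`Helper54/BG36Plumb.lean`,
`Helper54/BG36Frat.lean`) and helper53 (`Helper53/PLenSubdirect.lean`, `Helper53/LemmaL.lean`),
restated in the namespace used by the induction files.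
-/

set_option autoImplicit false
open Cfsg

namespace Cfsg.Agent.Helper4.BG36

universe u

theorem Below_sub {G : Type u} [Group G] [Finite G] [Group.IsSolvable G]
    (ih : Below.{u} (Nat.card G)) (hodd : Odd (Nat.card G))
    (H R R₀ : Subgroup G) [H.Normal] (hHall : (Nat.card H).Coprime H.index)
    (hR : Subgroup.IsComplement' H R) (hR₀ : R₀ ≤ R) (hR₀p : (Nat.card R₀).Prime)
    (hZ : IsZGroup ↥(H ⊓ Subgroup.centralizer (R₀ : Set G)))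
    (H₁ R₁ : Subgroup G) (hH₁ : H₁ ≤ H) (hR₁ : R₁ ≤ R) (hR₀₁ : R₀ ≤ R₁)
    (hnorm : R₁ ≤ Subgroup.normalizer (H₁ : Set G))
    (hlt : Nat.card H₁ * Nat.card R₁ < Nat.card G) (p : ℕ) [Fact p.Prime] :
    PLengthLE p 1 ↥⁅H₁, R₁⁆ :=
  Cfsg.Agent.Helper54.BG36P.Below_sub ih hodd H R R₀ hHall hR hR₀ hR₀p hZ H₁ R₁ hH₁ hR₁ hR₀₁ hnorm
    hlt p

theorem Below_quo {G : Type u} [Group G] [Finite G] [Group.IsSolvable G]
    (ih : Below.{u} (Nat.card G)) (hodd : Odd (Nat.card G))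
    (H R R₀ : Subgroup G) [H.Normal] (hHall : (Nat.card H).Coprime H.index)
    (hR : Subgroup.IsComplement' H R) (hR₀ : R₀ ≤ R) (hR₀p : (Nat.card R₀).Prime)
    (hZ : IsZGroup ↥(H ⊓ Subgroup.centralizer (R₀ : Set G)))
    (hHR : ⁅H, R⁆ = H)
    (X : Subgroup ↥H) [X.Normal] (hXG : (X.map H.subtype).Normal) (hX1 : X ≠ ⊥)
    (p : ℕ) [Fact p.Prime] :
    PLengthLE p 1 (↥H ⧸ X) :=
  Cfsg.Agent.Helper54.BG36P.Below_quo ih hodd H R R₀ hHall hR hR₀ hR₀p hZ hHR X hXG hX1 p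

theorem lemmaL {G : Type*} [Group G] [Finite G] {p : ℕ} [Fact p.Prime] (Y : Subgroup G)
    (hY : PLengthLE p 1 ↥Y) (W P₁ Q₁ : Subgroup G) (hWY : W ≤ Y)
    (hWn : Y ≤ Subgroup.normalizer (W : Set G)) (hW : IsPGroup p W)
    (hP₁Y : P₁ ≤ Y) (hQ₁Y : Q₁ ≤ Y) (hP₁ : IsPGroup p P₁) (hQ₁ : ¬ p ∣ Nat.card Q₁)
    (hPQ : P₁ ≤ Subgroup.normalizer (Q₁ : Set G)) :
    ⁅Q₁, P₁⁆ ≤ Subgroup.centralizer (W : Set G) :=
  Cfsg.Agent.Helper53.lemmaL Y hY W P₁ Q₁ hWY hWn hW hP₁Y hQ₁Y hP₁ hQ₁ hPQ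

theorem pLengthLE_one_of_inf_eq_bot {K : Type*} [Group K] [Finite K] {p : ℕ} [Fact p.Prime]
    (A B : Subgroup K) [A.Normal] [B.Normal] (hAB : A ⊓ B = ⊥)
    (hA : PLengthLE p 1 (K ⧸ A)) (hB : PLengthLE p 1 (K ⧸ B)) : PLengthLE p 1 K :=
  Cfsg.Agent.Helper53.pLengthLE_one_of_inf_eq_bot A B hAB hA hB

theorem pLengthLE_one_of_quotient_frattini {K : Type*} [Group K] [Finite K] [Group.IsSolvable K]
    {p : ℕ} [Fact p.Prime] (hO : pPrimeCore p K = ⊥)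
    (Φ : Subgroup K) [Φ.Normal] (hΦ : Φ = (frattini ↥(pCore p K)).map (pCore p K).subtype)
    (h : PLengthLE p 1 (K ⧸ Φ)) : PLengthLE p 1 K :=
  Cfsg.Agent.Helper54.BG36P.pLengthLE_one_of_quotient_frattini hO Φ hΦ h

theorem pLengthLE_one_of_normal_pGroup {K : Type*} [Group K] [Finite K] {p : ℕ} [Fact p.Prime]
    (V : Subgroup K) [V.Normal] (hV : IsPGroup p V) (hind : ¬ p ∣ V.index) : PLengthLE p 1 K :=
  Cfsg.Agent.Helper54.BG36P.pLengthLE_one_of_normal_pGroup V hV hind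

end Cfsg.Agent.Helper4.BG36
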