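import Mathlib
import Cfsg.Agent.Helper4.BG36Adapt
import Cfsg.Agent.S0026
import Cfsg.Agent.S0027
import Cfsg.Agent.Helper47.Comm2
import Cfsg.Agent.Helper71.ShultBasic
import Cfsg.Agent.Helper63.Sect4A

/-!
# BG Theorem 3.6: the minimal counterexample context and the key trick
-/

set_option autoImplicit false
set_option linter.unusedSectionVars false
open Cfsg

namespace Cfsg.Agent.Helper4.BG36

open Subgroup Cfsg.Agent.Helper71.Shult
open scoped commutatorElement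

universe u

variable {G : Type u} [Group G]

/-- a counterexample `(G, H, R, R₀)` to BG 3.6 for the prime `p`, such that the theorem holds for all
groups of smaller order. -/
structure Ctx (p : ℕ) (H R R₀ : Subgroup G) : Prop where
  ih : Below.{u} (Nat.card G)
  odd : Odd (Nat.card G)
  hall : (Nat.card H).Coprime H.index
  compl : Subgroup.IsComplement' H R
  le : R₀ ≤ R
  prime : (Nat.card R₀).Prime
  zg : IsZGroup ↥(H ⊓ Subgroup.centralizer (R₀ : Set G))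
  not : ¬ PLengthLE p 1 ↥⁅H, R⁆

section general

theorem card_sup_le_mul [Finite G] (A B : Subgroup G) (h : A ≤ normalizer (B : Set G)) :
    Nat.card ↥(A ⊔ B) ≤ Nat.card A * Nat.card B := by
  have h1 := Cfsg.Agent.Helper63.SR4.card_sup_mul_card_inf A B h
  have h2 : 0 < Nat.card ↥(A ⊓ B) := Nat.card_pos
  calc Nat.card ↥(A ⊔ B) ≤ Nat.card ↥(A ⊔ B) * Nat.card ↥(A ⊓ B) := Nat.le_mul_of_pos_right _ h2
    _ = _ := h1

theorem commutator_le_of_le_normalizer {A B : Subgroup G} (h : B ≤ normalizer (A : Set G)) :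
    ⁅A, B⁆ ≤ A := by
  rw [commutator_le]
  intro a ha b hb
  rw [commutatorElement_def]
  have : b * a⁻¹ * b⁻¹ ∈ A := conj_mem_of_le_normalizer h hb (A.inv_mem ha)
  have := A.mul_mem ha this
  simpa [mul_assoc] using this

theorem commutator_le_of_le_normalizer' {A B : Subgroup G} (h : A ≤ normalizer (B : Set G)) :
    ⁅A, B⁆ ≤ B := by
  rw [commutator_comm]; exact commutator_le_of_le_normalizer h

end general

variable [Finite G] [Group.IsSolvable G] {p : ℕ} [Fact p.Prime] {H R R₀ : Subgroup G} [H.Normal]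

namespace Ctx

theorem card_mul (c : Ctx p H R R₀) : Nat.card H * Nat.card R = Nat.card G :=
  c.compl.card_mul_card

theorem index_eq (c : Ctx p H R R₀) : H.index = Nat.card R := by
  have h1 := H.card_mul_index
  have h2 := c.card_mul
  have hpos : 0 < Nat.card H := Nat.card_pos
  exact Nat.eq_of_mul_eq_mul_left hpos (h1.trans h2.symm)

theorem coprime (c : Ctx p H R R₀) : (Nat.card H).Coprime (Nat.card R) := by
  rw [← c.index_eq]; exact c.hall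

theorem coprime_le (c : Ctx p H R R₀) {H₁ R₁ : Subgroup G} (h1 : H₁ ≤ H) (h2 : R₁ ≤ R) :
    (Nat.card H₁).Coprime (Nat.card R₁) :=
  Nat.Coprime.coprime_dvd_left (Subgroup.card_dvd_of_le h1)
    (Nat.Coprime.coprime_dvd_right (Subgroup.card_dvd_of_le h2) c.coprime)

theorem sub (c : Ctx p H R R₀) (H₁ R₁ : Subgroup G) (hH₁ : H₁ ≤ H) (hR₁ : R₁ ≤ R) (hR₀₁ : R₀ ≤ R₁)
    (hnorm : R₁ ≤ Subgroup.normalizer (H₁ : Set G))
    (hlt : Nat.card H₁ * Nat.card R₁ < Nat.card G) : PLengthLE p 1 ↥⁅H₁, R₁⁆ :=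
  Below_sub c.ih c.odd H R R₀ c.hall c.compl c.le c.prime c.zg H₁ R₁ hH₁ hR₁ hR₀₁ hnorm hlt p

theorem quo (c : Ctx p H R R₀) (hHR : ⁅H, R⁆ = H) (X : Subgroup ↥H) [X.Normal]
    (hXG : (X.map H.subtype).Normal) (hX1 : X ≠ ⊥) : PLengthLE p 1 (↥H ⧸ X) :=
  Below_quo c.ih c.odd H R R₀ c.hall c.compl c.le c.prime c.zg hHR X hXG hX1 p

/-- the solvability of subgroups -/
theorem solv_sub (K : Subgroup G) : Group.IsSolvable K :=
  Group.isSolvable_of_isSolvable_injective (Subgroup.subtype_injective K)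

/-- **the key trick** (#2756 (4c)): IHsub + Lemma L. -/
theorem trick (c : Ctx p H R R₀) (V₁ Q₁ P₁ : Subgroup G) (hV₁H : V₁ ≤ H) (hQ₁H : Q₁ ≤ H)
    (hP₁H : P₁ ≤ H) (hV₁ : IsPGroup p V₁) (hP₁ : IsPGroup p P₁) (hQ₁ : ¬ p ∣ Nat.card Q₁)
    (hQV : Q₁ ≤ normalizer (V₁ : Set G)) (hPV : P₁ ≤ normalizer (V₁ : Set G))
    (hRV : R₀ ≤ normalizer (V₁ : Set G)) (hPQ : P₁ ≤ normalizer (Q₁ : Set G))
    (hRQ : R₀ ≤ normalizer (Q₁ : Set G)) (hRP : R₀ ≤ normalizer (P₁ : Set G))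
    (hCP : P₁ ⊓ centralizer (R₀ : Set G) = ⊥)
    (hlt : Nat.card V₁ * Nat.card Q₁ * Nat.card P₁ * Nat.card R₀ < Nat.card G) :
    ⁅V₁, ⁅Q₁, P₁⁆⁆ = ⊥ := by
  have hp : p.Prime := Fact.out
  set H₁ : Subgroup G := (V₁ ⊔ Q₁) ⊔ P₁ with hH₁
  have hH₁H : H₁ ≤ H := sup_le (sup_le hV₁H hQ₁H) hP₁H
  have hV₁H₁ : V₁ ≤ H₁ := le_sup_left.trans le_sup_left
  have hQ₁H₁ : Q₁ ≤ H₁ := le_sup_right.trans le_sup_left
  have hP₁H₁ : P₁ ≤ H₁ := le_sup_right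
  have hRH₁ : R₀ ≤ normalizer (H₁ : Set G) := sup_le_normalizer (sup_le_normalizer hRV hRQ) hRP
  have hPVQ : P₁ ≤ normalizer ((V₁ ⊔ Q₁ : Subgroup G) : Set G) := sup_le_normalizer hPV hPQ
  have hH₁V : H₁ ≤ normalizer (V₁ : Set G) :=
    sup_le (sup_le le_normalizer hQV) hPV
  have hcard : Nat.card H₁ ≤ Nat.card V₁ * Nat.card Q₁ * Nat.card P₁ := by
    have h1 : Nat.card ↥(V₁ ⊔ Q₁) ≤ Nat.card V₁ * Nat.card Q₁ := by
      rw [sup_comm, mul_comm]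
      exact card_sup_le_mul Q₁ V₁ hQV
    have h2 : Nat.card H₁ ≤ Nat.card ↥(V₁ ⊔ Q₁) * Nat.card P₁ := by
      rw [hH₁, sup_comm, mul_comm]
      exact card_sup_le_mul P₁ (V₁ ⊔ Q₁) hPVQ
    exact h2.trans (Nat.mul_le_mul_right _ h1)
  have hlt' : Nat.card H₁ * Nat.card R₀ < Nat.card G :=
    lt_of_le_of_lt (Nat.mul_le_mul_right _ hcard) hlt
  set Y : Subgroup G := ⁅H₁, R₀⁆ with hY
  have hYpl : PLengthLE p 1 ↥Y := c.sub H₁ R₀ hH₁H c.le le_rfl hRH₁ hlt'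
  have hH₁Y : H₁ ≤ normalizer (Y : Set G) := Cfsg.Agent.Helper47.le_normalizer_commutator_left H₁ R₀
  have hYH₁ : Y ≤ H₁ := commutator_le_of_le_normalizer hRH₁
  -- `P₁ = [P₁, R₀] ≤ Y`
  have hcopPR : (Nat.card R₀).Coprime (Nat.card P₁) := (c.coprime_le hP₁H c.le).symm
  have hP₁Y : P₁ ≤ Y := by
    have h1 := Cfsg.Agent.S0026.result R₀ P₁ hRP hcopPR (Or.inr (solv_sub P₁))
    rw [hCP, sup_bot_eq] at h1
    rw [← h1]
    exact commutator_mono hP₁H₁ le_rfl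
  -- `Q' := [Q₁, P₁] ≤ Y`
  set Q' : Subgroup G := ⁅Q₁, P₁⁆ with hQ'
  have hQ'Q₁ : Q' ≤ Q₁ := commutator_le_of_le_normalizer hPQ
  have hQ'Y : Q' ≤ Y := by
    have h1 : Q' ≤ ⁅H₁, Y⁆ := commutator_mono hQ₁H₁ hP₁Y
    exact h1.trans (commutator_le_of_le_normalizer' hH₁Y)
  have hPQ' : P₁ ≤ normalizer (Q' : Set G) :=
    Cfsg.Agent.Helper47.le_normalizer_commutator_right Q₁ P₁
  have hQ'card : ¬ p ∣ Nat.card Q' := fun h => hQ₁ (h.trans (Subgroup.card_dvd_of_le hQ'Q₁))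
  -- `W := V₁ ⊓ Y`
  set W : Subgroup G := V₁ ⊓ Y with hW
  have hWY : W ≤ Y := inf_le_right
  have hYW : Y ≤ normalizer (W : Set G) :=
    inf_le_normalizer (hYH₁.trans hH₁V) le_normalizer
  have hWp : IsPGroup p W := hV₁.to_le inf_le_left
  have hL := lemmaL Y hYpl W P₁ Q' hWY hYW hWp hP₁Y hQ'Y hP₁ hQ'card hPQ'
  -- `[Q', P₁] = Q'`
  have hcopPQ : (Nat.card P₁).Coprime (Nat.card Q₁) := by
    obtain ⟨n, hn⟩ := hP₁.exists_card_eq
    rw [hn]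
    exact Nat.Coprime.pow_left _ ((Nat.Prime.coprime_iff_not_dvd hp).mpr hQ₁)
  have hQ'Q' : ⁅Q', P₁⁆ = Q' :=
    Cfsg.Agent.S0027.result P₁ Q₁ hPQ hcopPQ (Or.inl (solv_sub P₁))
  rw [hQ'Q'] at hL
  -- `[V₁, Q'] ≤ W`
  have hQ'V : Q' ≤ normalizer (V₁ : Set G) := hQ'Q₁.trans hQV
  have hVQ'W : ⁅V₁, Q'⁆ ≤ W := by
    apply le_inf (commutator_le_of_le_normalizer hQ'V)
    have h1 : ⁅V₁, Q'⁆ ≤ ⁅H₁, Y⁆ := commutator_mono hV₁H₁ hQ'Y
    exact h1.trans (commutator_le_of_le_normalizer' hH₁Y)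
  have hcopQV : (Nat.card Q').Coprime (Nat.card V₁) := by
    obtain ⟨n, hn⟩ := hV₁.exists_card_eq
    rw [hn]
    exact (Nat.Coprime.pow_left _ ((Nat.Prime.coprime_iff_not_dvd hp).mpr hQ'card)).symm
  have h2 : ⁅⁅V₁, Q'⁆, Q'⁆ = ⁅V₁, Q'⁆ :=
    Cfsg.Agent.S0027.result Q' V₁ hQ'V hcopQV (Or.inr (solv_sub V₁))
  rw [← h2, eq_bot_iff]
  calc ⁅⁅V₁, Q'⁆, Q'⁆ ≤ ⁅W, Q'⁆ := commutator_mono hVQ'W le_rfl
    _ ≤ ⊥ := by
      rw [commutator_comm, commutator_le]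
      intro a ha b hb
      have := (mem_centralizer_iff.mp (hL ha)) b hb
      rw [Subgroup.mem_bot, commutatorElement_eq_one_iff_mul_comm]
      exact this.symm

end Ctx

end Cfsg.Agent.Helper4.BG36
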