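import Mathlib
import Cfsg.Agent.Helper4.BG36Ctx
import Cfsg.Agent.Helper53.Conj
import Cfsg.Agent.Helper55.SolvCore
import Cfsg.Agent.Helper63.PSeriesTools
import Cfsg.Agent.Helper54.PLength
import Cfsg.Agent.Helper63.Frattini
import Cfsg.Agent.S3754

/-!
# BG Theorem 3.6: the first reductions (step (1) of the proof)
-/

set_option autoImplicit false
set_option linter.unusedSectionVars false
set_option linter.style.haveILetI false
open Cfsg

namespace Cfsg.Agent.Helper4.BG36

open Subgroup Cfsg.Agent.Helper71.Shult Cfsg.Agent.Lib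
open scoped commutatorElement

universe u

variable {G : Type u} [Group G] [Finite G] [Group.IsSolvable G] {p : ℕ} [Fact p.Prime]
  {H R R₀ : Subgroup G} [H.Normal]

/-- the image in `G` of a characteristic subgroup of the normal subgroup `H` is normal. -/
theorem normal_map_of_characteristic (H : Subgroup G) [H.Normal] (X : Subgroup ↥H)
    (hX : X.Characteristic) : (X.map H.subtype).Normal := by
  rw [← normalizer_eq_top_iff, eq_top_iff]
  have h1 := Cfsg.Agent.Helper53.char_map_normalizer_le H X hX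
  rwa [normalizer_eq_top_iff.mpr ‹H.Normal›] at h1

/-- `V = O_p(H)` as a subgroup of `G`. -/
def VV (p : ℕ) (H : Subgroup G) : Subgroup G := (pCore p ↥H).map H.subtype

theorem VV_le (p : ℕ) (H : Subgroup G) : VV p H ≤ H := Subgroup.map_subtype_le _

instance VV_normal (p : ℕ) (H : Subgroup G) [H.Normal] : (VV p H).Normal :=
  normal_map_of_characteristic H _ (pCore_characteristic p)

theorem VV_isPGroup (p : ℕ) [Fact p.Prime] (H : Subgroup G) : IsPGroup p (VV p H) :=
  (isPGroup_pCore (G := ↥H) p).map H.subtype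

theorem VV_subgroupOf (p : ℕ) (H : Subgroup G) : (VV p H).subgroupOf H = pCore p ↥H := by
  unfold VV
  ext x
  rw [mem_subgroupOf, mem_map]
  constructor
  · rintro ⟨y, hy, hxy⟩
    have : y = x := Subtype.ext hxy
    rwa [← this]
  · intro hx; exact ⟨x, hx, rfl⟩

/-- maximality of `V = O_p(H)`. -/
theorem le_VV {M : Subgroup G} (hMH : M ≤ H) (hn : H ≤ normalizer (M : Set G))
    (hM : IsPGroup p M) : M ≤ VV p H := by
  have hn' : (M.subgroupOf H).Normal := (normal_subgroupOf_iff_le_normalizer hMH).mpr hn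
  have hp' : IsPGroup p (M.subgroupOf H) :=
    hM.of_injective (M.subgroupOfEquivOfLe hMH).toMonoidHom (M.subgroupOfEquivOfLe hMH).injective
  have h1 : M.subgroupOf H ≤ pCore p ↥H := le_pCore hn' hp'
  intro x hx
  exact ⟨⟨x, hMH hx⟩, h1 (mem_subgroupOf.mpr hx), rfl⟩

namespace Ctx

theorem comm_eq (c : Ctx p H R R₀) : ⁅H, R⁆ = H := by
  by_contra hne
  have hle : ⁅H, R⁆ ≤ H := Subgroup.commutator_le_left H R
  have hlt : ⁅H, R⁆ < H := lt_of_le_of_ne hle hne
  have hRn : R ≤ normalizer (H : Set G) := by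
    rw [normalizer_eq_top_iff.mpr ‹H.Normal›]; exact le_top
  have hcard : Nat.card ↥⁅H, R⁆ < Nat.card H :=
    lt_of_le_of_ne (Subgroup.card_le_of_le hle)
      (fun e => hlt.ne (Subgroup.eq_of_le_of_card_ge hle e.ge))
  have hlt' : Nat.card ↥⁅H, R⁆ * Nat.card R < Nat.card G := by
    rw [← c.card_mul]
    exact Nat.mul_lt_mul_of_pos_right hcard Nat.card_pos
  have h1 := c.sub ⁅H, R⁆ R hle le_rfl c.le
    (Cfsg.Agent.Helper47.le_normalizer_commutator_right H R) hlt'
  have h2 : ⁅⁅H, R⁆, R⁆ = ⁅H, R⁆ :=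
    Cfsg.Agent.S0027.result R H hRn c.coprime.symm (Or.inr (solv_sub H))
  rw [h2] at h1
  exact c.not h1

theorem not' (c : Ctx p H R R₀) : ¬ PLengthLE p 1 ↥H := by
  have h := c.not
  rwa [c.comm_eq] at h

theorem pPrimeCore_eq_bot (c : Ctx p H R R₀) : pPrimeCore p ↥H = ⊥ := by
  by_contra hne
  haveI hchar : (pPrimeCore p ↥H).Characteristic := pPrimeCore_characteristic p
  haveI hn : (pPrimeCore p ↥H).Normal := normal_of_characteristic _
  have hG : ((pPrimeCore p ↥H).map H.subtype).Normal := normal_map_of_characteristic H _ hchar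
  have h1 := c.quo c.comm_eq (pPrimeCore p ↥H) hG hne
  apply c.not'
  refine Cfsg.Agent.Helper63.pLengthLE_of_quotient_pPrime (pPrimeCore p ↥H) ?_ h1
  rw [Cfsg.Agent.Helper54.upperPSeries_one]

theorem centralizer_VV_le (c : Ctx p H R R₀) : H ⊓ centralizer (VV p H : Set G) ≤ VV p H := by
  haveI : Group.IsSolvable ↥H := solv_sub H
  have h1 := Cfsg.Agent.Helper55.centralizer_pCore_le (G := ↥H) p c.pPrimeCore_eq_bot
  rintro x ⟨hxH, hxC⟩
  have h2 : (⟨x, hxH⟩ : ↥H) ∈ centralizer (pCore p ↥H : Set ↥H) := by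
    rw [mem_centralizer_iff]
    intro y hy
    apply Subtype.ext
    have : (y : G) ∈ VV p H := ⟨y, hy, rfl⟩
    exact (mem_centralizer_iff.mp hxC) _ this
  exact ⟨⟨x, hxH⟩, h1 h2, rfl⟩

theorem frattini_eq_bot (c : Ctx p H R R₀) : frattini ↥(pCore p ↥H) = ⊥ := by
  by_contra hne
  haveI : Group.IsSolvable ↥H := solv_sub H
  haveI hchar : (pCore p ↥H).Characteristic := pCore_characteristic p
  haveI hn : (pCore p ↥H).Normal := normal_of_characteristic _
  set Φ : Subgroup ↥H := (frattini ↥(pCore p ↥H)).map (pCore p ↥H).subtype with hΦ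
  have hΦchar : Φ.Characteristic := by
    rw [characteristic_iff_le_comap]
    intro φ
    rintro _ ⟨x, hx, rfl⟩
    rw [mem_comap]
    -- `φ` restricts to an automorphism of `pCore`
    have hmem : ∀ y : ↥H, y ∈ pCore p ↥H → φ y ∈ pCore p ↥H := fun y hy =>
      (characteristic_iff_le_comap.mp hchar φ) hy
    have hmem' : ∀ y : ↥H, y ∈ pCore p ↥H → φ.symm y ∈ pCore p ↥H := fun y hy =>
      (characteristic_iff_le_comap.mp hchar φ.symm) hy
    let ψ : ↥(pCore p ↥H) ≃* ↥(pCore p ↥H) :=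
      { toFun := fun y => ⟨φ (y : ↥H), hmem y y.2⟩
        invFun := fun y => ⟨φ.symm (y : ↥H), hmem' y y.2⟩
        left_inv := fun y => Subtype.ext (φ.symm_apply_apply (y : ↥H))
        right_inv := fun y => Subtype.ext (φ.apply_symm_apply (y : ↥H))
        map_mul' := fun y z => Subtype.ext (map_mul φ (y : ↥H) (z : ↥H)) }
    have hfr : (frattini ↥(pCore p ↥H)).Characteristic := frattini_characteristic
    have := (characteristic_iff_le_comap.mp hfr ψ) hx
    exact ⟨ψ x, this, rfl⟩
  haveI hΦn : Φ.Normal := normal_of_characteristic _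
  have hG : (Φ.map H.subtype).Normal := normal_map_of_characteristic H _ hΦchar
  have hΦ1 : Φ ≠ ⊥ := by
    intro h
    apply hne
    rw [hΦ, Subgroup.map_eq_bot_iff_of_injective _ (Subgroup.subtype_injective _)] at h
    exact h
  have h1 := c.quo c.comm_eq Φ hG hΦ1
  exact c.not' (pLengthLE_one_of_quotient_frattini c.pPrimeCore_eq_bot Φ hΦ h1)

theorem VV_elementary (c : Ctx p H R R₀) : IsElementaryAbelian p (VV p H) := by
  have hP : IsPGroup p ↥(pCore p ↥H) := isPGroup_pCore p
  have hcomm : commutator ↥(pCore p ↥H) = ⊥ := by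
    have := Cfsg.Agent.S3754.commutator_le_frattini_of_isPGroup hP
    rwa [c.frattini_eq_bot, le_bot_iff] at this
  have hpow : ∀ g : ↥(pCore p ↥H), g ^ p = 1 := by
    intro g
    have := Cfsg.Agent.Helper63.pow_prime_mem_frattini hP g
    rwa [c.frattini_eq_bot, Subgroup.mem_bot] at this
  constructor
  · refine ⟨⟨?_⟩⟩
    rintro ⟨_, ⟨a, ha, rfl⟩⟩ ⟨_, ⟨b, hb, rfl⟩⟩
    apply Subtype.ext
    have h1 : ⁅(⟨a, ha⟩ : ↥(pCore p ↥H)), ⟨b, hb⟩⁆ ∈ commutator ↥(pCore p ↥H) :=
      commutator_mem_commutator (mem_top _) (mem_top _)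
    rw [hcomm, Subgroup.mem_bot, commutatorElement_eq_one_iff_mul_comm] at h1
    have h2 := congrArg (fun z : ↥(pCore p ↥H) => ((z : ↥H) : G)) h1
    simpa using h2
  · rintro _ ⟨a, ha, rfl⟩
    have := hpow ⟨a, ha⟩
    have h2 := congrArg (fun z : ↥(pCore p ↥H) => ((z : ↥H) : G)) this
    simpa using h2

/-- `V` is not a Sylow `p`-subgroup of `H` -/
theorem dvd_index (c : Ctx p H R R₀) : p ∣ (pCore p ↥H).index := by
  by_contra hnd
  haveI hchar : (pCore p ↥H).Characteristic := pCore_characteristic p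
  haveI hn : (pCore p ↥H).Normal := normal_of_characteristic _
  exact c.not' (pLengthLE_one_of_normal_pGroup (pCore p ↥H) (isPGroup_pCore p) hnd)

end Ctx

end Cfsg.Agent.Helper4.BG36
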