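import Mathlib
import Cfsg.Agent.Helper4.BG36Red
import Cfsg.Agent.Helper4.BG36Over
import Cfsg.Agent.Helper4.BG36DualHH
import Cfsg.Agent.S0023
import Cfsg.Agent.S0055

/-!
# BG Theorem 3.6: the complement `N = N_H(Q₀)` (step (2) of the proof)
-/

set_option autoImplicit false
set_option linter.unusedSectionVars false
set_option linter.style.haveILetI false
open Cfsg

namespace Cfsg.Agent.Helper4.BG36

open Subgroup Cfsg.Agent.Helper71.Shult Cfsg.Agent.Lib
open scoped commutatorElement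

universe u

variable {G : Type u} [Group G] [Finite G] [Group.IsSolvable G] {p : ℕ} [Fact p.Prime]
  {H R R₀ : Subgroup G} [H.Normal]

/-- the configuration after step (2): a complement `N` to `V = O_p(H)` in `H`. -/
structure Cfg (p : ℕ) (H R V N : Subgroup G) : Prop where
  hV : IsElementaryAbelian p V
  hVn : V.Normal
  hVH : V ≤ H
  hcent : H ⊓ centralizer (V : Set G) ≤ V
  hNH : N ≤ H
  hdisj : V ⊓ N = ⊥
  hsup : V ⊔ N = H
  hRN : R ≤ normalizer (N : Set G)
  hcore : pCore p ↥N = ⊥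
  hNR : ⁅N, R⁆ = N
  hpN : p ∣ Nat.card N

section general

variable {X : Type*} [Group X]

/-- `N_V(Q) = C_V(Q)` when `V ⊓ Q = ⊥` and `V` is normalized by `Q`. -/
theorem inf_normalizer_le_centralizer {V Q : Subgroup X} (hQV : Q ≤ normalizer (V : Set X))
    (hdisj : V ⊓ Q = ⊥) : V ⊓ normalizer (Q : Set X) ≤ centralizer (Q : Set X) := by
  rintro v ⟨hvV, hvN⟩
  rw [mem_centralizer_iff]
  intro s hs
  have h1 : ⁅v, s⁆ ∈ V := by
    rw [commutatorElement_def]
    have : s * v⁻¹ * s⁻¹ ∈ V := conj_mem_of_le_normalizer hQV hs (V.inv_mem hvV)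
    have := V.mul_mem hvV this
    simpa [mul_assoc] using this
  have h2 : ⁅v, s⁆ ∈ Q := by
    rw [commutatorElement_def]
    have : v * s * v⁻¹ ∈ Q := (mem_normalizer_iff.mp hvN s).mp hs
    exact Q.mul_mem this (Q.inv_mem hs)
  have h3 : ⁅v, s⁆ ∈ V ⊓ Q := ⟨h1, h2⟩
  rw [hdisj, Subgroup.mem_bot, commutatorElement_eq_one_iff_mul_comm] at h3
  exact h3.symm

/-- `[V N, R] ≤ [N, R] V` for a normal subgroup `V`. -/
theorem commutator_sup_le_sup (V N R : Subgroup X) [V.Normal] : ⁅V ⊔ N, R⁆ ≤ ⁅N, R⁆ ⊔ V := by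
  have hker : (QuotientGroup.mk' V).ker = V := QuotientGroup.ker_mk' V
  have hVmap : V.map (QuotientGroup.mk' V) = ⊥ := by rw [Subgroup.map_eq_bot_iff, hker]
  have h1 : (⁅V ⊔ N, R⁆).map (QuotientGroup.mk' V) = (⁅N, R⁆).map (QuotientGroup.mk' V) := by
    rw [Subgroup.map_commutator, Subgroup.map_sup, hVmap, bot_sup_eq, ← Subgroup.map_commutator]
  have h2 : ⁅V ⊔ N, R⁆ ≤ ((⁅V ⊔ N, R⁆).map (QuotientGroup.mk' V)).comap (QuotientGroup.mk' V) :=
    Subgroup.le_comap_map _ _
  rw [h1, Subgroup.comap_map_eq, hker] at h2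
  exact h2

/-- a form of the modular law -/
theorem le_of_le_sup_of_disjoint {V N A : Subgroup X} [V.Normal] (hdisj : V ⊓ N = ⊥) (hAN : A ≤ N)
    (h : N ≤ A ⊔ V) : N ≤ A := by
  intro n hn
  obtain ⟨y, hy, v, hv, rfl⟩ := Subgroup.mem_sup_of_normal_right.mp (h hn)
  have hvN : v ∈ N := by
    have : v = y⁻¹ * (y * v) := by group
    rw [this]; exact N.mul_mem (N.inv_mem (hAN hy)) hn
  have : v ∈ V ⊓ N := ⟨hv, hvN⟩
  rw [hdisj, Subgroup.mem_bot] at this
  rw [this, mul_one]; exact hy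

end general

namespace Ctx

theorem VV_ne (c : Ctx p H R R₀) : VV p H ≠ H := by
  intro h
  have h1 : pCore p ↥H = ⊤ := by
    rw [← VV_subgroupOf, h, subgroupOf_self]
  have := c.dvd_index
  rw [h1, index_top] at this
  exact (Fact.out : p.Prime).one_lt.ne' (Nat.dvd_one.mp this)

theorem card_VV_mul (c : Ctx p H R R₀) : Nat.card (VV p H) * (pCore p ↥H).index = Nat.card H := by
  have h1 := (pCore p ↥H).card_mul_index
  have h2 : Nat.card (VV p H) = Nat.card (pCore p ↥H) := by
    unfold VV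
    exact Subgroup.card_map_of_injective (Subgroup.subtype_injective H)
  rw [h2]; exact h1

/-- step (2): the complement. -/
theorem exists_cfg (c : Ctx p H R R₀) : ∃ N : Subgroup G, Cfg p H R (VV p H) N := by
  have hp : p.Prime := Fact.out
  set V : Subgroup G := VV p H with hVdef
  have hVH : V ≤ H := VV_le p H
  haveI hVn : V.Normal := VV_normal p H
  have hVp : IsPGroup p V := VV_isPGroup p H
  have hVel : IsElementaryAbelian p V := c.VV_elementary
  haveI hVcomm : IsMulCommutative V := hVel.1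
  have hcent : H ⊓ centralizer (V : Set G) ≤ V := c.centralizer_VV_le
  haveI : Group.IsSolvable ↥H := solv_sub H
  have htopn : ∀ K : Subgroup G, K.Normal → ∀ X : Subgroup G, X ≤ normalizer (K : Set G) := by
    intro K hK X
    rw [normalizer_eq_top_iff.mpr hK]; exact le_top
  -- the section `L / V`
  obtain ⟨q, hq, L, k, hqp, hLn, hVL, hLH, hk, hLcard⟩ :=
    exists_normal_prime_power_over H V hVH c.VV_ne hVp
      (fun M hM hMH hMp => le_VV hMH (htopn M hM H) hMp)
  haveI : Fact q.Prime := ⟨hq⟩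
  haveI := hLn
  -- an `R`-invariant Sylow `q`-subgroup of `L`
  have hcopRL : (Nat.card R).Coprime (Nat.card L) := (c.coprime_le hLH le_rfl).symm
  obtain ⟨S, hRS⟩ := Cfsg.Agent.S0023.result R L (htopn L hLn R) hcopRL (Or.inr (solv_sub L)) q
  set Q : Subgroup G := (S : Subgroup L).map L.subtype with hQdef
  have hQL : Q ≤ L := Subgroup.map_subtype_le _
  have hQH : Q ≤ H := hQL.trans hLH
  obtain ⟨a, ha⟩ := hVp.exists_card_eq
  have hQcard : Nat.card Q = q ^ k := by
    rw [hQdef, Subgroup.card_map_of_injective (Subgroup.subtype_injective L),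
      S.card_eq_multiplicity, hLcard, ha]
    congr 1
    rw [Nat.factorization_mul (pow_pos hp.pos a).ne' (pow_pos hq.pos k).ne']
    simp only [Finsupp.coe_add, Pi.add_apply]
    rw [hp.factorization_pow, hq.factorization_pow]
    simp [Finsupp.single_apply, hqp.symm]
  have hQ1 : Q ≠ ⊥ := by
    intro h
    rw [h, Subgroup.card_bot] at hQcard
    exact (Nat.one_lt_pow hk.ne' hq.one_lt).ne hQcard
  have hQq : IsPGroup q Q := IsPGroup.of_card hQcard
  have hcopVQ : (Nat.card V).Coprime (Nat.card Q) := by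
    rw [ha, hQcard]
    exact Nat.Coprime.pow _ _ ((Nat.coprime_primes hp hq).mpr (Ne.symm hqp))
  have hVQ : V ⊓ Q = ⊥ := (Subgroup.disjoint_of_coprime_natCard hcopVQ).eq_bot
  have hQV : Q ≤ normalizer (V : Set G) := htopn V hVn Q
  -- `L = V ⊔ Q`
  have hLeq : V ⊔ Q = L := by
    apply Subgroup.eq_of_le_of_card_ge (sup_le hVL hQL)
    rw [Cfsg.Agent.Helper4.card_sup_of_le_normalizer V Q hQV hVQ, hLcard, hQcard]
  -- Frattini
  have hfr : normalizer (Q : Set G) ⊔ L = ⊤ := Sylow.normalizer_sup_eq_top S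
  set N : Subgroup G := H ⊓ normalizer (Q : Set G) with hNdef
  have hNH : N ≤ H := inf_le_left
  have hQN : Q ≤ N := le_inf hQH le_normalizer
  have hRH : R ≤ normalizer (H : Set G) := htopn H inferInstance R
  have hRN : R ≤ normalizer (N : Set G) :=
    inf_le_normalizer hRH (hRS.trans le_normalizer)
  -- `H = V ⊔ N`
  have hsup : V ⊔ N = H := by
    apply le_antisymm (sup_le hVH hNH)
    intro h hh
    have h1 : h ∈ normalizer (Q : Set G) ⊔ L := by rw [hfr]; exact mem_top h
    obtain ⟨n, hn, l, hl, rfl⟩ := Subgroup.mem_sup_of_normal_right.mp h1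
    rw [← hLeq] at hl
    obtain ⟨v, hv, s, hs, rfl⟩ := Subgroup.mem_sup_of_normal_left.mp hl
    have hnH : n ∈ H := by
      have : n = (n * (v * s)) * (v * s)⁻¹ := by group
      rw [this]
      exact H.mul_mem hh (H.inv_mem (H.mul_mem (hVH hv) (hQH hs)))
    have e : n * (v * s) = (n * v * n⁻¹) * (n * s) := by group
    rw [e]
    exact Subgroup.mul_mem_sup (hVn.conj_mem v hv n)
      (N.mul_mem ⟨hnH, hn⟩ (hQN hs))
  -- `C₀ = C_V(Q)` and `V₁ = [V, Q]`
  set C₀ : Subgroup G := V ⊓ centralizer (Q : Set G) with hC₀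
  set V₁ : Subgroup G := ⁅V, Q⁆ with hV₁
  obtain ⟨hdec1, hdec2⟩ := Cfsg.Agent.S0055.result Q V hQV hcopVQ.symm
  have hVN : V ⊓ N = C₀ := by
    apply le_antisymm
    · rintro v ⟨hv, hvN⟩
      exact ⟨hv, inf_normalizer_le_centralizer hQV hVQ ⟨hv, hvN.2⟩⟩
    · rintro v ⟨hv, hvC⟩
      exact ⟨hv, hVH hv, le_normalizer_of_le_centralizer (X := zpowers v) (U := Q)
        (by rw [zpowers_le]; exact hvC) (mem_zpowers v)⟩
  -- `V₁ = [V, L]` is normal in `G`
  have hV₁L : V₁ = ⁅V, L⁆ := by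
    apply le_antisymm (commutator_mono le_rfl hQL)
    rw [commutator_le]
    intro v hv l hl
    rw [← hLeq] at hl
    obtain ⟨w, hw, s, hs, rfl⟩ := Subgroup.mem_sup_of_normal_left.mp hl
    have hvw : v * w = w * v := isElementaryAbelian_commute hVel hv hw
    have hc : ⁅v, s⁆ ∈ V := by
      rw [commutatorElement_def]
      have : s * v⁻¹ * s⁻¹ ∈ V := hVn.conj_mem _ (V.inv_mem hv) s
      have := V.mul_mem hv this
      simpa [mul_assoc] using this
    have hcw : ⁅v, s⁆ * w⁻¹ = w⁻¹ * ⁅v, s⁆ :=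
      isElementaryAbelian_commute hVel hc (V.inv_mem hw)
    have e : ⁅v, w * s⁆ = ⁅v, s⁆ := by
      have e1 : ⁅v, w * s⁆ = (v * w) * (s * v⁻¹ * s⁻¹) * w⁻¹ := by
        rw [commutatorElement_def]; group
      have e2 : ⁅v, s⁆ = v * (s * v⁻¹ * s⁻¹) := by rw [commutatorElement_def]; group
      rw [e1, hvw, mul_assoc w, ← e2, mul_assoc, hcw, ← mul_assoc, mul_inv_cancel, one_mul]
    rw [e]
    exact commutator_mem_commutator hv hs
  have hV₁n : V₁.Normal := by rw [hV₁L]; infer_instance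
  have hV₁V : V₁ ≤ V := commutator_le_of_le_normalizer hQV
  -- `C₀` is normal in `G`
  have hC₀n : C₀.Normal := by
    rw [← normalizer_eq_top_iff, eq_top_iff, ← hfr]
    apply sup_le
    · -- `N_G(Q)` normalizes `C_V(Q)`
      have h1 : normalizer (Q : Set G) ≤ normalizer (V : Set G) := htopn V hVn _
      exact inf_le_normalizer h1 (le_normalizer_centralizer le_rfl)
    · -- `L = V Q` centralizes `C_V(Q)`
      rw [← hLeq]
      apply sup_le
      · apply le_normalizer_of_le_centralizer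
        intro v hv
        rw [mem_centralizer_iff]
        intro w hw
        exact isElementaryAbelian_commute hVel hw.1 hv
      · apply le_normalizer_of_le_centralizer
        intro s hs
        rw [mem_centralizer_iff]
        intro w hw
        exact (mem_centralizer_iff.mp hw.2 s hs).symm
  -- `V₁ ≠ ⊥`
  have hV₁1 : V₁ ≠ ⊥ := by
    intro h
    apply hQ1
    have h1 : Q ≤ centralizer (V : Set G) := by
      intro s hs
      rw [mem_centralizer_iff]
      intro v hv
      have : ⁅v, s⁆ ∈ V₁ := commutator_mem_commutator hv hs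
      rw [h, Subgroup.mem_bot, commutatorElement_eq_one_iff_mul_comm] at this
      exact this
    have h2 : Q ≤ V := fun s hs => hcent ⟨hQH hs, h1 hs⟩
    rw [eq_bot_iff, ← hVQ]
    exact le_inf h2 le_rfl
  -- `C₀ = ⊥` by the subdirect product argument
  have hC₀1 : C₀ = ⊥ := by
    by_contra hne
    have hC₀H : C₀ ≤ H := inf_le_left.trans hVH
    have hV₁H : V₁ ≤ H := hV₁V.trans hVH
    haveI n1 : (C₀.subgroupOf H).Normal := hC₀n.subgroupOf H
    haveI n2 : (V₁.subgroupOf H).Normal := hV₁n.subgroupOf H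
    have m1 : ((C₀.subgroupOf H).map H.subtype).Normal := by
      rw [map_subgroupOf_eq_of_le hC₀H]; exact hC₀n
    have m2 : ((V₁.subgroupOf H).map H.subtype).Normal := by
      rw [map_subgroupOf_eq_of_le hV₁H]; exact hV₁n
    have b1 : C₀.subgroupOf H ≠ ⊥ := by
      intro h; exact hne ((subgroupOf_eq_bot.mp h).eq_bot.symm ▸ (inf_of_le_left hC₀H).symm)
    have b2 : V₁.subgroupOf H ≠ ⊥ := by
      intro h; exact hV₁1 ((subgroupOf_eq_bot.mp h).eq_bot.symm ▸ (inf_of_le_left hV₁H).symm)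
    have q1 := c.quo c.comm_eq (C₀.subgroupOf H) m1 b1
    have q2 := c.quo c.comm_eq (V₁.subgroupOf H) m2 b2
    apply c.not'
    refine pLengthLE_one_of_inf_eq_bot (C₀.subgroupOf H) (V₁.subgroupOf H) ?_ q1 q2
    rw [eq_bot_iff]
    rintro x ⟨hx1, hx2⟩
    have : (x : G) ∈ C₀ ⊓ V₁ := ⟨mem_subgroupOf.mp hx1, mem_subgroupOf.mp hx2⟩
    rw [hdec1, Subgroup.mem_bot] at this
    rw [Subgroup.mem_bot]
    exact Subtype.ext this
  have hdisj : V ⊓ N = ⊥ := by rw [hVN, hC₀1]
  have hNV : N ≤ normalizer (V : Set G) := htopn V hVn N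
  -- `O_p(N) = 1`
  have hcore : pCore p ↥N = ⊥ := by
    set M : Subgroup G := (pCore p ↥N).map N.subtype with hM
    have hMN : M ≤ N := Subgroup.map_subtype_le _
    haveI hcn : (pCore p ↥N).Normal := normal_of_characteristic _ (h := pCore_characteristic p)
    have hNM : N ≤ normalizer (M : Set G) := by
      have := Cfsg.Agent.Helper53.char_map_normalizer_le N (pCore p ↥N) (pCore_characteristic p)
      exact le_normalizer.trans this
    have hMp : IsPGroup p M := (isPGroup_pCore (G := ↥N) p).map N.subtype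
    have hVMp : IsPGroup p ↥(V ⊔ M) := IsPGroup.to_sup_of_normal_left hVp hMp
    have hHn : H ≤ normalizer ((V ⊔ M : Subgroup G) : Set G) := by
      rw [← hsup]
      apply sup_le
      · exact le_sup_left.trans le_normalizer
      · exact sup_le_normalizer hNV hNM
    have h1 : V ⊔ M ≤ V := le_VV (sup_le hVH (hMN.trans hNH)) hHn hVMp
    have h2 : M ≤ V ⊓ N := le_inf (le_sup_right.trans h1) hMN
    rw [hdisj, le_bot_iff, hM, Subgroup.map_eq_bot_iff_of_injective _ (Subgroup.subtype_injective _)]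
      at h2
    exact h2
  -- `N = [N, R]`
  have hNR : ⁅N, R⁆ = N := by
    apply le_antisymm (commutator_le_of_le_normalizer hRN)
    have h2 : ⁅V ⊔ N, R⁆ ≤ ⁅N, R⁆ ⊔ V := commutator_sup_le_sup V N R
    rw [hsup, c.comm_eq] at h2
    exact le_of_le_sup_of_disjoint hdisj (commutator_le_of_le_normalizer hRN) (hNH.trans h2)
  -- `p ∣ |N|`
  have hpN : p ∣ Nat.card N := by
    have h1 : Nat.card H = Nat.card V * Nat.card N := by
      rw [← hsup]; exact Cfsg.Agent.Helper4.card_sup_of_le_normalizer V N hNV hdisj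
    have h2 := c.card_VV_mul
    rw [h1] at h2
    have h3 : (pCore p ↥H).index = Nat.card N :=
      Nat.eq_of_mul_eq_mul_left Nat.card_pos h2
    rw [← h3]; exact c.dvd_index
  exact ⟨N, hVel, hVn, hVH, hcent, hNH, hdisj, hsup, hRN, hcore, hNR, hpN⟩

end Ctx

end Cfsg.Agent.Helper4.BG36
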