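import Mathlib
import Cfsg.Agent.Helper4.BG36Compl
import Cfsg.Agent.Helper32.BG36P

/-!
# BG Theorem 3.6: a minimal counterexample does not exist
-/

set_option autoImplicit false
set_option linter.unusedSectionVars false
set_option linter.style.haveILetI false
open Cfsg

namespace Cfsg.Agent.Helper4.BG36

open Subgroup Cfsg.Agent.Helper71.Shult Cfsg.Agent.Lib
open scoped commutatorElement

universe u

variable {G : Type u} [Group G] [Finite G] [Group.IsSolvable G] {p : ℕ} [Fact p.Prime]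
  {H R R₀ : Subgroup G} [H.Normal]

/-- the `p'`-core of a subgroup `N`, as a subgroup of `G`. -/
def KK (p : ℕ) (N : Subgroup G) : Subgroup G := (pPrimeCore p ↥N).map N.subtype

theorem KK_le (p : ℕ) (N : Subgroup G) : KK p N ≤ N := Subgroup.map_subtype_le _

theorem KK_card (p : ℕ) [Fact p.Prime] (N : Subgroup G) : ¬ p ∣ Nat.card (KK p N) := by
  have hp : p.Prime := Fact.out
  have h1 : Nat.card (KK p N) = Nat.card (pPrimeCore p ↥N) := by
    unfold KK
    exact Subgroup.card_map_of_injective (Subgroup.subtype_injective N)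
  rw [h1]
  intro hdvd
  have h2 := card_pPrimeCore_coprime (G := ↥N) p
  have h3 : p ∣ Nat.gcd (Nat.card (pPrimeCore p ↥N)) p := Nat.dvd_gcd hdvd dvd_rfl
  rw [Nat.Coprime] at h2
  rw [h2] at h3
  exact hp.one_lt.ne' (Nat.dvd_one.mp h3)

theorem normalizer_le_normalizer_KK (p : ℕ) (N : Subgroup G) :
    normalizer (N : Set G) ≤ normalizer (KK p N : Set G) :=
  Cfsg.Agent.Helper53.char_map_normalizer_le N _ (pPrimeCore_characteristic p)

theorem centralizer_KK_le (N : Subgroup G) (hcore : pCore p ↥N = ⊥) :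
    N ⊓ centralizer (KK p N : Set G) ≤ KK p N := by
  haveI : Group.IsSolvable ↥N := Ctx.solv_sub N
  have h1 := Cfsg.Agent.Helper4.BG36.centralizer_pPrimeCore_le (G := ↥N) p hcore
  rintro x ⟨hxN, hxC⟩
  have h2 : (⟨x, hxN⟩ : ↥N) ∈ centralizer (pPrimeCore p ↥N : Set ↥N) := by
    rw [mem_centralizer_iff]
    intro y hy
    apply Subtype.ext
    have hyK : (y : G) ∈ KK p N := ⟨y, hy, rfl⟩
    exact (mem_centralizer_iff.mp hxC) (y : G) hyK
  exact ⟨⟨x, hxN⟩, h1 h2, rfl⟩

namespace Ctx

/-- **BG Theorem 3.6**: there is no minimal counterexample. -/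
theorem absurd (c : Ctx p H R R₀) : False := by
  obtain ⟨N, cfg⟩ := c.exists_cfg
  set V : Subgroup G := VV p H with hVdef
  haveI hVn : V.Normal := cfg.hVn
  have hVtop : normalizer (V : Set G) = ⊤ := normalizer_eq_top_iff.mpr hVn
  have hNV : N ≤ normalizer (V : Set G) := by rw [hVtop]; exact le_top
  have hRV : R ≤ normalizer (V : Set G) := by rw [hVtop]; exact le_top
  -- orders
  have hcardH : Nat.card V * Nat.card N = Nat.card H := by
    have h1 := Cfsg.Agent.Helper63.SR4.card_sup_mul_card_inf N V hNV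
    rw [sup_comm, cfg.hsup, inf_comm, cfg.hdisj, Subgroup.card_bot, mul_one] at h1
    rw [h1, mul_comm]
  have hcop : (Nat.card V * Nat.card N).Coprime (Nat.card R) := by
    rw [hcardH]; exact c.coprime
  have hG : Nat.card G = Nat.card V * Nat.card N * Nat.card R := by
    rw [hcardH]; exact c.card_mul.symm
  have hfaith : N ⊓ centralizer (V : Set G) = ⊥ := by
    rw [eq_bot_iff, ← cfg.hdisj]
    intro x hx
    exact ⟨cfg.hcent ⟨cfg.hNH hx.1, hx.2⟩, hx.1⟩
  have hZ : IsZGroup ↥((V ⊔ N) ⊓ centralizer (R₀ : Set G)) := by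
    rw [cfg.hsup]; exact c.zg
  have hKN : KK p N ≤ N := KK_le p N
  have hNK : N ≤ normalizer (KK p N : Set G) :=
    le_normalizer.trans (normalizer_le_normalizer_KK p N)
  have hRK : R ≤ normalizer (KK p N : Set G) := cfg.hRN.trans (normalizer_le_normalizer_KK p N)
  have hVp : IsPGroup p V := VV_isPGroup p H
  refine Cfsg.Agent.Helper32.BG36.middle c.odd V N R R₀ (KK p N) cfg.hV hNV hRV cfg.hRN c.le
    c.prime hcop cfg.hdisj hfaith cfg.hNR hKN (KK_card p N) hNK hRK
    (centralizer_KK_le N cfg.hcore) hZ ?_ hG cfg.hpN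
  intro V₁ Q₁ P₁ hV₁ hQ₁ hP₁ hP₁p hQ₁p hQV hPV hRV₁ hPQ hRQ hRP hCP hlt
  exact c.trick V₁ Q₁ P₁ (hV₁.trans cfg.hVH) (hQ₁.trans cfg.hNH) (hP₁.trans cfg.hNH)
    (hVp.to_le hV₁) hP₁p hQ₁p hQV hPV hRV₁ hPQ hRQ hRP hCP hlt

end Ctx

/-- **BG Theorem 3.6**, all orders. -/
theorem below_all (n : ℕ) : Below.{u} n := by
  induction n using Nat.strong_induction_on with
  | _ n ih =>
    intro G _ _ _ hlt hodd H R R₀ _ hHall hR hR₀ hR₀p hZ p _
    by_contra hnot
    have c : Ctx p H R R₀ :=
      { ih := ih (Nat.card G) hlt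
        odd := hodd
        hall := hHall
        compl := hR
        le := hR₀
        prime := hR₀p
        zg := hZ
        not := hnot }
    exact c.absurd

end Cfsg.Agent.Helper4.BG36
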