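import Mathlib
import Cfsg.Agent.Helper99.QSpDefs
import Cfsg.Agent.Helper94.TnH

/-!
# Piece (QE2) of helper99's S5974 engine (#5827): the number of hyperbolic frames of a
nondegenerate quadratic space of dimension `2 d` and type `εV`, characteristic free.

`card_qFrame'` takes (QE1) `card_qpairs` and (QA1) `hyp_iff_qType` (direction `→`) as explicit
hypotheses; the file `QSpQE2b` instantiates them once those pieces are on main.
-/

set_option autoImplicit false
set_option linter.unusedSectionVars false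
set_option linter.style.haveILetI false

namespace Cfsg.Agent.Helper4.QSp

open Module Polynomial
open Cfsg.Agent.Helper59.InvChain Cfsg.Agent.Helper59.Elusive
open Cfsg.Agent.Helper99.SpStruct Cfsg.Agent.Helper99.RDecomp
open Cfsg.Agent.Helper44 Cfsg.Agent.Helper44.QType
open Cfsg.Agent.Helper99.QSp
open Cfsg.Agent.Helper94

universe u v

variable {F : Type u} [Field F] [Fintype F]
variable {V : Type v} [AddCommGroup V] [Module F V] [FiniteDimensional F V]

/-- the statement of (QE1) `card_qpairs`, as a hypothesis -/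
def QE1Stmt (Q : QuadraticForm F V) : Prop :=
  ∀ (X : Submodule F V), Nd (pB Q) X → ∀ g : ℕ, 0 < g → finrank F ↥X = 2 * g → ∀ ε : ℤ,
    QType Q X g ε →
    (Nat.card {p : V × V // IsQPair Q p ∧ p.1 ∈ X ∧ p.2 ∈ X} : ℤ) =
      ((Fintype.card F : ℤ) ^ g - ε) * ((Fintype.card F : ℤ) ^ (g - 1) + ε) *
        (Fintype.card F : ℤ) ^ (2 * g - 2)

/-- the direction `→` of (QA1) `hyp_iff_qType`, as a hypothesis -/
def QA1Stmt (Q : QuadraticForm F V) : Prop :=
  ∀ (W : Submodule F V), Nd (pB Q) W → ∀ e : ℕ, finrank F ↥W = 2 * e → Hyp Q W → QType Q W e 1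

omit [Fintype F] [FiniteDimensional F V] in
theorem isQPair_iff (Q : QuadraticForm F V) (p : V × V) :
    IsQPair Q p ↔ Tn.IsHPair (pB Q) p ∧ Q p.1 = 0 ∧ Q p.2 = 0 := by
  unfold IsQPair Tn.IsHPair
  constructor
  · rintro ⟨h1, h2, h3⟩
    refine ⟨⟨?_, ?_, h3⟩, h1, h2⟩
    · rw [pB_self, h1, mul_zero]
    · rw [pB_self, h2, mul_zero]
  · rintro ⟨⟨-, -, h3⟩, h1, h2⟩
    exact ⟨h1, h2, h3⟩

omit [Fintype F] in
theorem isQFrame_cons (Q : QuadraticForm F V) {e : ℕ} (p : V × V) (s : Fin e → V × V) :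
    IsQFrame Q (Fin.cons p s : Fin (e + 1) → V × V) ↔
      IsQFrame Q s ∧ (IsQPair Q p ∧ p.1 ∈ (pB Q).orthogonal (Tn.hSpan (F := F) s) ∧
        p.2 ∈ (pB Q).orthogonal (Tn.hSpan (F := F) s)) := by
  unfold IsQFrame
  rw [Tn.isHFrame_cons (pB_symm Q), isQPair_iff, Fin.forall_fin_succ]
  simp only [Fin.cons_zero, Fin.cons_succ]
  tauto

omit [Fintype F] in
/-- the span of the first vectors of a `Q`-frame is totally singular -/
theorem ts_span_fst (Q : QuadraticForm F V) {e : ℕ} {s : Fin e → V × V} (hs : IsQFrame Q s) :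
    TS Q (Submodule.span F (Set.range fun a => (s a).1)) := by
  have horth : Orth (pB Q) (Submodule.span F (Set.range fun a => (s a).1))
      (Submodule.span F (Set.range fun a => (s a).1)) := by
    rw [orth_iff_le, Submodule.span_le]
    rintro _ ⟨b, rfl⟩
    rw [SetLike.mem_coe, Tn.mem_orth_span_range]
    intro a
    by_cases hab : a = b
    · subst hab; exact (hs.1.1 a).1
    · exact (hs.1.2 a b hab).1
  intro u hu
  induction hu using Submodule.span_induction with
  | mem x hx =>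
    obtain ⟨a, rfl⟩ := hx
    exact (hs.2 a).1
  | zero => exact map_zero Q
  | add x y hx hy hQx hQy =>
    have h1 : Q (x + y) = QuadraticMap.polar Q x y + Q x + Q y := by
      unfold QuadraticMap.polar; ring
    have h2 : QuadraticMap.polar Q x y = 0 := by
      have := horth x hx y hy
      rwa [pB_apply] at this
    rw [h1, h2, hQx, hQy]; ring
  | smul c x hx hQx =>
    rw [QuadraticMap.map_smul, hQx, smul_zero]

omit [Fintype F] in
/-- the span of a `Q`-frame is hyperbolic -/
theorem hyp_hSpan (Q : QuadraticForm F V) {e : ℕ} {s : Fin e → V × V} (hs : IsQFrame Q s) :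
    Hyp Q (Tn.hSpan (F := F) s) := by
  refine ⟨Submodule.span F (Set.range fun a => (s a).1), ?_, ts_span_fst Q hs, ?_⟩
  · rw [Submodule.span_le]
    rintro _ ⟨a, rfl⟩
    exact Tn.fst_mem_hSpan s a
  · have hli : LinearIndependent F (fun a => (s a).1) :=
      (Tn.hframe_linearIndependent (pB_symm Q) hs.1).comp Sum.inl Sum.inl_injective
    rw [finrank_span_eq_card hli, Fintype.card_fin, Tn.finrank_hSpan (pB_symm Q) hs.1]

/-- the orthogonal complement of the span of a frame: nondegenerate, of dimension `2 (d - e)`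
and of the type of the whole space -/
theorem orth_hSpan_props (Q : QuadraticForm F V) (hnd : (pB Q).Nondegenerate) (hA1 : QA1Stmt Q)
    {d : ℕ} (hV : finrank F V = 2 * d) {εV : ℤ} (hT : QType Q ⊤ d εV) {e : ℕ} (he : e ≤ d)
    {s : Fin e → V × V} (hs : IsQFrame Q s) :
    Nd (pB Q) ((pB Q).orthogonal (Tn.hSpan (F := F) s)) ∧
      finrank F ↥((pB Q).orthogonal (Tn.hSpan (F := F) s)) = 2 * (d - e) ∧
      QType Q ((pB Q).orthogonal (Tn.hSpan (F := F) s)) (d - e) εV := by
  have hB := pB_symm Q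
  have hSnd : Nd (pB Q) (Tn.hSpan (F := F) s) := Tn.nd_hSpan hB hs.1
  have hSdim : finrank F ↥(Tn.hSpan (F := F) s) = 2 * e := Tn.finrank_hSpan hB hs.1
  have hXnd : Nd (pB Q) ((pB Q).orthogonal (Tn.hSpan (F := F) s)) := by
    have := hSnd.inf_orth hB.isRefl le_top (Ts.nd_top_of_nondeg' hnd)
    rwa [top_inf_eq] at this
  have hXdim : finrank F ↥((pB Q).orthogonal (Tn.hSpan (F := F) s)) = 2 * (d - e) := by
    have := LinearMap.BilinForm.finrank_orthogonal hnd (Tn.hSpan (F := F) s)
    rw [hSdim, hV] at this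
    omega
  refine ⟨hXnd, hXdim, ?_⟩
  obtain ⟨εX, -, hεX⟩ := exists_qType Q hXnd hXdim
  have hS1 : QType Q (Tn.hSpan (F := F) s) e 1 := hA1 _ hSnd e hSdim (hyp_hSpan Q hs)
  have horth : Orth (pB Q) (Tn.hSpan (F := F) s) ((pB Q).orthogonal (Tn.hSpan (F := F) s)) :=
    orth_iff_le.mpr le_rfl
  have hsup := qType_sup Q hSnd hXnd horth hSdim hXdim hS1 hεX
  have htop : Tn.hSpan (F := F) s ⊔ (pB Q).orthogonal (Tn.hSpan (F := F) s) = ⊤ :=
    (hSnd.isCompl hB.isRefl).sup_eq_top
  rw [htop, one_mul, show e + (d - e) = d by omega] at hsup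
  rw [QType.unique hT hsup]
  exact hεX

variable (Q : QuadraticForm F V)

/-- forgetting the first pair of a frame -/
noncomputable def qTailMap (e : ℕ) :
    {s : Fin (e + 1) → V × V // IsQFrame Q s} → {s : Fin e → V × V // IsQFrame Q s} :=
  fun s => ⟨Fin.tail s.1, by
    have h := s.2
    rw [← Fin.cons_self_tail s.1] at h
    exact ((isQFrame_cons Q _ _).mp h).1⟩

/-- the fibre of `qTailMap` -/
noncomputable def qTailFiberEquiv (e : ℕ) (s : {s : Fin e → V × V // IsQFrame Q s}) :
    {s' : {s' : Fin (e + 1) → V × V // IsQFrame Q s'} // qTailMap Q e s' = s} ≃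
      {p : V × V // IsQPair Q p ∧ p.1 ∈ (pB Q).orthogonal (Tn.hSpan (F := F) s.1) ∧
        p.2 ∈ (pB Q).orthogonal (Tn.hSpan (F := F) s.1)} where
  toFun s' := ⟨s'.1.1 0, by
    have h := s'.1.2
    rw [← Fin.cons_self_tail s'.1.1] at h
    have h2 := ((isQFrame_cons Q _ _).mp h).2
    have h3 : Fin.tail s'.1.1 = s.1 := congrArg Subtype.val s'.2
    rwa [h3] at h2⟩
  invFun p := ⟨⟨Fin.cons p.1 s.1, (isQFrame_cons Q _ _).mpr ⟨s.2, p.2⟩⟩, by
    apply Subtype.ext
    show Fin.tail (Fin.cons p.1 s.1 : Fin (e + 1) → V × V) = s.1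
    exact Fin.tail_cons _ _⟩
  left_inv s' := by
    apply Subtype.ext; apply Subtype.ext
    have h3 : Fin.tail s'.1.1 = s.1 := congrArg Subtype.val s'.2
    show Fin.cons (s'.1.1 0) s.1 = s'.1.1
    rw [← h3]
    exact Fin.cons_self_tail _
  right_inv p := by
    apply Subtype.ext
    show (Fin.cons p.1 s.1 : Fin (e + 1) → V × V) 0 = p.1
    exact Fin.cons_zero _ _

/-- **(QE2)** the number of hyperbolic frames, given (QE1) and (QA1). -/
theorem card_qFrame' (hE1 : QE1Stmt Q) (hA1 : QA1Stmt Q) (hnd : (pB Q).Nondegenerate) {d : ℕ}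
    (hV : finrank F V = 2 * d) {εV : ℤ} (hT : QType Q ⊤ d εV) (e : ℕ) (he : e ≤ d) :
    (Nat.card {s : Fin e → V × V // IsQFrame Q s} : ℤ) =
      ∏ k : Fin e, (((Fintype.card F : ℤ) ^ (d - k.val) - εV) *
        ((Fintype.card F : ℤ) ^ (d - k.val - 1) + εV) *
        (Fintype.card F : ℤ) ^ (2 * (d - k.val) - 2)) := by
  classical
  haveI : Finite V := Module.finite_of_finite F
  induction e with
  | zero =>
    rw [Finset.univ_eq_empty, Finset.prod_empty]
    haveI : Unique {s : Fin 0 → V × V // IsQFrame Q s} :=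
      { default := ⟨Fin.elim0, ⟨fun a => a.elim0, fun a => a.elim0⟩, fun a => a.elim0⟩
        uniq := fun s => Subtype.ext (funext fun a => a.elim0) }
    rw [Nat.card_unique]; rfl
  | succ e ih =>
    haveI : Fintype {s : Fin e → V × V // IsQFrame Q s} := Fintype.ofFinite _
    rw [Nat.card_congr (Equiv.sigmaFiberEquiv (qTailMap Q e)).symm, Nat.card_sigma]
    have hfib : ∀ s : {s : Fin e → V × V // IsQFrame Q s},
        (Nat.card {s' : {s' : Fin (e + 1) → V × V // IsQFrame Q s'} // qTailMap Q e s' = s} : ℤ) =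
          ((Fintype.card F : ℤ) ^ (d - e) - εV) * ((Fintype.card F : ℤ) ^ (d - e - 1) + εV) *
            (Fintype.card F : ℤ) ^ (2 * (d - e) - 2) := by
      intro s
      rw [Nat.card_congr (qTailFiberEquiv Q e s)]
      obtain ⟨hXnd, hXdim, hXty⟩ := orth_hSpan_props Q hnd hA1 hV hT (by omega) s.2
      exact hE1 _ hXnd (d - e) (by omega) hXdim εV hXty
    push_cast
    rw [Finset.sum_congr rfl (fun s _ => hfib s), Finset.sum_const, Finset.card_univ,
      ← Nat.card_eq_fintype_card, nsmul_eq_mul, ih (by omega), Fin.prod_univ_castSucc]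
    simp only [Fin.val_castSucc, Fin.val_last]

end Cfsg.Agent.Helper4.QSp
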