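import Mathlib
import Cfsg.Agent.Helper4.QSpQE2
import Cfsg.Agent.Helper44.QTypeAniso

/-!
# Piece (QE3) of helper99's S5974 engine (#5827): a prime `r ∤ q` dividing the number of
hyperbolic `2e`-subspaces of a nondegenerate quadratic space of dimension `2 d` and type `εV`
divides some `(q^(d-k) - εV)(q^(d-k-1) + εV)`, `k < e`.  Characteristic free port of
`Helper94.TnI`.

`exists_dvd_of_dvd_card_hyp'` takes (QE1) `card_qpairs` and (QA1) `hyp_iff_qType` (direction `→`)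
as explicit hypotheses (`QE1Stmt`, `QA1Stmt` of `QSpQE2`).
-/

set_option autoImplicit false
set_option linter.unusedSectionVars false
set_option linter.style.haveILetI false

namespace Cfsg.Agent.Helper4.QSp

open Module Polynomial
open Cfsg.Agent.Helper59.InvChain Cfsg.Agent.Helper59.Elusive
open Cfsg.Agent.Helper99.SpStruct Cfsg.Agent.Helper99.RDecomp
open Cfsg.Agent.Helper44 Cfsg.Agent.Helper44.QType
open Cfsg.Agent.Helper99.QSp
open Cfsg.Agent.Helper94

universe u v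

variable {F : Type u} [Field F] [Fintype F]
variable {V : Type v} [AddCommGroup V] [Module F V] [FiniteDimensional F V]

omit [Fintype F] [FiniteDimensional F V] in
/-- isometries for `qSub` preserve the polar form -/
theorem isom_of_qSub (Q : QuadraticForm F V) {W W' : Submodule F V}
    (g : ↥W ≃ₗ[F] ↥W') (hg : ∀ w, qSub Q W' (g w) = qSub Q W w) (w₁ w₂ : ↥W) :
    pB Q (g w₁ : V) (g w₂ : V) = pB Q (w₁ : V) (w₂ : V) := by
  have h1 := hg (w₁ + w₂)
  have h3 := hg w₁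
  have h4 := hg w₂
  rw [map_add] at h1
  simp only [qSub_apply, Submodule.coe_add] at h1 h3 h4
  rw [pB_apply, pB_apply]
  unfold QuadraticMap.polar
  rw [h1, h3, h4]

/-- `Q`-frames inside a subspace -/
def InQFrames (Q : QuadraticForm F V) (W : Submodule F V) (e : ℕ) : Type v :=
  {s : Fin e → V × V // IsQFrame Q s ∧ ∀ a, (s a).1 ∈ W ∧ (s a).2 ∈ W}

theorem card_inQ_le (Q : QuadraticForm F V) {W W' : Submodule F V}
    (g : ↥W ≃ₗ[F] ↥W') (hg : ∀ w, qSub Q W' (g w) = qSub Q W w) (e : ℕ) :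
    Nat.card (InQFrames Q W e) ≤ Nat.card (InQFrames Q W' e) := by
  classical
  haveI : Finite V := Module.finite_of_finite F
  haveI : Finite (InQFrames Q W' e) := by unfold InQFrames; infer_instance
  have hiso := isom_of_qSub Q g hg
  have hq : ∀ (x : V) (hx : x ∈ W), Q x = 0 → Q (g ⟨x, hx⟩ : V) = 0 := by
    intro x hx h0
    have := hg ⟨x, hx⟩
    rw [qSub_apply, qSub_apply] at this
    rw [this]; exact h0
  let φ : InQFrames Q W e → InQFrames Q W' e := fun s =>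
    ⟨fun a => ((g ⟨(s.1 a).1, (s.2.2 a).1⟩ : V), (g ⟨(s.1 a).2, (s.2.2 a).2⟩ : V)), by
      refine ⟨⟨⟨fun a => ?_, fun a b hab => ?_⟩, fun a => ⟨?_, ?_⟩⟩,
        fun a => ⟨Subtype.coe_prop _, Subtype.coe_prop _⟩⟩
      · obtain ⟨h1, h3, h4⟩ := s.2.1.1.1 a
        refine ⟨?_, ?_, ?_⟩
        · show pB Q (g _ : V) (g _ : V) = 0
          rw [hiso]; exact h1
        · show pB Q (g _ : V) (g _ : V) = 0
          rw [hiso]; exact h3
        · show pB Q (g _ : V) (g _ : V) = 1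
          rw [hiso]; exact h4
      · obtain ⟨h1, h3, h4, h5⟩ := s.2.1.1.2 a b hab
        refine ⟨?_, ?_, ?_, ?_⟩
        · show pB Q (g _ : V) (g _ : V) = 0
          rw [hiso]; exact h1
        · show pB Q (g _ : V) (g _ : V) = 0
          rw [hiso]; exact h3
        · show pB Q (g _ : V) (g _ : V) = 0
          rw [hiso]; exact h4
        · show pB Q (g _ : V) (g _ : V) = 0
          rw [hiso]; exact h5
      · exact hq _ _ (s.2.1.2 a).1
      · exact hq _ _ (s.2.1.2 a).2⟩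
  apply Nat.card_le_card_of_injective φ
  intro s s' hss
  apply Subtype.ext
  funext a
  have h1 := congrFun (congrArg Subtype.val hss) a
  have h3 : (g ⟨(s.1 a).1, (s.2.2 a).1⟩ : V) = (g ⟨(s'.1 a).1, (s'.2.2 a).1⟩ : V) :=
    congrArg Prod.fst h1
  have h4 : (g ⟨(s.1 a).2, (s.2.2 a).2⟩ : V) = (g ⟨(s'.1 a).2, (s'.2.2 a).2⟩ : V) :=
    congrArg Prod.snd h1
  have h5 := congrArg Subtype.val (g.injective (Subtype.ext h3))
  have h6 := congrArg Subtype.val (g.injective (Subtype.ext h4))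
  exact Prod.ext h5 h6

variable (Q : QuadraticForm F V)

/-- the span of a frame, as a hyperbolic subspace -/
noncomputable def qSpanMap (e : ℕ) :
    {s : Fin e → V × V // IsQFrame Q s} →
      {W : Submodule F V // finrank F ↥W = 2 * e ∧ Nd (pB Q) W ∧ Hyp Q W} :=
  fun s => ⟨Tn.hSpan s.1, Tn.finrank_hSpan (pB_symm Q) s.2.1, Tn.nd_hSpan (pB_symm Q) s.2.1,
    hyp_hSpan Q s.2⟩

/-- the fibre of `qSpanMap` -/
noncomputable def qSpanFiberEquiv (e : ℕ)
    (W : {W : Submodule F V // finrank F ↥W = 2 * e ∧ Nd (pB Q) W ∧ Hyp Q W}) :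
    {s : {s : Fin e → V × V // IsQFrame Q s} // qSpanMap Q e s = W} ≃ InQFrames Q W.1 e where
  toFun s := ⟨s.1.1, s.1.2, fun a => by
    have h3 : Tn.hSpan (F := F) s.1.1 = W.1 := congrArg Subtype.val s.2
    rw [← h3]
    exact ⟨Tn.fst_mem_hSpan _ a, Tn.snd_mem_hSpan _ a⟩⟩
  invFun s := ⟨⟨s.1, s.2.1⟩, by
    apply Subtype.ext
    show Tn.hSpan (F := F) s.1 = W.1
    exact Submodule.eq_of_le_of_finrank_eq (Tn.hSpan_le s.1 s.2.2)
      (by rw [Tn.finrank_hSpan (pB_symm Q) s.2.1.1, W.2.1])⟩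
  left_inv s := rfl
  right_inv s := rfl

/-- all fibres of `qSpanMap` have the same size -/
theorem exists_card_qfiber_const (hA1 : QA1Stmt Q) (e : ℕ) :
    ∃ N : ℕ, ∀ W : {W : Submodule F V // finrank F ↥W = 2 * e ∧ Nd (pB Q) W ∧ Hyp Q W},
      Nat.card {s : {s : Fin e → V × V // IsQFrame Q s} // qSpanMap Q e s = W} = N := by
  by_cases hne : Nonempty {W : Submodule F V // finrank F ↥W = 2 * e ∧ Nd (pB Q) W ∧ Hyp Q W}
  · obtain ⟨W₀⟩ := hne
    refine ⟨Nat.card (InQFrames Q W₀.1 e), fun W => ?_⟩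
    rw [Nat.card_congr (qSpanFiberEquiv Q e W)]
    have hty : QType Q W.1 e 1 := hA1 _ W.2.2.1 e W.2.1 W.2.2.2
    have hty₀ : QType Q W₀.1 e 1 := hA1 _ W₀.2.2.1 e W₀.2.1 W₀.2.2.2
    obtain ⟨g, hg⟩ := exists_isometry_of_hasType (qSub Q W.1) (qSub Q W₀.1) W.2.1 W₀.2.1
      (qSub_nd Q W.2.2.1) (qSub_nd Q W₀.2.2.1) hty hty₀
    apply le_antisymm
    · exact card_inQ_le Q g hg e
    · refine card_inQ_le Q g.symm (fun w => ?_) e
      have := hg (g.symm w)
      rw [LinearEquiv.apply_symm_apply] at this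
      exact this.symm
  · refine ⟨0, fun W => ?_⟩
    exact absurd ⟨W⟩ hne

/-- **(QE3)** a prime dividing the number of hyperbolic `2e`-spaces (and not `q`) divides some
`(q^(d-k) - εV)(q^(d-k-1) + εV)`, `k < e`; given (QE1) and (QA1). -/
theorem exists_dvd_of_dvd_card_hyp' (hE1 : QE1Stmt Q) (hA1 : QA1Stmt Q)
    (hnd : (pB Q).Nondegenerate) {d : ℕ}
    (hV : finrank F V = 2 * d) {εV : ℤ} (hT : QType Q ⊤ d εV) (e : ℕ)
    (he : e ≤ d) (r : ℕ) (hr : r.Prime) (hrq : ¬ r ∣ Fintype.card F)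
    (hdvd : r ∣ Nat.card {W : Submodule F V // finrank F ↥W = 2 * e ∧ Nd (pB Q) W ∧ Hyp Q W}) :
    ∃ k : ℕ, k < e ∧ (r : ℤ) ∣ ((Fintype.card F : ℤ) ^ (d - k) - εV) *
      ((Fintype.card F : ℤ) ^ (d - k - 1) + εV) := by
  classical
  haveI : Finite V := Module.finite_of_finite F
  haveI : Fintype {W : Submodule F V // finrank F ↥W = 2 * e ∧ Nd (pB Q) W ∧ Hyp Q W} :=
    Fintype.ofFinite _
  obtain ⟨N, hN⟩ := exists_card_qfiber_const Q hA1 e
  have h1 := card_qFrame' Q hE1 hA1 hnd hV hT e he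
  rw [Nat.card_congr (Equiv.sigmaFiberEquiv (qSpanMap Q e)).symm, Nat.card_sigma,
    Finset.sum_congr rfl (fun W _ => hN W), Finset.sum_const, Finset.card_univ,
    ← Nat.card_eq_fintype_card, smul_eq_mul] at h1
  have hrZ : Prime (r : ℤ) := Nat.prime_iff_prime_int.mp hr
  have h3 : (r : ℤ) ∣ ∏ k : Fin e, (((Fintype.card F : ℤ) ^ (d - k.val) - εV) *
      ((Fintype.card F : ℤ) ^ (d - k.val - 1) + εV) *
      (Fintype.card F : ℤ) ^ (2 * (d - k.val) - 2)) := by
    rw [← h1]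
    push_cast
    exact Dvd.dvd.mul_right (Int.natCast_dvd_natCast.mpr hdvd) _
  obtain ⟨k, -, hk⟩ := (hrZ.dvd_finsetProd_iff _).mp h3
  rcases hrZ.dvd_or_dvd hk with h | h
  · exact ⟨k.val, k.2, h⟩
  · exfalso
    have := hrZ.dvd_of_dvd_pow h
    exact hrq (Int.natCast_dvd_natCast.mp this)

end Cfsg.Agent.Helper4.QSp
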