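import Mathlib
import Cfsg.Agent.Helper4.Dihedral

set_option autoImplicit false

/-!
# Two involutions generating a 2-group lie in a common conjugate of a Sylow 2-subgroup
-/

namespace Cfsg.Agent.Helper4

open scoped Pointwise

variable {G : Type*} [Group G]

/-- If `x * x = 1`, `y * y = 1` and `(x * y) ^ (2 ^ a) = 1` then `⟨x, y⟩` is a 2-group. -/
theorem isPGroup_closure_pair {x y : G} (hx : x * x = 1) (hy : y * y = 1) (a : ℕ)
    (hc : (x * y) ^ (2 ^ a) = 1) : IsPGroup 2 (Subgroup.closure ({x, y} : Set G)) := by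
  rintro ⟨d, hd⟩
  obtain ⟨k, rfl | rfl⟩ := mem_closure_pair hx hy d hd
  · refine ⟨a, ?_⟩
    apply Subtype.ext
    simp only [Subgroup.coe_pow, Subgroup.coe_one]
    rw [← zpow_natCast, ← zpow_mul, mul_comm, zpow_mul, zpow_natCast, hc, one_zpow]
  · refine ⟨1, ?_⟩
    apply Subtype.ext
    simp only [Subgroup.coe_one, pow_one, pow_two]
    calc x * (x * y) ^ k * (x * (x * y) ^ k) = x * ((x * y) ^ k * x) * (x * y) ^ k := by group
      _ = x * (x * (x * y) ^ (-k)) * (x * y) ^ k := by rw [invol_mul_zpow hx hy]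
      _ = (x * x) * ((x * y) ^ (-k) * (x * y) ^ k) := by group
      _ = 1 := by rw [hx, one_mul, ← zpow_add]; simp

/-- Any `p`-subgroup is conjugate into a given Sylow `p`-subgroup. -/
theorem exists_conj_mem_sylow [Finite G] {p : ℕ} [Fact p.Prime] (P : Sylow p G) (Q : Subgroup G)
    (hQ : IsPGroup p Q) : ∃ h : G, ∀ q ∈ Q, h * q * h⁻¹ ∈ P := by
  obtain ⟨P', hP'⟩ := hQ.exists_le_sylow
  obtain ⟨g, hg⟩ := MulAction.exists_smul_eq G P' P
  refine ⟨g, fun q hq => ?_⟩
  have h1 : q ∈ P' := hP' hq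
  rw [← hg]
  show g * q * g⁻¹ ∈ MulAut.conj g • (P' : Subgroup G)
  rw [Subgroup.mem_pointwise_smul_iff_inv_smul_mem]
  simp only [MulAut.smul_def, MulAut.inv_apply, MulAut.conj_symm_apply]
  have : g⁻¹ * (g * q * g⁻¹) * g = q := by group
  rw [this]
  exact h1

/-- Two elements of square one whose product has 2-power order lie in a common conjugate
of any Sylow 2-subgroup. -/
theorem exists_conj_pair_mem_sylow [Finite G] (P : Sylow 2 G) {x y : G} (hx : x * x = 1)
    (hy : y * y = 1) (a : ℕ) (hc : (x * y) ^ (2 ^ a) = 1) :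
    ∃ h : G, h * x * h⁻¹ ∈ P ∧ h * y * h⁻¹ ∈ P := by
  have : Fact (Nat.Prime 2) := ⟨Nat.prime_two⟩
  obtain ⟨h, hh⟩ := exists_conj_mem_sylow P _ (isPGroup_closure_pair hx hy a hc)
  exact ⟨h, hh x (Subgroup.subset_closure (by simp)), hh y (Subgroup.subset_closure (by simp))⟩

/-- An element of a Sylow 2-subgroup of odd order is trivial. -/
theorem eq_one_of_mem_sylow_of_odd [Finite G] (P : Sylow 2 G) {w : G} (hw : w ∈ P)
    (hodd : Odd (orderOf w)) : w = 1 := by
  have : Fact (Nat.Prime 2) := ⟨Nat.prime_two⟩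
  obtain ⟨k, hk⟩ := (IsPGroup.iff_orderOf.mp P.isPGroup') ⟨w, hw⟩
  rw [Subgroup.orderOf_mk] at hk
  rw [hk] at hodd
  rcases Nat.eq_zero_or_pos k with h0 | h0
  · rw [h0, pow_zero] at hk
    exact orderOf_eq_one_iff.mp hk
  · exfalso
    have : Even (2 ^ k) := (Nat.even_pow' (by omega)).mpr even_two
    exact (Nat.not_even_iff_odd.mpr hodd) this

end Cfsg.Agent.Helper4
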