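import Mathlib
import Cfsg.Agent.Helper4.SylowTwo

set_option autoImplicit false

/-!
# Groups whose Sylow 2-subgroups are Klein four-groups: classes of involutions
-/

namespace Cfsg.Agent.Helper4

open scoped Pointwise

variable {G : Type*} [Group G] [Finite G]

/-- The type of conjugacy classes of involutions. -/
abbrev InvClasses (G : Type*) [Group G] : Type _ :=
  {C : ConjClasses G // ∃ t : G, orderOf t = 2 ∧ ConjClasses.mk t = C}

section
variable (P : Sylow 2 G) (hP : IsKleinFour (P : Subgroup G))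

include hP in
theorem klein_sq (a : G) (ha : a ∈ P) : a * a = 1 := by
  have := IsKleinFour.mul_self (⟨a, ha⟩ : (P : Subgroup G))
  exact congrArg Subtype.val this

include hP in
theorem klein_orderOf (a : G) (ha : a ∈ P) (ha1 : a ≠ 1) : orderOf a = 2 :=
  orderOf_two_of_sq_one (klein_sq P hP a ha) ha1

include hP in
theorem klein_comm (a b : G) (ha : a ∈ P) (hb : b ∈ P) : a * b = b * a := by
  have := (IsKleinFour.isMulCommutative (G := (P : Subgroup G))).is_comm.comm ⟨a, ha⟩ ⟨b, hb⟩
  exact congrArg Subtype.val this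

include hP in
/-- A non-identity element of `P` different from the distinct non-identity `a`, `b` is `a * b`. -/
theorem klein_third (a b c : G) (ha : a ∈ P) (hb : b ∈ P) (hc : c ∈ P) (ha1 : a ≠ 1) (hb1 : b ≠ 1)
    (hab : a ≠ b) (hc1 : c ≠ 1) (hca : c ≠ a) (hcb : c ≠ b) : c = a * b := by
  have := IsKleinFour.eq_mul_of_ne_all (G := (P : Subgroup G)) (x := ⟨a, ha⟩) (y := ⟨b, hb⟩)
    (z := ⟨c, hc⟩) (fun h => ha1 (congrArg Subtype.val h)) (fun h => hb1 (congrArg Subtype.val h))
    (fun h => hab (congrArg Subtype.val h)) (fun h => hc1 (congrArg Subtype.val h))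
    (fun h => hca (congrArg Subtype.val h)) (fun h => hcb (congrArg Subtype.val h))
  exact congrArg Subtype.val this

/-- The map from non-identity elements of `P` to classes of involutions. -/
noncomputable def kleinClassMap : {t : (P : Subgroup G) // t ≠ 1} → InvClasses G :=
  fun t => ⟨ConjClasses.mk (t.1 : G), (t.1 : G),
    klein_orderOf P hP _ t.1.2 (fun h => t.2 (Subtype.ext h)), rfl⟩

theorem kleinClassMap_eq_iff (s t : {t : (P : Subgroup G) // t ≠ 1}) :
    kleinClassMap P hP s = kleinClassMap P hP t ↔ IsConj (s.1 : G) (t.1 : G) := by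
  unfold kleinClassMap
  rw [Subtype.mk.injEq, ConjClasses.mk_eq_mk_iff_isConj]

theorem kleinClassMap_surjective : Function.Surjective (kleinClassMap P hP) := by
  have : Fact (Nat.Prime 2) := ⟨Nat.prime_two⟩
  rintro ⟨C, t, ht, rfl⟩
  have ht2 := sq_one_of_orderOf_two ht
  have ht1 := ne_one_of_orderOf_two ht
  obtain ⟨h, h1, -⟩ := exists_conj_pair_mem_sylow P ht2 ht2 0 (by rw [ht2]; simp)
  have hne : (⟨h * t * h⁻¹, h1⟩ : (P : Subgroup G)) ≠ 1 := by
    intro hh
    have h2 : h * t * h⁻¹ = 1 := congrArg Subtype.val hh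
    apply ht1
    have : t = h⁻¹ * (h * t * h⁻¹) * h := by group
    rw [this, h2]; group
  refine ⟨⟨⟨h * t * h⁻¹, h1⟩, hne⟩, ?_⟩
  unfold kleinClassMap
  rw [Subtype.mk.injEq, ConjClasses.mk_eq_mk_iff_isConj]
  exact (isConj_iff.mpr ⟨h, rfl⟩).symm

include hP in
theorem klein_card_ne_one : Nat.card {t : (P : Subgroup G) // t ≠ 1} = 3 := by
  have h4 : Nat.card (P : Subgroup G) = 4 := hP.card_four
  have h1 : (1 : (P : Subgroup G)) ∈ (Set.univ : Set (P : Subgroup G)) := Set.mem_univ _
  have h3 := Set.ncard_sdiff_singleton_add_one h1 (Set.toFinite _)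
  rw [Set.ncard_univ, h4] at h3
  have h5 : Nat.card {t : (P : Subgroup G) // t ≠ 1} =
      ((Set.univ : Set (P : Subgroup G)) \ {1}).ncard := by
    rw [← Nat.card_coe_set_eq]
    apply Nat.card_congr
    refine Equiv.subtypeEquivRight ?_
    intro x
    simp
  omega

/-- A 2-element of the normalizer of a Sylow 2-subgroup lies in it. -/
theorem mem_sylow_of_mem_normalizer_of_pow (n : G) (hn : n ∈ Subgroup.normalizer ((P : Subgroup G) : Set G))
    (k : ℕ) (hk : n ^ (2 ^ k) = 1) : n ∈ P := by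
  have : Fact (Nat.Prime 2) := ⟨Nat.prime_two⟩
  have h1 : IsPGroup 2 (Subgroup.zpowers n) := by
    have hdvd : orderOf n ∣ 2 ^ k := orderOf_dvd_of_pow_eq_one hk
    obtain ⟨j, -, hj⟩ := (Nat.dvd_prime_pow Nat.prime_two).mp hdvd
    apply IsPGroup.of_card (n := j)
    rw [Nat.card_zpowers, hj]
  have h2 : Subgroup.zpowers n ≤ Subgroup.normalizer ((P : Subgroup G) : Set G) := by
    rw [Subgroup.zpowers_le]; exact hn
  have h3 : IsPGroup 2 (Subgroup.zpowers n ⊔ (P : Subgroup G) : Subgroup G) :=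
    IsPGroup.to_sup_of_normal_right' h1 P.isPGroup' h2
  have h4 := P.is_maximal' h3 le_sup_right
  have h5 : n ∈ Subgroup.zpowers n ⊔ (P : Subgroup G) :=
    Subgroup.mem_sup_left (Subgroup.mem_zpowers n)
  rw [h4] at h5
  exact h5

include hP in
/-- Key fusion lemma: if two distinct involutions `a`, `b` of the Klein four Sylow subgroup `P`
are conjugate in `G`, then `a` is also conjugate to `a * b`. -/
theorem klein_fusion (a b : G) (ha : a ∈ P) (hb : b ∈ P) (ha1 : a ≠ 1) (hb1 : b ≠ 1) (hab : a ≠ b)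
    (hconj : IsConj a b) : IsConj a (a * b) := by
  have : Fact (Nat.Prime 2) := ⟨Nat.prime_two⟩
  have hcomm : IsMulCommutative (P : Subgroup G) := IsKleinFour.isMulCommutative
  obtain ⟨g, hg⟩ := isConj_iff.mp hconj
  -- b = g a g⁻¹ = (g⁻¹)⁻¹ a g⁻¹
  have hb' : (g⁻¹)⁻¹ * a * g⁻¹ ∈ P := by rw [inv_inv, hg]; exact hb
  obtain ⟨n, hn, hne⟩ := P.conj_eq_normalizer_conj_of_mem a g⁻¹ ha hb'
  rw [inv_inv, hg] at hne
  -- hne : b = n⁻¹ * a * n
  set c := a * b with hc
  have hcP : c ∈ P := Subgroup.mul_mem _ ha hb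
  have ha2 := klein_sq P hP a ha
  have hb2 := klein_sq P hP b hb
  have hc1 : c ≠ 1 := by
    intro h
    apply hab
    have := eq_inv_of_mul_eq_one_left h
    rw [inv_eq_self_of_sq_one hb2] at this
    exact this
  have hca : c ≠ a := by
    intro h
    apply hb1
    have : a * b = a * 1 := by rw [mul_one]; exact h
    exact mul_left_cancel this
  have hcb : c ≠ b := by
    intro h
    apply ha1
    have : a * b = 1 * b := by rw [one_mul]; exact h
    exact mul_right_cancel this
  -- n⁻¹ c n ∈ P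
  have hnmem : ∀ w : G, w ∈ P → n⁻¹ * w * n ∈ P := by
    intro w hw
    have h1 := (Subgroup.mem_normalizer_iff'.mp hn (n⁻¹ * w)).mpr
    have : n * (n⁻¹ * w) = w := by group
    rw [this] at h1
    exact h1 hw
  have hconj_ne : ∀ w w' : G, w ≠ w' → n⁻¹ * w * n ≠ n⁻¹ * w' * n := by
    intro w w' h h'
    exact h (mul_left_cancel (mul_right_cancel h'))
  set c' := n⁻¹ * c * n with hc'
  have hc'P : c' ∈ P := hnmem c hcP
  have hc'1 : c' ≠ 1 := by
    have := hconj_ne c 1 hc1
    simpa using this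
  have hc'b : c' ≠ b := by
    rw [hne]
    exact hconj_ne c a hca
  by_cases hc'a : c' = a
  · -- c ~ a
    exact (isConj_iff.mpr ⟨n⁻¹, by rw [inv_inv]; exact hc'a⟩ : IsConj c a).symm
  · exfalso
    -- c' = a * b = c
    have hc'c : c' = c := klein_third P hP a b c' ha hb hc'P ha1 hb1 hab hc'1 hc'a hc'b
    -- then n⁻¹ b n = a
    have hba : n⁻¹ * b * n = a := by
      have h1 : n⁻¹ * c * n = (n⁻¹ * a * n) * (n⁻¹ * b * n) := by rw [hc]; group
      rw [← hc', hc'c, ← hne, hc] at h1
      -- a * b = b * (n⁻¹ b n)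
      have h2 : b * a = b * (n⁻¹ * b * n) := by rw [← h1, klein_comm P hP a b ha hb]
      exact (mul_left_cancel h2).symm
    -- even powers of n fix a, odd powers send a to b
    have hev : ∀ j : ℕ, (n ^ (2 * j))⁻¹ * a * n ^ (2 * j) = a := by
      intro j
      induction j with
      | zero => simp
      | succ j ih =>
        have : n ^ (2 * (j + 1)) = n ^ (2 * j) * n * n := by
          rw [show 2 * (j + 1) = 2 * j + 1 + 1 by ring, pow_succ, pow_succ]
        rw [this]
        calc (n ^ (2 * j) * n * n)⁻¹ * a * (n ^ (2 * j) * n * n)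
            = n⁻¹ * (n⁻¹ * ((n ^ (2 * j))⁻¹ * a * n ^ (2 * j)) * n) * n := by group
          _ = n⁻¹ * (n⁻¹ * a * n) * n := by rw [ih]
          _ = a := by rw [← hne, hba]
    have hod : ∀ j : ℕ, (n ^ (2 * j + 1))⁻¹ * a * n ^ (2 * j + 1) = b := by
      intro j
      calc (n ^ (2 * j + 1))⁻¹ * a * n ^ (2 * j + 1)
          = n⁻¹ * ((n ^ (2 * j))⁻¹ * a * n ^ (2 * j)) * n := by rw [pow_succ]; group
        _ = b := by rw [hev, ← hne]
    -- odd part of the order of n
    obtain ⟨k, m, hm, hkm⟩ := Nat.exists_eq_two_pow_mul_odd (orderOf_pos n).ne'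
    obtain ⟨j, hj⟩ := hm
    have hnm : (n ^ m) ^ (2 ^ k) = 1 := by
      rw [← pow_mul, mul_comm, ← hkm, pow_orderOf_eq_one]
    have hnmN : n ^ m ∈ Subgroup.normalizer ((P : Subgroup G) : Set G) := Subgroup.pow_mem _ hn m
    have hnmP : n ^ m ∈ P := mem_sylow_of_mem_normalizer_of_pow P (n ^ m) hnmN k hnm
    have h1 := hod j
    rw [← hj] at h1
    have h2 : (n ^ m)⁻¹ * a * n ^ m = a := by
      have := klein_comm P hP a (n ^ m) ha hnmP
      rw [mul_assoc, this]; group
    exact hab (h2.symm.trans h1)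

end

end Cfsg.Agent.Helper4
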