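import Cfsg.Agent.Helper85.TransportQuasi2

set_option autoImplicit false

namespace Cfsg.Agent.Helper4.OliverOR3

open Cfsg Cfsg.FusionSystem Cfsg.Agent.Helper85

section general

variable {Ω : Type*} [Group Ω] {Ω' : Type*} [Group Ω']

/-- The isomorphism `P ≃* P'` obtained by restricting `g`. -/
noncomputable def resEquiv {g : Ω → Ω'} {P : Subgroup Ω} {P' : Subgroup Ω'} (hg : HomOn g P)
    (him : IsIm g P P') : P ≃* P' :=
  MulEquiv.ofBijective (hg.toHom.codRestrict P' (fun x => him.map_mem x.2))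
    ⟨fun a b hab => hg.toHom_injective (congrArg Subtype.val hab),
      fun y => by
        obtain ⟨x, hx, hxy⟩ := (him y).mp y.2
        exact ⟨⟨x, hx⟩, Subtype.ext hxy⟩⟩

theorem resEquiv_apply {g : Ω → Ω'} {P : Subgroup Ω} {P' : Subgroup Ω'} (hg : HomOn g P)
    (him : IsIm g P P') (x : P) : ((resEquiv hg him x : P') : Ω') = g x := rfl

theorem resEquiv_symm_apply {g : Ω → Ω'} {P : Subgroup Ω} {P' : Subgroup Ω'} (hg : HomOn g P)
    (him : IsIm g P P') (x : P) (h : g x ∈ P') : (resEquiv hg him).symm ⟨g x, h⟩ = x := by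
  rw [MulEquiv.symm_apply_eq]
  exact Subtype.ext (resEquiv_apply hg him x).symm

theorem congr_apply_coe {g : Ω → Ω'} {P : Subgroup Ω} {P' : Subgroup Ω'} (hg : HomOn g P)
    (him : IsIm g P P') (α : MulAut P) (x : P) (h : g x ∈ P') :
    ((MulAut.congr (resEquiv hg him) α ⟨g x, h⟩ : P') : Ω') = g (α x) := by
  show ((resEquiv hg him (α ((resEquiv hg him).symm ⟨g x, h⟩)) : P') : Ω') = g (α x)
  rw [resEquiv_symm_apply, resEquiv_apply]

variable {g : Ω → Ω'} {S : Subgroup Ω} {F : FusionSystem S} {S' : Subgroup Ω'}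
  {F' : FusionSystem S'}

theorem mem_hom_iff_congr (hF : IsImgF g F F') {P : Subgroup Ω} {P' : Subgroup Ω'} (hP : P ≤ S)
    (him : IsIm g P P') (α : MulAut P) :
    P'.subtype.comp (MulAut.congr (resEquiv (hF.hom.mono hP) him) α).toMonoidHom ∈ F'.Hom P' ↔
      P.subtype.comp α.toMonoidHom ∈ F.Hom P := by
  have hind2 : Ind g (P.subtype.comp α.toMonoidHom)
      (P'.subtype.comp (MulAut.congr (resEquiv (hF.hom.mono hP) him) α).toMonoidHom) := by
    intro x h
    exact congr_apply_coe (hF.hom.mono hP) him α x h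
  constructor
  · intro hφ'
    obtain ⟨φ, hφ, hind⟩ := hF.pull hφ' hP him
    have hφα : φ = P.subtype.comp α.toMonoidHom := by
      ext x
      have hx : g x ∈ P' := him.map_mem x.2
      have e1 := hind x hx
      have e2 := hind2 x hx
      exact hF.hom.inj _ ((F.le_of_mem hφ).2 x) _ (hP (α x).2) (e1.symm.trans e2)
    rw [← hφα]
    exact hφ
  · intro hφ
    obtain ⟨φ', hφ', hind⟩ := hF.push hφ him
    have := ind_unique him hind hind2
    rw [← this]
    exact hφ'

theorem map_autGroup (hF : IsImgF g F F') {P : Subgroup Ω} {P' : Subgroup Ω'} (hP : P ≤ S)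
    (him : IsIm g P P') :
    (F.autGroup P).map (MulAut.congr (resEquiv (hF.hom.mono hP) him)).toMonoidHom =
      F'.autGroup P' := by
  unfold autGroup
  rw [MonoidHom.map_closure]
  congr 1
  ext α'
  constructor
  · rintro ⟨α, hα, rfl⟩
    exact (mem_hom_iff_congr hF hP him α).2 hα
  · intro hα'
    refine ⟨(MulAut.congr (resEquiv (hF.hom.mono hP) him)).symm α', ?_, ?_⟩
    · show P.subtype.comp _ ∈ F.Hom P
      rw [← mem_hom_iff_congr hF hP him]
      rw [MulEquiv.apply_symm_apply]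
      exact hα'
    · exact MulEquiv.apply_symm_apply _ α'

/-- Every element of `Aut_{F'}(P')` is the transport of an element of `Aut_F(P)` of the same order. -/
theorem exists_of_mem_autGroup (hF : IsImgF g F F') {P : Subgroup Ω} {P' : Subgroup Ω'} (hP : P ≤ S)
    (him : IsIm g P P') {α' : MulAut P'} (hα' : α' ∈ F'.autGroup P') :
    ∃ α ∈ F.autGroup P, MulAut.congr (resEquiv (hF.hom.mono hP) him) α = α' ∧
      orderOf α = orderOf α' := by
  rw [← map_autGroup hF hP him] at hα'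
  obtain ⟨α, hα, rfl⟩ := hα'
  refine ⟨α, hα, rfl, ?_⟩
  exact (orderOf_injective (MulAut.congr (resEquiv (hF.hom.mono hP) him)).toMonoidHom
    (MulAut.congr (resEquiv (hF.hom.mono hP) him)).injective α).symm

end general

section main

variable {Ω : Type*} [Group Ω]

theorem hasPrimeToPIndexIn_img {S S' : Subgroup Ω} [Finite S] {p : ℕ} [Fact p.Prime] {g : Ω → Ω}
    {F E : FusionSystem S} {F' E' : FusionSystem S'} (hF : Cfsg.Agent.Helper85.IsImgF g F F')
    (hE : Cfsg.Agent.Helper85.IsImgF g E E') (h : E.HasPrimeToPIndexIn F p) :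
    E'.HasPrimeToPIndexIn F' p := by
  refine ⟨isSubsystemOf_img hF hE h.1, fun P' hP' => ?_⟩
  have hP : preS hF.hom P' ≤ S := preS_le hF.hom P'
  have him : IsIm g (preS hF.hom P') P' := isIm_preS hF.hom hF.im hP'
  rw [Subgroup.map_le_iff_le_comap, Subgroup.closure_le]
  rintro ⟨α', hα'⟩ ⟨k, hk⟩
  show α' ∈ E'.autGroup P'
  obtain ⟨α, hα, rfl, hord⟩ := exists_of_mem_autGroup hF hP him hα'
  have hmem : α ∈ (Subgroup.closure {β : F.autGroup (preS hF.hom P') | ∃ k : ℕ, orderOf β = p ^ k}).map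
      (F.autGroup (preS hF.hom P')).subtype := by
    refine ⟨⟨α, hα⟩, Subgroup.subset_closure ⟨k, ?_⟩, rfl⟩
    rw [Subgroup.orderOf_mk, hord, ← hk, Subgroup.orderOf_mk]
  have hαE : α ∈ E.autGroup (preS hF.hom P') := h.2 _ hP hmem
  rw [← map_autGroup hE hP him]
  exact ⟨α, hαE, rfl⟩

theorem hasPPowerIndexIn_img {S S' T T' : Subgroup Ω} [Finite S] {p : ℕ} [Fact p.Prime]
    (hS : IsPGroup p S) {g : Ω → Ω} {F : FusionSystem S} {E : FusionSystem T}
    {F' : FusionSystem S'} {E' : FusionSystem T'} (hFsat : F.IsSaturated p)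
    (hF : Cfsg.Agent.Helper85.IsImgF g F F') (hE : Cfsg.Agent.Helper85.IsImgF g E E')
    (h : E.HasPPowerIndexIn F p) : E'.HasPPowerIndexIn F' p := by
  obtain ⟨hsub, hhyp, hres⟩ := h
  have hTS : T ≤ S := by
    have h1 : conjHom T 1 ∈ E.Hom T := E.conj_mem le_rfl T.one_mem
    exact (F.le_of_mem (hsub T h1)).1
  refine ⟨isSubsystemOf_img hF hE hsub, ?_, fun P' hP' => ?_⟩
  · rw [Cfsg.Agent.Helper87.hyperfocalSubgroup_factor hS F hFsat
      (Cfsg.Agent.Helper87.stronglyClosed_bot F) hF.hom.toHom F' (isFactorSystem_of_isImgF hF)]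
    rintro y ⟨x, hx, rfl⟩
    rw [SetLike.mem_coe, Subgroup.mem_subgroupOf] at hx
    exact hE.im.map_mem (hhyp hx)
  · have hPT : preS hE.hom P' ≤ T := preS_le hE.hom P'
    have hP : preS hE.hom P' ≤ S := hPT.trans hTS
    have him : IsIm g (preS hE.hom P') P' := isIm_preS hE.hom hE.im hP'
    rw [Subgroup.map_le_iff_le_comap]
    show Subgroup.closure {β : F'.autGroup P' | Nat.Coprime (orderOf β) p} ≤ _
    rw [Subgroup.closure_le]
    rintro ⟨α', hα'⟩ hco
    show α' ∈ E'.autGroup P'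
    obtain ⟨α, hα, rfl, hord⟩ := exists_of_mem_autGroup hF hP him hα'
    have hmem : α ∈ (pResidual p (F.autGroup (preS hE.hom P'))).map
        (F.autGroup (preS hE.hom P')).subtype := by
      refine ⟨⟨α, hα⟩, Subgroup.subset_closure ?_, rfl⟩
      show Nat.Coprime (orderOf (⟨α, hα⟩ : F.autGroup (preS hE.hom P'))) p
      rw [Subgroup.orderOf_mk, hord]
      have hco' : Nat.Coprime (orderOf (⟨_, hα'⟩ : F'.autGroup P')) p := hco
      rw [Subgroup.orderOf_mk] at hco'
      exact hco'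
    have hαE : α ∈ E.autGroup (preS hE.hom P') := hres _ hPT hmem
    rw [← map_autGroup hE hPT him]
    exact ⟨α, hαE, rfl⟩

end main

end Cfsg.Agent.Helper4.OliverOR3
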