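import Mathlib
import Cfsg.Prelude.Def_Characters
import Cfsg.Agent.Helper79.CharComplete
import Cfsg.Agent.Helper80.Induced

/-!
# Generalized characters: integer coefficients (helper4)

* `classInner_sum_irr`: inner product of two linear combinations of irreducible characters.
* `exists_int_coeff`: a generalized character is an integer combination of irreducible characters.
* `exists_two_of_sum_sq_eq_two`: an integer family with sum of squares `2`.
* `exists_irr_sub_of_norm_two`: a generalized character of norm `2` vanishing at `1` is a difference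
  of two distinct irreducible characters.
-/

set_option autoImplicit false

namespace Cfsg.Agent.Helper4

open Cfsg
open scoped ComplexConjugate

section
variable {G : Type*} [Group G] [Fintype G]

theorem classInner_sub_left (φ₁ φ₂ ψ : G → ℂ) :
    classInner (φ₁ - φ₂) ψ = classInner φ₁ ψ - classInner φ₂ ψ := by
  simp only [classInner, Pi.sub_apply, sub_mul, Finset.sum_sub_distrib, mul_sub]

theorem classInner_sub_right (φ ψ₁ ψ₂ : G → ℂ) :
    classInner φ (ψ₁ - ψ₂) = classInner φ ψ₁ - classInner φ ψ₂ := by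
  simp only [classInner, Pi.sub_apply, map_sub, mul_sub, Finset.sum_sub_distrib]

variable [Fintype (IrrCharacter G)]

/-- Inner product of two linear combinations of irreducible characters. -/
theorem classInner_sum_irr (c d : IrrCharacter G → ℂ) :
    classInner (∑ φ : IrrCharacter G, c φ • (φ : G → ℂ))
      (∑ φ : IrrCharacter G, d φ • (φ : G → ℂ)) = ∑ φ : IrrCharacter G, c φ * conj (d φ) := by
  classical
  rw [Helper79.classInner_sum_left]
  refine Finset.sum_congr rfl fun φ _ => ?_
  rw [Helper79.classInner_smul_left, Helper79.classInner_sum_right]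
  simp_rw [Helper79.classInner_smul_right, Helper79.classInner_irr]
  simp

/-- A generalized character is an integer combination of the irreducible characters. -/
theorem exists_int_coeff {θ : G → ℂ} (hθ : IsGeneralizedCharacter G θ) :
    ∃ a : IrrCharacter G → ℤ, θ = ∑ φ : IrrCharacter G, (a φ : ℂ) • (φ : G → ℂ) := by
  obtain ⟨χ, ψ, hχ, hψ, rfl⟩ := hθ
  refine ⟨fun φ => (Helper80.mult χ hχ φ : ℤ) - (Helper80.mult ψ hψ φ : ℤ), ?_⟩
  conv_lhs => rw [Helper80.eq_sum_mult χ hχ, Helper80.eq_sum_mult ψ hψ]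
  rw [← Finset.sum_sub_distrib]
  refine Finset.sum_congr rfl fun φ _ => ?_
  push_cast
  rw [sub_smul]

end

/-- An integer family whose squares sum to `2` has exactly two entries `±1` and zeros elsewhere. -/
theorem exists_two_of_sum_sq_eq_two {ι : Type*} [Fintype ι] [DecidableEq ι] (a : ι → ℤ)
    (h : ∑ i, a i ^ 2 = 2) :
    ∃ α β : ι, α ≠ β ∧ (a α = 1 ∨ a α = -1) ∧ (a β = 1 ∨ a β = -1) ∧
      ∀ γ, γ ≠ α → γ ≠ β → a γ = 0 := by
  have hnn : ∀ (s : Finset ι), 0 ≤ ∑ i ∈ s, a i ^ 2 := fun s =>
    Finset.sum_nonneg fun i _ => sq_nonneg (a i)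
  -- some nonzero entry
  have h1 : ∃ α, a α ≠ 0 := by
    by_contra hcon
    push Not at hcon
    rw [Finset.sum_eq_zero (fun i _ => by rw [hcon i]; ring)] at h
    norm_num at h
  obtain ⟨α, hα⟩ := h1
  rw [← Finset.add_sum_erase Finset.univ _ (Finset.mem_univ α)] at h
  have hr := hnn (Finset.univ.erase α)
  have hα2 : a α ^ 2 = 1 := by
    have hpos : 1 ≤ a α ^ 2 := by
      have : 0 < a α ^ 2 := by positivity
      omega
    have hle : a α ^ 2 ≤ 2 := by omega
    have hlt : |a α| < 2 := by
      by_contra hge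
      push Not at hge
      have : 2 ^ 2 ≤ |a α| ^ 2 := pow_le_pow_left₀ (by norm_num) hge 2
      rw [sq_abs] at this
      omega
    have habs : |a α| = 1 := by
      have : 0 < |a α| := abs_pos.mpr hα
      omega
    rw [← sq_abs, habs]; norm_num
  have hrest : ∑ i ∈ Finset.univ.erase α, a i ^ 2 = 1 := by omega
  have h2 : ∃ β ∈ Finset.univ.erase α, a β ≠ 0 := by
    by_contra hcon
    push Not at hcon
    rw [Finset.sum_eq_zero (fun i hi => by rw [hcon i hi]; ring)] at hrest
    norm_num at hrest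
  obtain ⟨β, hβmem, hβ⟩ := h2
  rw [← Finset.add_sum_erase _ _ hβmem] at hrest
  have hr2 := hnn ((Finset.univ.erase α).erase β)
  have hβ2 : a β ^ 2 = 1 := by
    have : 0 < a β ^ 2 := by positivity
    omega
  have hrest2 : ∑ i ∈ (Finset.univ.erase α).erase β, a i ^ 2 = 0 := by omega
  have hsq : ∀ x : ℤ, x ^ 2 = 1 → x = 1 ∨ x = -1 := by
    intro x hx
    have : (x - 1) * (x + 1) = 0 := by ring_nf; omega
    rcases mul_eq_zero.mp this with h | h
    · left; omega
    · right; omega
  refine ⟨α, β, (Finset.ne_of_mem_erase hβmem).symm, hsq _ hα2, hsq _ hβ2, ?_⟩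
  intro γ hγα hγβ
  have hmem : γ ∈ (Finset.univ.erase α).erase β :=
    Finset.mem_erase.mpr ⟨hγβ, Finset.mem_erase.mpr ⟨hγα, Finset.mem_univ γ⟩⟩
  have := (Finset.sum_eq_zero_iff_of_nonneg (fun i _ => sq_nonneg (a i))).mp hrest2 γ hmem
  exact pow_eq_zero_iff (two_ne_zero) |>.mp this

section
variable {G : Type*} [Group G] [Fintype G]

/-- A generalized character of norm `2` vanishing at the identity is the difference of two distinct
irreducible characters. -/
theorem exists_irr_sub_of_norm_two {θ : G → ℂ} (hθ : IsGeneralizedCharacter G θ)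
    (hnorm : classInner θ θ = 2) (hone : θ 1 = 0) :
    ∃ α β : IrrCharacter G, α ≠ β ∧ θ = (α : G → ℂ) - (β : G → ℂ) := by
  classical
  have hfin : Finite (IrrCharacter G) := Helper79.irr_finite
  have := Fintype.ofFinite (IrrCharacter G)
  obtain ⟨a, ha⟩ := exists_int_coeff hθ
  have hsum : ∑ φ : IrrCharacter G, a φ ^ 2 = 2 := by
    have h1 := classInner_sum_irr (G := G) (fun φ => (a φ : ℂ)) (fun φ => (a φ : ℂ))
    rw [← ha, hnorm] at h1
    have h2 : (2 : ℂ) = ((∑ φ : IrrCharacter G, a φ ^ 2 : ℤ) : ℂ) := by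
      rw [h1]
      push_cast
      refine Finset.sum_congr rfl fun φ _ => ?_
      rw [map_intCast, sq]
    exact_mod_cast h2.symm
  obtain ⟨α, β, hne, hα, hβ, hrest⟩ := exists_two_of_sum_sq_eq_two a hsum
  have hθ2 : θ = (a α : ℂ) • (α : G → ℂ) + (a β : ℂ) • (β : G → ℂ) := by
    conv_lhs => rw [ha]
    rw [← Finset.add_sum_erase Finset.univ _ (Finset.mem_univ α),
      ← Finset.add_sum_erase _ _ (Finset.mem_erase.mpr ⟨hne.symm, Finset.mem_univ β⟩)]
    rw [Finset.sum_eq_zero, add_zero]
    intro γ hγ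
    rw [Finset.mem_erase, Finset.mem_erase] at hγ
    rw [hrest γ hγ.2.1 hγ.1]
    simp
  have hdeg : (a α : ℂ) * (charDegree (α : G → ℂ) : ℂ) + (a β : ℂ) * (charDegree (β : G → ℂ) : ℂ) = 0 := by
    have := congrFun hθ2 1
    rw [hone] at this
    simp only [Pi.add_apply, Pi.smul_apply, smul_eq_mul] at this
    rw [Helper79.irr_one, Helper79.irr_one] at this
    exact this.symm
  have hdegZ : a α * (charDegree (α : G → ℂ) : ℤ) + a β * (charDegree (β : G → ℂ) : ℤ) = 0 := by
    exact_mod_cast hdeg
  have hpα : 0 < (charDegree (α : G → ℂ) : ℤ) := by exact_mod_cast Helper79.irr_charDegree_pos α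
  have hpβ : 0 < (charDegree (β : G → ℂ) : ℤ) := by exact_mod_cast Helper79.irr_charDegree_pos β
  rcases hα with hα | hα <;> rcases hβ with hβ | hβ
  · exfalso; rw [hα, hβ] at hdegZ; omega
  · refine ⟨α, β, hne, ?_⟩
    rw [hθ2, hα, hβ]; ext g; simp; ring
  · refine ⟨β, α, hne.symm, ?_⟩
    rw [hθ2, hα, hβ]; ext g; simp; ring
  · exfalso; rw [hα, hβ] at hdegZ; omega

end

end Cfsg.Agent.Helper4
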