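import Mathlib
import Cfsg.Agent.S0215
import Cfsg.Agent.S0111

set_option autoImplicit false

namespace Cfsg.Agent.Helper4.Fusion16

variable {G : Type*} [Group G]

/-- A finset of elements of a finite subgroup has at most as many elements as the subgroup. -/
theorem card_le_of_finset [Finite G] {H : Subgroup G} (s : Finset G) (hs : ∀ x ∈ s, x ∈ H) :
    s.card ≤ Nat.card H := by
  classical
  have h1 : Nat.card H = (H : Set G).ncard := rfl
  rw [h1, ← Set.ncard_coe_finset s]
  exact Set.ncard_le_ncard (fun x hx => hs x hx) (Set.toFinite _)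

/-- If a finset of elements of `H` has as many elements as `H`, it exhausts `H`. -/
theorem mem_of_card_eq [Finite G] {H : Subgroup G} (s : Finset G) (hs : ∀ x ∈ s, x ∈ H)
    (hcard : Nat.card H = s.card) {x : G} (hx : x ∈ H) : x ∈ s := by
  classical
  by_contra hxs
  have h := card_le_of_finset (H := H) (insert x s) (by
    intro y hy
    rcases Finset.mem_insert.1 hy with rfl | hy
    · exact hx
    · exact hs y hy)
  rw [Finset.card_insert_of_notMem hxs] at h
  omega

theorem relIndex_eq_two_of_card [Finite G] {H K : Subgroup G} (hHK : H ≤ K)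
    (h : Nat.card K = 2 * Nat.card H) : H.relIndex K = 2 := by
  have h1 := Subgroup.card_mul_index (H.subgroupOf K)
  have h2 : Nat.card (H.subgroupOf K) = Nat.card H :=
    Nat.card_congr (Subgroup.subgroupOfEquivOfLe hHK).toEquiv
  have hpos : 0 < Nat.card H := Nat.card_pos
  rw [h2, h] at h1
  have : (H.subgroupOf K).index = 2 := by
    have h3 : Nat.card H * (H.subgroupOf K).index = Nat.card H * 2 := by rw [h1]; ring
    exact Nat.eq_of_mul_eq_mul_left hpos h3
  exact this

theorem mul_mem_iff_of_relIndex_two {H K : Subgroup G} (h : H.relIndex K = 2) {a b : G}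
    (ha : a ∈ K) (hb : b ∈ K) : a * b ∈ H ↔ (a ∈ H ↔ b ∈ H) := by
  have h1 := Subgroup.mul_mem_iff_of_index_two (H := H.subgroupOf K) h
    (a := ⟨a, ha⟩) (b := ⟨b, hb⟩)
  simpa [Subgroup.mem_subgroupOf] using h1

theorem conj_mem_of_relIndex_two {H K : Subgroup G} (h : H.relIndex K = 2) (hHK : H ≤ K)
    {k x : G} (hk : k ∈ K) (hx : x ∈ H) : k * x * k⁻¹ ∈ H := by
  have h1 := mul_mem_iff_of_relIndex_two h hk (hHK hx)
  have h2 := mul_mem_iff_of_relIndex_two h (K.mul_mem hk (hHK hx)) (K.inv_mem hk)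
  rw [h2, h1, inv_mem_iff]
  simp [hx]

/-- In an index-two subgroup situation, two elements outside `H` differ by an element of `H`. -/
theorem inv_mul_mem_of_relIndex_two {H K : Subgroup G} (h : H.relIndex K = 2)
    {a b : G} (ha : a ∈ K) (hb : b ∈ K) (haH : a ∉ H) (hbH : b ∉ H) : a⁻¹ * b ∈ H := by
  have h1 := mul_mem_iff_of_relIndex_two h (K.inv_mem ha) hb
  rw [h1, inv_mem_iff]
  simp [haH, hbH]

theorem sq_mem_of_relIndex_two {H K : Subgroup G} (h : H.relIndex K = 2)
    {a : G} (ha : a ∈ K) : a * a ∈ H := by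
  have h1 := mul_mem_iff_of_relIndex_two h ha ha
  rw [h1]

theorem no_simple_of_Z2xZ4_centralizer {G : Type*} [Group G] [Finite G] [IsSimpleGroup G]
    (S : Sylow 2 G) (hS : Nat.card (S : Subgroup G) = 16)
    (c : G) (hc : orderOf c = 2) (hcS : c ∈ (S : Subgroup G))
    (hC16 : ¬ 16 ∣ Nat.card (Subgroup.centralizer ({c} : Set G)))
    (hT : Nat.card ((S : Subgroup G) ⊓ Subgroup.centralizer ({c} : Set G) : Subgroup G) = 8)
    (y : G) (hy : orderOf y = 4) (hyS : y ∈ (S : Subgroup G)) (hyc : y * c = c * y) : False := by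
  classical
  -- basic facts about `c`, `y`
  have hcc : c * c = 1 := by
    have h := pow_orderOf_eq_one c
    rw [hc, pow_two] at h
    exact h
  have hc1 : c ≠ 1 := by
    rintro rfl
    rw [orderOf_one] at hc
    omega
  have hcinv : c⁻¹ = c := inv_eq_of_mul_eq_one_right hcc
  have hyy : y * y ≠ 1 := by
    intro h
    have h2 : orderOf y ∣ 2 := orderOf_dvd_of_pow_eq_one (by rw [pow_two]; exact h)
    rw [hy] at h2
    omega
  have hy4 : (y * y) * (y * y) = 1 := by
    have h := pow_orderOf_eq_one y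
    rw [hy, show (4 : ℕ) = 2 + 2 from rfl, pow_add, pow_two] at h
    exact h
  obtain ⟨T, hTdef⟩ : ∃ T : Subgroup G,
      T = (S : Subgroup G) ⊓ Subgroup.centralizer ({c} : Set G) := ⟨_, rfl⟩
  rw [← hTdef] at hT
  have memT : ∀ x, x ∈ T ↔ x ∈ (S : Subgroup G) ∧ x * c = c * x := by
    intro x
    rw [hTdef, Subgroup.mem_inf, Subgroup.mem_centralizer_singleton_iff]
  have hTS : T ≤ (S : Subgroup G) := by
    rw [hTdef]
    exact inf_le_left
  have hcT : c ∈ T := (memT c).2 ⟨hcS, rfl⟩
  have hyT : y ∈ T := (memT y).2 ⟨hyS, hyc⟩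
  have hidx : T.relIndex (S : Subgroup G) = 2 :=
    relIndex_eq_two_of_card hTS (by rw [hS, hT])
  obtain ⟨σ, hσS, hσT⟩ : ∃ σ, σ ∈ (S : Subgroup G) ∧ σ ∉ T := by
    by_contra h
    push Not at h
    have hle : (S : Subgroup G) ≤ T := fun x hx => h x hx
    have h2 := Subgroup.card_le_of_le hle
    omega
  have hσc : σ * c ≠ c * σ := fun h => hσT ((memT σ).2 ⟨hσS, h⟩)
  obtain ⟨c1, hc1def⟩ : ∃ c1, c1 = σ * c * σ⁻¹ := ⟨_, rfl⟩
  have hc1T : c1 ∈ T := by
    rw [hc1def]
    exact conj_mem_of_relIndex_two hidx hTS hσS hcT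
  have hσc' : σ * c = c1 * σ := by
    rw [hc1def]
    group
  have hc1c : c1 ≠ c := by
    intro h
    apply hσc
    rw [hσc', h]
  have hc1c1 : c1 * c1 = 1 := by
    rw [hc1def]
    calc σ * c * σ⁻¹ * (σ * c * σ⁻¹) = σ * (c * c) * σ⁻¹ := by group
      _ = 1 := by rw [hcc]; group
  have hc1ne : c1 ≠ 1 := by
    intro h
    rw [h] at hσc'
    apply hc1
    have h2 : σ * c = σ * 1 := by rw [hσc']; group
    exact mul_left_cancel h2
  have hcomm_c1 : ∀ t ∈ T, t * c1 = c1 * t := by
    intro t ht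
    have h1 : σ⁻¹ * t * σ⁻¹⁻¹ ∈ T :=
      conj_mem_of_relIndex_two hidx hTS (Subgroup.inv_mem _ hσS) ht
    have h2 := ((memT _).1 h1).2
    rw [hc1def]
    calc t * (σ * c * σ⁻¹) = σ * ((σ⁻¹ * t * σ⁻¹⁻¹) * c) * σ⁻¹ := by group
      _ = σ * (c * (σ⁻¹ * t * σ⁻¹⁻¹)) * σ⁻¹ := by rw [h2]
      _ = σ * c * σ⁻¹ * t := by group
  -- the group `W` of central involutions of `T`
  obtain ⟨W, memW⟩ : ∃ W : Subgroup G,
      ∀ x, x ∈ W ↔ (x ∈ T ∧ x * x = 1 ∧ ∀ t ∈ T, t * x = x * t) :=
    ⟨{ carrier := {x | x ∈ T ∧ x * x = 1 ∧ ∀ t ∈ T, t * x = x * t}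
       one_mem' := ⟨T.one_mem, by simp, by intro t _; simp⟩
       mul_mem' := by
         rintro a b ⟨haT, haa, hac⟩ ⟨hbT, hbb, hbc⟩
         refine ⟨T.mul_mem haT hbT, ?_, ?_⟩
         · calc a * b * (a * b) = a * (b * a) * b := by group
             _ = a * (a * b) * b := by rw [hac b hbT]
             _ = (a * a) * (b * b) := by group
             _ = 1 := by rw [haa, hbb, one_mul]
         · intro t ht
           calc t * (a * b) = (t * a) * b := by group
             _ = a * (t * b) := by rw [hac t ht]; group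
             _ = a * b * t := by rw [hbc t ht]; group
       inv_mem' := by
         rintro a ⟨haT, haa, hac⟩
         have hinv : a⁻¹ = a := inv_eq_of_mul_eq_one_right haa
         rw [hinv]
         exact ⟨haT, haa, hac⟩ }, fun x => Iff.rfl⟩
  have hWT : W ≤ T := fun x hx => ((memW x).1 hx).1
  have hcW : c ∈ W := (memW c).2 ⟨hcT, hcc, fun t ht => ((memT t).1 ht).2⟩
  have hc1W : c1 ∈ W := (memW c1).2 ⟨hc1T, hc1c1, hcomm_c1⟩
  obtain ⟨z, hzdef⟩ : ∃ z, z = c * c1 := ⟨_, rfl⟩
  have hzW : z ∈ W := by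
    rw [hzdef]
    exact W.mul_mem hcW hc1W
  have hz1 : z ≠ 1 := by
    intro h
    rw [hzdef] at h
    apply hc1c
    have h2 : c * c1 = c * c := by rw [h, hcc]
    exact mul_left_cancel h2
  have hzc : z ≠ c := by
    intro h
    rw [hzdef] at h
    apply hc1ne
    have h2 : c * c1 = c * 1 := by rw [h, mul_one]
    exact mul_left_cancel h2
  have hzc1 : z ≠ c1 := by
    intro h
    rw [hzdef] at h
    apply hc1
    have h2 : c * c1 = 1 * c1 := by rw [h, one_mul]
    exact mul_right_cancel h2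
  have hyW : y ∉ W := fun h => hyy ((memW y).1 h).2.1
  have hcard4 : ({1, c, c1, z} : Finset G).card = 4 := by
    rw [Finset.card_insert_of_notMem, Finset.card_insert_of_notMem,
      Finset.card_insert_of_notMem, Finset.card_singleton]
    all_goals
      simp only [Finset.mem_insert, Finset.mem_singleton, not_or]
    · exact hzc1.symm
    · exact ⟨hc1c.symm, hzc.symm⟩
    · exact ⟨hc1.symm, hc1ne.symm, hz1.symm⟩
  have hfour : ∀ a ∈ ({1, c, c1, z} : Finset G), a ∈ W := by
    intro a ha
    simp only [Finset.mem_insert, Finset.mem_singleton] at ha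
    rcases ha with rfl | rfl | rfl | rfl
    exacts [W.one_mem, hcW, hc1W, hzW]
  have h4le : 4 ≤ Nat.card W := by
    rw [← hcard4]
    exact card_le_of_finset _ hfour
  have hWdvd : Nat.card W ∣ 8 := by
    rw [← hT]
    exact Subgroup.card_dvd_of_le hWT
  have hWne8 : Nat.card W ≠ 8 := by
    intro h
    have h2 : W = T := Subgroup.eq_of_le_of_card_ge hWT (by rw [h, hT])
    exact hyW (h2 ▸ hyT)
  have hW4 : Nat.card W = 4 := by
    have hle : Nat.card W ≤ 8 := Nat.le_of_dvd (by norm_num) hWdvd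
    interval_cases h : Nat.card W <;> omega
  have hWmem : ∀ x ∈ W, x = 1 ∨ x = c ∨ x = c1 ∨ x = z := by
    intro x hx
    have h := mem_of_card_eq (H := W) {1, c, c1, z} hfour (by rw [hW4, hcard4]) hx
    simpa only [Finset.mem_insert, Finset.mem_singleton] using h
  have hWidx : W.relIndex T = 2 := relIndex_eq_two_of_card hWT (by rw [hT, hW4])
  have hTW : ∀ t ∈ T, t ∉ W → ∃ e ∈ W, t = y * e := by
    intro t ht htW
    exact ⟨y⁻¹ * t, inv_mul_mem_of_relIndex_two hWidx hyT ht hyW htW, by group⟩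
  have hinvT : ∀ t ∈ T, t * t = 1 → t ∈ W := by
    intro t ht htt
    by_contra htW
    obtain ⟨e, he, rfl⟩ := hTW t ht htW
    obtain ⟨heT, hee, hecomm⟩ := (memW e).1 he
    apply hyy
    calc y * y = y * y * (e * e) := by rw [hee, mul_one]
      _ = y * (y * e) * e := by group
      _ = y * (e * y) * e := by rw [hecomm y hyT]
      _ = (y * e) * (y * e) := by group
      _ = 1 := htt
  have hinv4 : ∀ t ∈ T, t * t = 1 → t = 1 ∨ t = c ∨ t = c1 ∨ t = z :=
    fun t ht htt => hWmem t (hinvT t ht htt)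
  -- `z` is central in `S`
  have hzT : z ∈ T := hWT hzW
  have hzz : z * z = 1 := ((memW z).1 hzW).2.1
  have hzcommT : ∀ t ∈ T, t * z = z * t := ((memW z).1 hzW).2.2
  have hc1c_comm : c1 * c = c * c1 := ((memT c1).1 hc1T).2
  have hσσ : σ * σ ∈ T := sq_mem_of_relIndex_two hidx hσS
  have hσc1 : σ * c1 = c * σ := by
    have h := ((memT _).1 hσσ).2
    rw [hc1def]
    calc σ * (σ * c * σ⁻¹) = (σ * σ * c) * σ⁻¹ := by group
      _ = c * (σ * σ) * σ⁻¹ := by rw [h]
      _ = c * σ := by group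
  have hσz : σ * z = z * σ := by
    rw [hzdef]
    calc σ * (c * c1) = (σ * c) * c1 := by group
      _ = c1 * (σ * c1) := by rw [hσc']; group
      _ = c1 * c * σ := by rw [hσc1]; group
      _ = c * c1 * σ := by rw [hc1c_comm]
  have hzS : ∀ s ∈ (S : Subgroup G), s * z = z * s := by
    intro s hs
    by_cases hsT : s ∈ T
    · exact hzcommT s hsT
    · have hτ : σ⁻¹ * s ∈ T := inv_mul_mem_of_relIndex_two hidx hσS hs hσT hsT
      have h := hzcommT _ hτ
      calc s * z = σ * (σ⁻¹ * s * z) := by group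
        _ = σ * (z * (σ⁻¹ * s)) := by rw [h]
        _ = (σ * z) * (σ⁻¹ * s) := by group
        _ = z * σ * (σ⁻¹ * s) := by rw [hσz]
        _ = z * s := by group
  -- `c` is not conjugate to `z`
  have hA : ∀ g : G, g * c * g⁻¹ ≠ z := by
    intro g hg
    apply hC16
    have hle : (S : Subgroup G).map (MulAut.conj g⁻¹).toMonoidHom ≤
        Subgroup.centralizer ({c} : Set G) := by
      intro a ha
      obtain ⟨s, hs, rfl⟩ := Subgroup.mem_map.1 ha
      rw [Subgroup.mem_centralizer_singleton_iff]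
      have h := hzS s hs
      rw [← hg] at h
      show (MulAut.conj g⁻¹) s * c = c * (MulAut.conj g⁻¹) s
      rw [MulAut.conj_apply, inv_inv]
      calc g⁻¹ * s * g * c = g⁻¹ * (s * (g * c * g⁻¹)) * g := by group
        _ = g⁻¹ * (g * c * g⁻¹ * s) * g := by rw [h]
        _ = c * (g⁻¹ * s * g) := by group
    have hcard : Nat.card ((S : Subgroup G).map (MulAut.conj g⁻¹).toMonoidHom) = 16 := by
      rw [Subgroup.card_map_of_injective (MulAut.conj g⁻¹).injective, hS]
    rw [← hcard]
    exact Subgroup.card_dvd_of_le hle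
  have hA' : ∀ g h : G, g * c * g⁻¹ ≠ h * z * h⁻¹ := by
    intro g h hgh
    apply hA (h⁻¹ * g)
    calc h⁻¹ * g * c * (h⁻¹ * g)⁻¹ = h⁻¹ * (g * c * g⁻¹) * h := by group
      _ = h⁻¹ * (h * z * h⁻¹) * h := by rw [hgh]
      _ = z := by group
  -- Glauberman's Z*-theorem yields a conjugate `z'` of `z` in `S` different from `z`
  have hz2 : orderOf z = 2 := orderOf_eq_prime (by rw [pow_two]; exact hzz) hz1
  have h16G : 16 ∣ Nat.card G := by
    rw [← hS]
    exact Subgroup.card_subgroup_dvd_card _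
  have hzSmem : z ∈ (S : Subgroup G) := hTS hzT
  obtain ⟨g0, hg0S, hg0z⟩ :
      ∃ g0 : G, g0 * z * g0⁻¹ ∈ (S : Subgroup G) ∧ g0 * z * g0⁻¹ ≠ z := by
    by_contra hno
    push Not at hno
    obtain ⟨N, hN, hodd, hcomm⟩ := Cfsg.Agent.S0215.result S z hz2 hzSmem hno
    rcases hN.eq_bot_or_eq_top with h | h
    · have hzcen : z ∈ Subgroup.center G := by
        rw [Subgroup.mem_center_iff]
        intro g
        have h2 := hcomm g
        rw [h, Subgroup.mem_bot] at h2
        calc g * z = (z * g * z⁻¹ * g⁻¹)⁻¹ * (z * g) := by group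
          _ = z * g := by rw [h2]; group
      rcases (inferInstance : (Subgroup.center G).Normal).eq_bot_or_eq_top with h3 | h3
      · rw [h3, Subgroup.mem_bot] at hzcen
        exact hz1 hzcen
      · have hσcen : σ ∈ Subgroup.center G := by rw [h3]; exact Subgroup.mem_top _
        rw [Subgroup.mem_center_iff] at hσcen
        exact hσc (hσcen c).symm
    · rw [h, Subgroup.card_top] at hodd
      obtain ⟨k, hk⟩ := h16G
      rw [Nat.odd_iff] at hodd
      omega
  obtain ⟨z', hz'def⟩ : ∃ z', z' = g0 * z * g0⁻¹ := ⟨_, rfl⟩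
  rw [← hz'def] at hg0S hg0z
  have hz'z' : z' * z' = 1 := by
    rw [hz'def]
    calc g0 * z * g0⁻¹ * (g0 * z * g0⁻¹) = g0 * (z * z) * g0⁻¹ := by group
      _ = 1 := by rw [hzz]; group
  have hz'1 : z' ≠ 1 := by
    intro h
    apply hz1
    rw [hz'def] at h
    calc z = g0⁻¹ * (g0 * z * g0⁻¹) * g0 := by group
      _ = 1 := by rw [h]; group
  have hz'T : z' ∉ T := by
    intro h
    rcases hinv4 z' h hz'z' with h1 | h1 | h1 | h1
    · exact hz'1 h1
    · apply hA' 1 g0
      rw [← hz'def, h1]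
      group
    · apply hA' σ g0
      rw [← hz'def, ← hc1def, h1]
    · exact hg0z h1
  have hz'c : z' * c ≠ c * z' := fun h => hz'T ((memT z').2 ⟨hg0S, h⟩)
  have hz'inv : z'⁻¹ = z' := inv_eq_of_mul_eq_one_right hz'z'
  have hconj_c : z' * c = c1 * z' := by
    have hmem : z' * c * z'⁻¹ ∈ T := conj_mem_of_relIndex_two hidx hTS hg0S hcT
    have hsq : (z' * c * z'⁻¹) * (z' * c * z'⁻¹) = 1 := by
      calc (z' * c * z'⁻¹) * (z' * c * z'⁻¹) = z' * (c * c) * z'⁻¹ := by group
        _ = 1 := by rw [hcc]; group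
    rcases hinv4 _ hmem hsq with h1 | h1 | h1 | h1
    · exfalso
      apply hc1
      calc c = z'⁻¹ * (z' * c * z'⁻¹) * z' := by group
        _ = 1 := by rw [h1]; group
    · exfalso
      apply hz'c
      calc z' * c = (z' * c * z'⁻¹) * z' := by group
        _ = c * z' := by rw [h1]
    · calc z' * c = (z' * c * z'⁻¹) * z' := by group
        _ = c1 * z' := by rw [h1]
    · exfalso
      exact hA z' h1
  have hconj_c1 : z' * c1 = c * z' := by
    calc z' * c1 = z' * (c1 * z') * z'⁻¹ := by group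
      _ = z' * (z' * c) * z'⁻¹ := by rw [hconj_c]
      _ = (z' * z') * c * z'⁻¹ := by group
      _ = c * z' := by rw [hz'z', hz'inv, one_mul]
  -- `y * y = z`
  obtain ⟨v, hvdef⟩ : ∃ v, v = y * y := ⟨_, rfl⟩
  have hvT : v ∈ T := by
    rw [hvdef]
    exact T.mul_mem hyT hyT
  have hvv : v * v = 1 := by
    rw [hvdef]
    exact hy4
  have hv1 : v ≠ 1 := by
    rw [hvdef]
    exact hyy
  have hy'T : z' * y * z'⁻¹ ∈ T := conj_mem_of_relIndex_two hidx hTS hg0S hyT
  have hy'W : z' * y * z'⁻¹ ∉ W := by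
    intro h
    have h2 := ((memW _).1 h).2.1
    apply hyy
    calc y * y = z'⁻¹ * ((z' * y * z'⁻¹) * (z' * y * z'⁻¹)) * z' := by group
      _ = 1 := by rw [h2]; group
  obtain ⟨e, heW, hye⟩ := hTW _ hy'T hy'W
  obtain ⟨heT, hee, hecomm⟩ := (memW e).1 heW
  have hyeye : (y * e) * (y * e) = v := by
    rw [hvdef]
    calc (y * e) * (y * e) = y * (e * y) * e := by group
      _ = y * (y * e) * e := by rw [← hecomm y hyT]
      _ = y * y * (e * e) := by group
      _ = y * y := by rw [hee, mul_one]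
  have hz'v : z' * v = v * z' := by
    have h : z' * v * z'⁻¹ = v := by
      calc z' * v * z'⁻¹ = (z' * y * z'⁻¹) * (z' * y * z'⁻¹) := by rw [hvdef]; group
        _ = (y * e) * (y * e) := by rw [hye]
        _ = v := hyeye
    calc z' * v = (z' * v * z'⁻¹) * z' := by group
      _ = v * z' := by rw [h]
  have hvz : v = z := by
    rcases hinv4 v hvT hvv with h1 | h1 | h1 | h1
    · exact absurd h1 hv1
    · exfalso
      rw [h1] at hz'v
      exact hz'c hz'v
    · exfalso
      rw [h1] at hz'v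
      apply hc1c
      have h2 : c * z' = c1 * z' := by rw [← hconj_c1, hz'v]
      exact (mul_right_cancel h2).symm
    · exact h1
  have hyyz : y * y = z := by rw [← hvdef, hvz]
  -- an element `w` of order four commuting with `z'`
  obtain ⟨w, hwT, hww, hwz'⟩ : ∃ w, w ∈ T ∧ w * w = z ∧ z' * w = w * z' := by
    rcases hWmem e heW with h1 | h1 | h1 | h1
    · refine ⟨y, hyT, hyyz, ?_⟩
      rw [h1, mul_one] at hye
      calc z' * y = (z' * y * z'⁻¹) * z' := by group
        _ = y * z' := by rw [hye]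
    · exfalso
      rw [h1] at hye
      have h2 : y = y * c * c1 := by
        calc y = (z' * z') * y * (z' * z')⁻¹ := by rw [hz'z']; group
          _ = z' * (z' * y * z'⁻¹) * z'⁻¹ := by group
          _ = z' * (y * c) * z'⁻¹ := by rw [hye]
          _ = (z' * y * z'⁻¹) * (z' * c) * z'⁻¹ := by group
          _ = (y * c) * (c1 * z') * z'⁻¹ := by rw [hye, hconj_c]
          _ = y * c * c1 := by group
      apply hz1
      rw [hzdef]
      have h3 : y * 1 = y * (c * c1) := by
        rw [mul_one, ← mul_assoc]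
        exact h2
      exact (mul_left_cancel h3).symm
    · exfalso
      rw [h1] at hye
      have h2 : y = y * c1 * c := by
        calc y = (z' * z') * y * (z' * z')⁻¹ := by rw [hz'z']; group
          _ = z' * (z' * y * z'⁻¹) * z'⁻¹ := by group
          _ = z' * (y * c1) * z'⁻¹ := by rw [hye]
          _ = (z' * y * z'⁻¹) * (z' * c1) * z'⁻¹ := by group
          _ = (y * c1) * (c * z') * z'⁻¹ := by rw [hye, hconj_c1]
          _ = y * c1 * c := by group
      apply hz1
      rw [hzdef, ← hc1c_comm]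
      have h3 : y * 1 = y * (c1 * c) := by
        rw [mul_one, ← mul_assoc]
        exact h2
      exact (mul_left_cancel h3).symm
    · rw [h1] at hye
      refine ⟨y * c, T.mul_mem hyT hcT, ?_, ?_⟩
      · calc y * c * (y * c) = y * (c * y) * c := by group
          _ = y * (y * c) * c := by rw [hyc]
          _ = (y * y) * (c * c) := by group
          _ = z := by rw [hcc, mul_one, hyyz]
      · calc z' * (y * c) = (z' * y * z'⁻¹) * (z' * c) := by group
          _ = (y * z) * (c1 * z') := by rw [hye, hconj_c]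
          _ = y * (c * c1 * c1) * z' := by rw [hzdef]; group
          _ = y * c * z' := by rw [mul_assoc c c1 c1, hc1c1, mul_one]
  -- the subgroup `Q = C_S(z')`
  obtain ⟨Q, hQdef⟩ : ∃ Q : Subgroup G,
      Q = (S : Subgroup G) ⊓ Subgroup.centralizer ({z'} : Set G) := ⟨_, rfl⟩
  have memQ : ∀ x, x ∈ Q ↔ x ∈ (S : Subgroup G) ∧ x * z' = z' * x := by
    intro x
    rw [hQdef, Subgroup.mem_inf, Subgroup.mem_centralizer_singleton_iff]
  have hQS : Q ≤ (S : Subgroup G) := by
    rw [hQdef]
    exact inf_le_left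
  have hcQ : c ∉ Q := fun h => hz'c ((memQ c).1 h).2.symm
  have hwQ : w ∈ Q := (memQ w).2 ⟨hTS hwT, hwz'.symm⟩
  have hz'Q : z' ∈ Q := (memQ z').2 ⟨hg0S, rfl⟩
  have how : orderOf w = 4 := by
    have h1 : ¬ w ^ 2 ^ 1 = 1 := by
      rw [pow_one, pow_two, hww]
      exact hz1
    have h2 : w ^ 2 ^ (1 + 1) = 1 := by
      show w ^ (2 + 2) = 1
      rw [pow_add, pow_two, hww, hzz]
    exact orderOf_eq_prime_pow (p := 2) (n := 1) h1 h2
  have hZle : Subgroup.zpowers w ≤ Q := Subgroup.zpowers_le.2 hwQ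
  have hZcard : Nat.card (Subgroup.zpowers w) = 4 := by rw [Nat.card_zpowers, how]
  have hz'Z : z' ∉ Subgroup.zpowers w := fun h => hz'T ((Subgroup.zpowers_le.2 hwT) h)
  have hQdvd : Nat.card Q ∣ 16 := by
    rw [← hS]
    exact Subgroup.card_dvd_of_le hQS
  have h4Q : 4 ∣ Nat.card Q := by
    rw [← hZcard]
    exact Subgroup.card_dvd_of_le hZle
  have hQ16 : Nat.card Q ≠ 16 := by
    intro h
    have h2 : Q = (S : Subgroup G) := Subgroup.eq_of_le_of_card_ge hQS (by rw [h, hS])
    exact hcQ (h2 ▸ hcS)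
  have hQ4 : Nat.card Q ≠ 4 := by
    intro h
    have h2 : Subgroup.zpowers w = Q := Subgroup.eq_of_le_of_card_ge hZle (by rw [h, hZcard])
    exact hz'Z (h2 ▸ hz'Q)
  have hQ8 : Nat.card Q = 8 := by
    have hle : Nat.card Q ≤ 16 := Nat.le_of_dvd (by norm_num) hQdvd
    have hpos : 0 < Nat.card Q := Nat.card_pos
    interval_cases h : Nat.card Q <;> omega
  have hQidx : Q.relIndex (S : Subgroup G) = 2 :=
    relIndex_eq_two_of_card hQS (by rw [hS, hQ8])
  -- the involutions of `Q`
  have hQinv : ∀ x ∈ Q, x * x = 1 → x = 1 ∨ x = z ∨ x = z' ∨ x = z' * z := by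
    intro x hxQ hxx
    obtain ⟨hxS, hxz'⟩ := (memQ x).1 hxQ
    have key : ∀ t ∈ T, t * t = 1 → t * z' = z' * t → t = 1 ∨ t = z := by
      intro t ht htt htz'
      rcases hinv4 t ht htt with h1 | h1 | h1 | h1
      · exact Or.inl h1
      · exfalso
        rw [h1] at htz'
        exact hz'c htz'.symm
      · exfalso
        rw [h1] at htz'
        apply hc1c
        have h2 : c1 * z' = c * z' := by rw [htz', hconj_c1]
        exact mul_right_cancel h2
      · exact Or.inr h1
    by_cases hxT : x ∈ T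
    · rcases key x hxT hxx hxz' with h1 | h1
      · exact Or.inl h1
      · exact Or.inr (Or.inl h1)
    · have huT : z'⁻¹ * x ∈ T := inv_mul_mem_of_relIndex_two hidx hg0S hxS hz'T hxT
      rw [hz'inv] at huT
      have huu : (z' * x) * (z' * x) = 1 := by
        calc (z' * x) * (z' * x) = z' * (x * z') * x := by group
          _ = z' * (z' * x) * x := by rw [hxz']
          _ = (z' * z') * (x * x) := by group
          _ = 1 := by rw [hz'z', hxx, one_mul]
      have hucomm : (z' * x) * z' = z' * (z' * x) := by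
        rw [mul_assoc, hxz']
      rcases key _ huT huu hucomm with h1 | h1
      · right; right; left
        calc x = z'⁻¹ * (z' * x) := by group
          _ = z' := by rw [h1, mul_one, hz'inv]
      · right; right; right
        calc x = z'⁻¹ * (z' * x) := by group
          _ = z' * z := by rw [h1, hz'inv]
  -- Thompson transfer
  rcases Cfsg.Agent.S0111.result S Q hQS hQidx c hc hcS hcQ with ⟨M, hM, hMidx, -⟩ | ⟨g, hg⟩
  · rcases hM.eq_bot_or_eq_top with h | h
    · rw [h, Subgroup.index_bot] at hMidx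
      rw [hMidx] at h16G
      omega
    · rw [h, Subgroup.index_top] at hMidx
      omega
  · have hsq : (g * c * g⁻¹) * (g * c * g⁻¹) = 1 := by
      calc (g * c * g⁻¹) * (g * c * g⁻¹) = g * (c * c) * g⁻¹ := by group
        _ = 1 := by rw [hcc]; group
    rcases hQinv _ hg hsq with h1 | h1 | h1 | h1
    · apply hc1
      calc c = g⁻¹ * (g * c * g⁻¹) * g := by group
        _ = 1 := by rw [h1]; group
    · exact hA g h1
    · apply hA' g g0
      rw [h1, hz'def]
    · apply hA' g (c * g0)
      rw [h1]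
      have h2 : z' * z = c * z' * c⁻¹ := by
        rw [hcinv]
        calc z' * z = z' * c1 * c := by rw [hzdef, ← hc1c_comm]; group
          _ = c * z' * c := by rw [hconj_c1]
      rw [h2, hz'def]
      group

end Cfsg.Agent.Helper4.Fusion16
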