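-- helper4: pieces (P1a) `cent16` and (P1c) `card_T_eq` of board post 4968 for helper17 (S3313):
-- counting inside the extraspecial-like group `Q` of order 32 of the Hall-Janko configuration.
import Mathlib
import Cfsg.Agent.Helper17.J2Defs

set_option autoImplicit false

namespace Cfsg.Agent.Helper4.J2P1

open Cfsg.Agent.Helper17.J2

section basics

variable {G : Type*} [Group G] {z : G} {Q K : Subgroup G}

theorem z_ne_one (c : Ctx z Q K) : z ≠ 1 := by
  intro h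
  have h2 := c.hz
  rw [h, orderOf_one] at h2
  norm_num at h2

theorem z_mul_self (c : Ctx z Q K) : z * z = 1 := by
  have h2 := pow_orderOf_eq_one z
  rwa [c.hz, sq] at h2

theorem z_comm (c : Ctx z Q K) {q : G} (hq : q ∈ Q) : q * z = z * q :=
  c.hzc q (Subgroup.mem_sup_right hq)

/-- Twisted commutation passes to inverses. -/
theorem tw_inv (c : Ctx z Q K) {a b : G} (hb : b ∈ Q) (h : a * b = z * (b * a)) :
    a * b⁻¹ = z * (b⁻¹ * a) := by
  have h1 : b * a = z * (a * b) := by rw [h, ← mul_assoc, z_mul_self c, one_mul]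
  have hbi : b⁻¹ * z = z * b⁻¹ := z_comm c (inv_mem hb)
  calc a * b⁻¹ = b⁻¹ * (b * a) * b⁻¹ := by group
    _ = b⁻¹ * (z * (a * b)) * b⁻¹ := by rw [h1]
    _ = (b⁻¹ * z) * a := by group
    _ = z * (b⁻¹ * a) := by rw [hbi, mul_assoc]

/-- Twisted times twisted commutes. -/
theorem tw_mul_tw (c : Ctx z Q K) {a b1 b2 : G} (hb1 : b1 ∈ Q) (h1 : a * b1 = z * (b1 * a))
    (h2 : a * b2 = z * (b2 * a)) : a * (b1 * b2) = b1 * b2 * a := by
  calc a * (b1 * b2) = (a * b1) * b2 := by rw [mul_assoc]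
    _ = z * b1 * (a * b2) := by rw [h1]; simp only [mul_assoc]
    _ = z * (b1 * z) * (b2 * a) := by rw [h2]; simp only [mul_assoc]
    _ = (z * z) * b1 * (b2 * a) := by rw [z_comm c hb1]; simp only [mul_assoc]
    _ = b1 * b2 * a := by rw [z_mul_self c, one_mul, mul_assoc]

/-- Twisted times commuting is twisted. -/
theorem tw_mul_comm {a b1 b2 : G} (h1 : a * b1 = z * (b1 * a)) (h2 : a * b2 = b2 * a) :
    a * (b1 * b2) = z * (b1 * b2 * a) := by
  calc a * (b1 * b2) = (a * b1) * b2 := by rw [mul_assoc]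
    _ = z * b1 * (a * b2) := by rw [h1]; simp only [mul_assoc]
    _ = z * (b1 * b2 * a) := by rw [h2]; simp only [mul_assoc]

/-- Twisted and commuting are exclusive. -/
theorem tw_ne (c : Ctx z Q K) {a b : G} (h : a * b = z * (b * a)) : ¬ a * b = b * a := by
  intro hP
  have e : z * (b * a) = 1 * (b * a) := by rw [one_mul, ← h, hP]
  exact z_ne_one c (mul_right_cancel e)

/-- The square of `u * b` when `b` is twisted against the involution `u`. -/
theorem tw_sq (c : Ctx z Q K) {u b : G} (hu : u ∈ Q) (huu : u * u = 1)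
    (hN : u * b = z * (b * u)) : (u * b) ^ 2 = z * b ^ 2 := by
  have hbu : b * u = z * (u * b) := by rw [hN, ← mul_assoc, z_mul_self c, one_mul]
  have hzu : u * z = z * u := z_comm c hu
  calc (u * b) ^ 2 = u * (b * u) * b := by rw [sq]; simp only [mul_assoc]
    _ = u * (z * (u * b)) * b := by rw [hbu]
    _ = (u * z) * u * (b * b) := by simp only [mul_assoc]
    _ = z * (u * u) * (b * b) := by rw [hzu]; simp only [mul_assoc]
    _ = z * b ^ 2 := by rw [huu, mul_one, sq]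

end basics

variable {G : Type*} [Group G] [Finite G] {z : G} {Q K : Subgroup G}

/-- For a noncentral `a ∈ Q`, both the centralizer of `a` in `Q` and its complement have 16
elements. -/
theorem card_split (c : Ctx z Q K) (a : G) (ha : a ∈ Q) (ha1 : a ≠ 1) (haz : a ≠ z) :
    {b : G | b ∈ Q ∧ a * b = b * a}.ncard = 16 ∧
      {b : G | b ∈ Q ∧ ¬ a * b = b * a}.ncard = 16 := by
  obtain ⟨b0, hb0, hne⟩ : ∃ b0 ∈ Q, a * b0 ≠ b0 * a := by
    by_contra hcon
    push Not at hcon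
    rcases c.cen a ha hcon with h | h
    · exact ha1 h
    · exact haz h
  have h0 : a * b0 = z * (b0 * a) := (c.comm a ha b0 hb0).resolve_left hne
  have hQ : (Q : Set G).ncard = 32 := by
    rw [← Nat.card_coe_set_eq]; exact c.hQcard
  have hun : (Q : Set G) =
      {b : G | b ∈ Q ∧ a * b = b * a} ∪ {b : G | b ∈ Q ∧ ¬ a * b = b * a} := by
    ext b
    simp only [Set.mem_union, Set.mem_ofPred_eq, SetLike.mem_coe]
    tauto
  have hdis : Disjoint {b : G | b ∈ Q ∧ a * b = b * a} {b : G | b ∈ Q ∧ ¬ a * b = b * a} := by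
    rw [Set.disjoint_left]
    intro b hb hb'
    exact hb'.2 hb.2
  have hcard := Set.ncard_union_eq hdis (Set.toFinite _) (Set.toFinite _)
  have himg : {b : G | b ∈ Q ∧ ¬ a * b = b * a} =
      (fun b => b0 * b) '' {b : G | b ∈ Q ∧ a * b = b * a} := by
    ext b
    constructor
    · intro hb
      have hN : a * b = z * (b * a) := (c.comm a ha b hb.1).resolve_left hb.2
      refine ⟨b0⁻¹ * b, ⟨mul_mem (inv_mem hb0) hb.1, ?_⟩, by simp⟩
      exact tw_mul_tw c (inv_mem hb0) (tw_inv c hb0 h0) hN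
    · rintro ⟨b, hb, rfl⟩
      exact ⟨mul_mem hb0 hb.1, tw_ne c (tw_mul_comm h0 hb.2)⟩
  have hDC : {b : G | b ∈ Q ∧ ¬ a * b = b * a}.ncard =
      {b : G | b ∈ Q ∧ a * b = b * a}.ncard := by
    rw [himg]
    exact Set.ncard_image_of_injective _ (mul_right_injective b0)
  rw [← hun, hQ] at hcard
  omega

/-- **(P1a)** The centralizer in `Q` of a noncentral element of `Q` has 16 elements. -/
theorem cent16 (c : Ctx z Q K) (a : G) (ha : a ∈ Q) (ha1 : a ≠ 1) (haz : a ≠ z) :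
    Nat.card {b : G // b ∈ Q ∧ a * b = b * a} = 16 :=
  (Nat.card_coe_set_eq {b : G | b ∈ Q ∧ a * b = b * a}).trans (card_split c a ha ha1 haz).1

/-- **(P1c)** Counting the noncentral involutions of `Q` via the centralizer of one of them. -/
theorem card_T_eq (c : Ctx z Q K) (u : G) (hu : u ∈ Q) (hu2 : orderOf u = 2) (huz : u ≠ z) :
    Nat.card {u' : G // u' ∈ Q ∧ orderOf u' = 2 ∧ u' ≠ z} + 2 =
      8 + Nat.card {b : G // b ∈ Q ∧ u * b = b * u ∧ b ^ 2 = 1} := by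
  have : Fact (Nat.Prime 2) := ⟨Nat.prime_two⟩
  have hz1 := z_ne_one c
  have hzz := z_mul_self c
  have hu1 : u ≠ 1 := by
    intro h
    rw [h, orderOf_one] at hu2
    norm_num at hu2
  have huu : u * u = 1 := by
    have h2 := pow_orderOf_eq_one u
    rwa [hu2, sq] at h2
  obtain ⟨-, hN16⟩ := card_split c u hu hu1 huz
  -- the three auxiliary sets
  obtain ⟨N1, hN1⟩ : ∃ S : Set G, S = {b : G | b ∈ Q ∧ ¬ u * b = b * u ∧ b ^ 2 = 1} := ⟨_, rfl⟩
  obtain ⟨Nz, hNz⟩ : ∃ S : Set G, S = {b : G | b ∈ Q ∧ ¬ u * b = b * u ∧ b ^ 2 = z} := ⟨_, rfl⟩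
  obtain ⟨TC, hTC⟩ : ∃ S : Set G,
    S = {b : G | b ∈ Q ∧ u * b = b * u ∧ orderOf b = 2 ∧ b ≠ z} := ⟨_, rfl⟩
  have key : ∀ b : G, b ∈ Q → ¬ u * b = b * u →
      u * b ∈ Q ∧ ¬ u * (u * b) = u * b * u ∧ (u * b) ^ 2 = z * b ^ 2 ∧ u * (u * b) = b := by
    intro b hb hn
    have hN : u * b = z * (b * u) := (c.comm u hu b hb).resolve_left hn
    refine ⟨mul_mem hu hb, ?_, tw_sq c hu huu hN, by rw [← mul_assoc, huu, one_mul]⟩
    intro h
    rw [mul_assoc] at h
    exact hn (mul_left_cancel h)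
  have hNsplit : {b : G | b ∈ Q ∧ ¬ u * b = b * u} = N1 ∪ Nz := by
    ext b
    simp only [hN1, hNz, Set.mem_union, Set.mem_ofPred_eq]
    constructor
    · rintro ⟨hb, hn⟩
      rcases c.sq b hb with h | h
      · exact Or.inl ⟨hb, hn, h⟩
      · exact Or.inr ⟨hb, hn, h⟩
    · rintro (⟨hb, hn, -⟩ | ⟨hb, hn, -⟩) <;> exact ⟨hb, hn⟩
  have hNdis : Disjoint N1 Nz := by
    rw [Set.disjoint_left, hN1, hNz]
    rintro b ⟨-, -, h1⟩ ⟨-, -, h2⟩
    exact hz1 (h2.symm.trans h1)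
  have hNzimg : Nz = (fun b => u * b) '' N1 := by
    ext b
    rw [hN1, hNz]
    constructor
    · rintro ⟨hb, hn, hsq⟩
      obtain ⟨k1, k2, k3, k4⟩ := key b hb hn
      exact ⟨u * b, ⟨k1, k2, by rw [k3, hsq, hzz]⟩, k4⟩
    · rintro ⟨b, ⟨hb, hn, hsq⟩, rfl⟩
      obtain ⟨k1, k2, k3, -⟩ := key b hb hn
      exact ⟨k1, k2, by rw [k3, hsq, mul_one]⟩
  have hN1card : N1.ncard = 8 := by
    have h1 := Set.ncard_union_eq hNdis (Set.toFinite _) (Set.toFinite _)
    have h2 : Nz.ncard = N1.ncard := by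
      rw [hNzimg]
      exact Set.ncard_image_of_injective _ (mul_right_injective u)
    rw [← hNsplit, hN16] at h1
    omega
  have hT : {u' : G | u' ∈ Q ∧ orderOf u' = 2 ∧ u' ≠ z} = N1 ∪ TC := by
    ext b
    simp only [hN1, hTC, Set.mem_union, Set.mem_ofPred_eq]
    constructor
    · rintro ⟨hb, ho, hbz⟩
      by_cases hcm : u * b = b * u
      · exact Or.inr ⟨hb, hcm, ho, hbz⟩
      · refine Or.inl ⟨hb, hcm, ?_⟩
        rw [← ho]
        exact pow_orderOf_eq_one b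
    · rintro (⟨hb, hn, hsq⟩ | ⟨hb, hcm, ho, hbz⟩)
      · refine ⟨hb, orderOf_eq_prime hsq ?_, ?_⟩
        · intro h1
          exact hn (by rw [h1, mul_one, one_mul])
        · intro h1
          exact hn (by rw [h1]; exact z_comm c hu)
      · exact ⟨hb, ho, hbz⟩
  have hTdis : Disjoint N1 TC := by
    rw [Set.disjoint_left, hN1, hTC]
    rintro b ⟨-, hn, -⟩ ⟨-, hcm, -⟩
    exact hn hcm
  have hDs : {b : G | b ∈ Q ∧ u * b = b * u ∧ b ^ 2 = 1} = insert 1 (insert z TC) := by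
    ext b
    simp only [hTC, Set.mem_insert_iff, Set.mem_ofPred_eq]
    constructor
    · rintro ⟨hb, hcm, hsq⟩
      by_cases h1 : b = 1
      · exact Or.inl h1
      by_cases hbz : b = z
      · exact Or.inr (Or.inl hbz)
      · exact Or.inr (Or.inr ⟨hb, hcm, orderOf_eq_prime hsq h1, hbz⟩)
    · rintro (h1 | h1 | ⟨hb, hcm, ho, hbz⟩)
      · rw [h1]
        exact ⟨one_mem _, by rw [mul_one, one_mul], one_pow 2⟩
      · rw [h1]
        exact ⟨c.hzQ, z_comm c hu, by rw [sq]; exact hzz⟩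
      · exact ⟨hb, hcm, by rw [← ho]; exact pow_orderOf_eq_one b⟩
  have hzTC : z ∉ TC := by
    rw [hTC]
    rintro ⟨-, -, -, h⟩
    exact h rfl
  have h1TC : (1 : G) ∉ insert z TC := by
    rw [Set.mem_insert_iff, hTC]
    rintro (h | ⟨-, -, h, -⟩)
    · exact hz1 h.symm
    · rw [orderOf_one] at h
      norm_num at h
  have hDcard : {b : G | b ∈ Q ∧ u * b = b * u ∧ b ^ 2 = 1}.ncard = TC.ncard + 2 := by
    rw [hDs, Set.ncard_insert_of_notMem h1TC (Set.toFinite _),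
      Set.ncard_insert_of_notMem hzTC (Set.toFinite _)]
  have hTcard : {u' : G | u' ∈ Q ∧ orderOf u' = 2 ∧ u' ≠ z}.ncard = 8 + TC.ncard := by
    rw [hT, Set.ncard_union_eq hTdis (Set.toFinite _) (Set.toFinite _), hN1card]
  have e1 : Nat.card {u' : G // u' ∈ Q ∧ orderOf u' = 2 ∧ u' ≠ z} =
      {u' : G | u' ∈ Q ∧ orderOf u' = 2 ∧ u' ≠ z}.ncard :=
    Nat.card_coe_set_eq {u' : G | u' ∈ Q ∧ orderOf u' = 2 ∧ u' ≠ z}
  have e2 : Nat.card {b : G // b ∈ Q ∧ u * b = b * u ∧ b ^ 2 = 1} =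
      {b : G | b ∈ Q ∧ u * b = b * u ∧ b ^ 2 = 1}.ncard :=
    Nat.card_coe_set_eq {b : G | b ∈ Q ∧ u * b = b * u ∧ b ^ 2 = 1}
  rw [e1, e2, hTcard, hDcard]
  omega

end Cfsg.Agent.Helper4.J2P1
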