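-- helper4: pieces (V1), (V2) of board post 4781 for helper20 (S0420): the normalizer `B` of an
-- element of order 11 in a simple group of order 7920, its normal form `x ^ i * v ^ j`, the sum of
-- a class function over `B`, and the involutions in the coset `c ^ 2 * B`.
import Mathlib
import Cfsg.Agent.Helper20.U11.Cfg

set_option autoImplicit false

namespace Cfsg.Agent.Helper4.M11V12

open Cfsg Subgroup Cfsg.Agent.Helper20.U11

universe u

section generic

variable {G : Type u} [Group G]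

/-- An element `g` whose inverse is a power of `g` and which conjugates `x` into `zpowers x`
normalizes `zpowers x`. -/
theorem mem_normalizer_zpowers_of_conj_mem {g x : G} (m : ℕ) (hm : g⁻¹ = g ^ m)
    (h : g * x * g⁻¹ ∈ zpowers x) : g ∈ normalizer ((zpowers x : Subgroup G) : Set G) := by
  have P1 : ∀ n ∈ zpowers x, g * n * g⁻¹ ∈ zpowers x := by
    intro n hn
    obtain ⟨k, rfl⟩ := Subgroup.mem_zpowers_iff.mp hn
    rw [← conj_zpow]
    exact zpow_mem h k
  have Pm : ∀ j : ℕ, ∀ n ∈ zpowers x, g ^ j * n * (g ^ j)⁻¹ ∈ zpowers x := by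
    intro j
    induction j with
    | zero => intro n hn; simpa using hn
    | succ j ih =>
      intro n hn
      have e : g ^ (j + 1) * n * (g ^ (j + 1))⁻¹ = g * (g ^ j * n * (g ^ j)⁻¹) * g⁻¹ := by
        rw [pow_succ']; group
      rw [e]
      exact P1 _ (ih n hn)
  rw [Subgroup.mem_normalizer_iff]
  intro n
  refine ⟨P1 n, fun hn => ?_⟩
  have h1 := Pm m _ hn
  rw [← hm, inv_inv] at h1
  have e : g⁻¹ * (g * n * g⁻¹) * g = n := by group
  rwa [e] at h1

theorem eq_one_of_mem_of_mem {x v z : G} (hx : orderOf x = 11) (hv : orderOf v = 5)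
    (h1 : z ∈ zpowers x) (h2 : z ∈ zpowers v) : z = 1 := by
  have a : z ^ 11 = 1 := orderOf_dvd_iff_pow_eq_one.mp (hx ▸ orderOf_dvd_of_mem_zpowers h1)
  have b : z ^ 5 = 1 := orderOf_dvd_iff_pow_eq_one.mp (hv ▸ orderOf_dvd_of_mem_zpowers h2)
  have e : z ^ 11 = z ^ 5 * z ^ 5 * z := by rw [← pow_add, ← pow_succ]
  rw [a, b] at e
  simpa using e.symm

/-- Uniqueness of the normal form `x ^ i * v ^ j`. -/
theorem nf_inj {x v : G} (hx : orderOf x = 11) (hv : orderOf v = 5) {i i' j j' : ℕ}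
    (hi : i < 11) (hi' : i' < 11) (hj : j < 5) (hj' : j' < 5)
    (h : x ^ i * v ^ j = x ^ i' * v ^ j') : i = i' ∧ j = j' := by
  have hz : (x ^ i')⁻¹ * x ^ i = v ^ j' * (v ^ j)⁻¹ := by
    rw [eq_mul_inv_of_mul_eq h]; simp [mul_assoc]
  have h1 : (x ^ i')⁻¹ * x ^ i ∈ zpowers x :=
    mul_mem (inv_mem (pow_mem (mem_zpowers x) _)) (pow_mem (mem_zpowers x) _)
  have h2 : (x ^ i')⁻¹ * x ^ i ∈ zpowers v := by
    rw [hz]; exact mul_mem (pow_mem (mem_zpowers v) _) (inv_mem (pow_mem (mem_zpowers v) _))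
  have e1 := eq_one_of_mem_of_mem hx hv h1 h2
  have e2 : v ^ j' * (v ^ j)⁻¹ = 1 := hz ▸ e1
  have ex : x ^ i = x ^ i' := by
    rw [inv_mul_eq_one] at e1; exact e1.symm
  have ev : v ^ j = v ^ j' := by
    rw [mul_inv_eq_one] at e2; exact e2.symm
  constructor
  · exact pow_injOn_Iio_orderOf (by rw [hx]; exact hi) (by rw [hx]; exact hi') ex
  · exact pow_injOn_Iio_orderOf (by rw [hv]; exact hj) (by rw [hv]; exact hj') ev

theorem x_mem (x : G) : x ∈ normalizer ((zpowers x : Subgroup G) : Set G) :=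
  Subgroup.le_normalizer (mem_zpowers x)

theorem v_mem {x v : G} (hv : orderOf v = 5) (hvx : v * x * v⁻¹ = x ^ 3) :
    v ∈ normalizer ((zpowers x : Subgroup G) : Set G) := by
  refine mem_normalizer_zpowers_of_conj_mem 4 ?_ ?_
  · have h5 : v ^ 5 = 1 := by rw [← hv]; exact pow_orderOf_eq_one v
    exact inv_eq_of_mul_eq_one_right (by rw [← pow_succ']; exact h5)
  · rw [hvx]; exact pow_mem (mem_zpowers x) 3

/-- Class functions are constant on `x ^ (3 ^ j)` and on their inverses. -/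
theorem f_conj_pow {x v : G} (hvx : v * x * v⁻¹ = x ^ 3) {f : G → ℂ}
    (hf : IsClassFunction G f) (j : ℕ) :
    f (x ^ (3 ^ j)) = f x ∧ f ((x ^ (3 ^ j))⁻¹) = f x⁻¹ := by
  have e := conj_pow_eq hvx j
  constructor
  · rw [← e]; exact hf x (v ^ j)
  · rw [← e]
    have e' : (v ^ j * x * (v ^ j)⁻¹)⁻¹ = v ^ j * x⁻¹ * (v ^ j)⁻¹ := by group
    rw [e']; exact hf x⁻¹ (v ^ j)

theorem f_pow_of_modEq {x v : G} (hx : orderOf x = 11) (hvx : v * x * v⁻¹ = x ^ 3) {f : G → ℂ}
    (hf : IsClassFunction G f) {a : ℕ} (j : ℕ) (ha : a ≡ 3 ^ j [MOD 11]) :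
    f (x ^ a) = f x := by
  have e : x ^ a = x ^ (3 ^ j) := pow_eq_pow_iff_modEq.mpr (by rw [hx]; exact ha)
  rw [e]; exact (f_conj_pow hvx hf j).1

theorem f_pow_of_modEq_neg {x v : G} (hx : orderOf x = 11) (hvx : v * x * v⁻¹ = x ^ 3)
    {f : G → ℂ} (hf : IsClassFunction G f) {a : ℕ} (j : ℕ) (ha : a + 3 ^ j ≡ 0 [MOD 11]) :
    f (x ^ a) = f x⁻¹ := by
  have e0 : x ^ (a + 3 ^ j) = x ^ 0 := pow_eq_pow_iff_modEq.mpr (by rw [hx]; exact ha)
  have e : x ^ a = (x ^ (3 ^ j))⁻¹ :=
    eq_inv_of_mul_eq_one_left (by rw [← pow_add, e0, pow_zero])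
  rw [e]; exact (f_conj_pow hvx hf j).2

theorem sum_pow11 {x v : G} (hx : orderOf x = 11) (hvx : v * x * v⁻¹ = x ^ 3) {f : G → ℂ}
    (hf : IsClassFunction G f) :
    ∑ i ∈ Finset.range 11, f (x ^ i) = f 1 + 5 * f x + 5 * f x⁻¹ := by
  have h0 : f (x ^ 0) = f 1 := by rw [pow_zero]
  have h1 : f (x ^ 1) = f x := f_pow_of_modEq hx hvx hf 0 (by decide)
  have h2 : f (x ^ 2) = f x⁻¹ := f_pow_of_modEq_neg hx hvx hf 2 (by decide)
  have h3 : f (x ^ 3) = f x := f_pow_of_modEq hx hvx hf 1 (by decide)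
  have h4 : f (x ^ 4) = f x := f_pow_of_modEq hx hvx hf 4 (by decide)
  have h5 : f (x ^ 5) = f x := f_pow_of_modEq hx hvx hf 3 (by decide)
  have h6 : f (x ^ 6) = f x⁻¹ := f_pow_of_modEq_neg hx hvx hf 3 (by decide)
  have h7 : f (x ^ 7) = f x⁻¹ := f_pow_of_modEq_neg hx hvx hf 4 (by decide)
  have h8 : f (x ^ 8) = f x⁻¹ := f_pow_of_modEq_neg hx hvx hf 1 (by decide)
  have h9 : f (x ^ 9) = f x := f_pow_of_modEq hx hvx hf 2 (by decide)
  have h10 : f (x ^ 10) = f x⁻¹ := f_pow_of_modEq_neg hx hvx hf 0 (by decide)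
  simp only [Finset.sum_range_succ, Finset.sum_range_zero, zero_add]
  rw [h0, h1, h2, h3, h4, h5, h6, h7, h8, h9, h10]
  ring

end generic

variable {G : Type u} [Group G] [Fintype G] [IsSimpleGroup G]

/-- The normal form map `(i, j) ↦ x ^ i * v ^ j` is a bijection onto the normalizer of `⟨x⟩`. -/
theorem nf_bijective (h : Nat.card G = 7920) {x v : G} (hx : orderOf x = 11)
    (hv : orderOf v = 5) (hvx : v * x * v⁻¹ = x ^ 3) :
    Function.Bijective (fun p : Fin 11 × Fin 5 =>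
      (⟨x ^ (p.1 : ℕ) * v ^ (p.2 : ℕ),
        mul_mem (pow_mem (x_mem x) _) (pow_mem (v_mem hv hvx) _)⟩ :
        ↥(normalizer ((zpowers x : Subgroup G) : Set G)))) := by
  apply Function.Injective.bijective_of_nat_card_le
  · rintro ⟨i, j⟩ ⟨i', j'⟩ hp
    have hp' := congrArg Subtype.val hp
    simp only at hp'
    obtain ⟨e1, e2⟩ := nf_inj hx hv i.2 i'.2 j.2 j'.2 hp'
    exact Prod.ext (Fin.ext e1) (Fin.ext e2)
  · rw [card_normalizer11 h hx]; simp

/-- Every element of the normalizer of `⟨x⟩` has a normal form `x ^ i * v ^ j`. -/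
theorem exists_nf (h : Nat.card G = 7920) {x v : G} (hx : orderOf x = 11)
    (hv : orderOf v = 5) (hvx : v * x * v⁻¹ = x ^ 3) {b : G}
    (hb : b ∈ normalizer ((zpowers x : Subgroup G) : Set G)) :
    ∃ i < 11, ∃ j < 5, b = x ^ i * v ^ j := by
  obtain ⟨⟨i, j⟩, hp⟩ := (nf_bijective h hx hv hvx).surjective ⟨b, hb⟩
  exact ⟨i, i.2, j, j.2, (congrArg Subtype.val hp).symm⟩

/-- Orders of the elements of the normalizer of `⟨x⟩` divide 55. -/
theorem orderOf_dvd_of_mem (h : Nat.card G = 7920) {x g : G} (hx : orderOf x = 11)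
    (hg : g ∈ normalizer ((zpowers x : Subgroup G) : Set G)) : orderOf g ∣ 55 := by
  have h1 := orderOf_dvd_natCard (⟨g, hg⟩ : ↥(normalizer ((zpowers x : Subgroup G) : Set G)))
  rwa [card_normalizer11 h hx, Subgroup.orderOf_mk] at h1

/-- Elements `x ^ i * v ^ j` with `0 < j < 5` have order 5, so are conjugate to `v`. -/
theorem f_mixed (h : Nat.card G = 7920) {x v : G} (hx : orderOf x = 11) (hv : orderOf v = 5)
    (hvx : v * x * v⁻¹ = x ^ 3) {f : G → ℂ} (hf : IsClassFunction G f) (i : ℕ) {j : ℕ}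
    (hj0 : 0 < j) (hj : j < 5) : f (x ^ i * v ^ j) = f v := by
  have hgB : x ^ i * v ^ j ∈ normalizer ((zpowers x : Subgroup G) : Set G) :=
    mul_mem (pow_mem (x_mem x) _) (pow_mem (v_mem hv hvx) _)
  have hgx : (x ^ i * v ^ j) * x * (x ^ i * v ^ j)⁻¹ = x ^ (3 ^ j) := by
    have e := conj_pow_eq hvx j
    calc (x ^ i * v ^ j) * x * (x ^ i * v ^ j)⁻¹
        = x ^ i * (v ^ j * x * (v ^ j)⁻¹) * (x ^ i)⁻¹ := by group
      _ = x ^ i * x ^ (3 ^ j) * (x ^ i)⁻¹ := by rw [e]
      _ = x ^ (3 ^ j) := by rw [← pow_add, add_comm, pow_add, mul_inv_cancel_right]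
  have h11 : (x ^ i * v ^ j) ^ 11 ≠ 1 := by
    intro h1
    have e := conj_pow_eq hgx 11
    rw [h1] at e
    simp only [one_mul, inv_one, mul_one] at e
    have e' : x ^ 1 = x ^ ((3 ^ j) ^ 11) := by rw [pow_one]; exact e
    have hm := pow_eq_pow_iff_modEq.mp e'
    rw [hx] at hm
    interval_cases j <;> revert hm <;> decide
  have hd := orderOf_dvd_of_mem h hx hgB
  have h5 : orderOf (x ^ i * v ^ j) = 5 := by
    by_cases h5 : 5 ∣ orderOf (x ^ i * v ^ j)
    · exact (orderOf_restrict h _).2.1 h5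
    · exfalso
      have hc : Nat.Coprime (orderOf (x ^ i * v ^ j)) 5 :=
        ((Nat.Prime.coprime_iff_not_dvd Nat.prime_five).mpr h5).symm
      have h11' : orderOf (x ^ i * v ^ j) ∣ 11 :=
        hc.dvd_of_dvd_mul_right (by simpa using hd)
      exact h11 (orderOf_dvd_iff_pow_eq_one.mp h11')
  obtain ⟨c, hc⟩ := isConj_iff.mp (isConj_of_order5 h h5 hv)
  exact (hf _ c).symm.trans (congrArg f hc)

/-- **(V1)** The sum of a class function over the normalizer of an element of order 11. -/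
theorem sum_normalizer11 (h : Nat.card G = 7920) {x v : G} (hx : orderOf x = 11)
    (hv : orderOf v = 5) (hvx : v * x * v⁻¹ = x ^ 3) {f : G → ℂ} (hf : IsClassFunction G f)
    [Fintype ↥(normalizer ((zpowers x : Subgroup G) : Set G))] :
    ∑ b : ↥(normalizer ((zpowers x : Subgroup G) : Set G)), f (b : G) =
      f 1 + 5 * f x + 5 * f x⁻¹ + 44 * f v := by
  have hbij := nf_bijective h hx hv hvx
  refine (hbij.sum_comp
    (fun b : ↥(normalizer ((zpowers x : Subgroup G) : Set G)) => f (b : G))).symm.trans ?_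
  simp only []
  rw [Fintype.sum_prod_type]
  have inner : ∀ i : Fin 11, ∑ j : Fin 5, f (x ^ (i : ℕ) * v ^ (j : ℕ)) =
      f (x ^ (i : ℕ)) + 4 * f v := by
    intro i
    rw [Fin.sum_univ_eq_sum_range (fun j => f (x ^ (i : ℕ) * v ^ j)) 5]
    simp only [Finset.sum_range_succ, Finset.sum_range_zero, zero_add]
    rw [f_mixed h hx hv hvx hf i (j := 1) (by norm_num) (by norm_num),
      f_mixed h hx hv hvx hf i (j := 2) (by norm_num) (by norm_num),
      f_mixed h hx hv hvx hf i (j := 3) (by norm_num) (by norm_num),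
      f_mixed h hx hv hvx hf i (j := 4) (by norm_num) (by norm_num), pow_zero, mul_one]
    ring
  rw [Finset.sum_congr rfl (fun i _ => inner i), Finset.sum_add_distrib,
    Fin.sum_univ_eq_sum_range (fun i => f (x ^ i)) 11, sum_pow11 hx hvx hf, Finset.sum_const,
    Finset.card_univ, Fintype.card_fin, nsmul_eq_mul]
  push_cast
  ring

/-- The involutions `t` with `w⁻¹ * t` in the normalizer of `⟨x⟩` are the `w * v ^ j`, for an
involution `w` inverting `v`. -/
theorem invol_coset_iff (h : Nat.card G = 7920) {x v w : G} (hx : orderOf x = 11)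
    (hv : orderOf v = 5) (hvx : v * x * v⁻¹ = x ^ 3) (hwo : orderOf w = 2)
    (hwv : w * v * w⁻¹ = v⁻¹) (t : G) :
    (orderOf t = 2 ∧ w⁻¹ * t ∈ normalizer ((zpowers x : Subgroup G) : Set G)) ↔
      ∃ j < 5, t = w * v ^ j := by
  have hww : w * w = 1 := by
    have := pow_orderOf_eq_one w
    rwa [hwo, sq] at this
  have hwinv : w⁻¹ = w := inv_eq_of_mul_eq_one_right hww
  have hwvj : ∀ j : ℕ, w * v ^ j * w⁻¹ = (v ^ j)⁻¹ := fun j => by
    rw [← conj_pow, hwv, inv_pow]
  have hwB : w ∉ normalizer ((zpowers x : Subgroup G) : Set G) := by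
    intro hw
    have := orderOf_dvd_of_mem h hx hw
    rw [hwo] at this
    revert this; decide
  constructor
  · rintro ⟨ht, hb⟩
    obtain ⟨i, hi, j, hj, hbe⟩ := exists_nf h hx hv hvx hb
    have hte : t = w * (x ^ i * v ^ j) := by rw [← hbe]; group
    have htt : t * t = 1 := by
      have := pow_orderOf_eq_one t
      rwa [ht, sq] at this
    -- the elements `a = x ^ i`, `d = v ^ j`
    have hd : v ^ j ∈ normalizer ((zpowers x : Subgroup G) : Set G) := pow_mem (v_mem hv hvx) _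
    have e1 : w * (x ^ i * v ^ j) * (w * (x ^ i * v ^ j)) = 1 := by rw [← hte]; exact htt
    have e2 : w * v ^ j * w = (v ^ j)⁻¹ := by
      have := hwvj j
      rwa [hwinv] at this
    have s1 : w * (x ^ i * v ^ j) * w = (x ^ i * v ^ j)⁻¹ :=
      eq_inv_of_mul_eq_one_left (by rw [← e1]; group)
    have s2 : w * (x ^ i * v ^ j) * w = (w * x ^ i * w) * (w * v ^ j * w) := by
      have : (w * x ^ i * w) * (w * v ^ j * w) = w * x ^ i * (w * w) * v ^ j * w := by
        simp only [mul_assoc]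
      rw [this, hww]; simp only [mul_assoc, mul_one]
    have key : w * x ^ i * w = (v ^ j)⁻¹ * (x ^ i)⁻¹ * v ^ j := by
      have e3 := s2.symm.trans s1
      rw [e2, mul_inv_rev] at e3
      exact eq_mul_of_mul_inv_eq e3
    have hmem : w * x ^ i * w⁻¹ ∈ zpowers x := by
      rw [hwinv, key]
      exact (Subgroup.mem_normalizer_iff''.mp hd _).mp
        (inv_mem (pow_mem (mem_zpowers x) _))
    have hi0 : i = 0 := by
      by_contra hi0
      have hcop : Nat.Coprime i 11 := by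
        have : Nat.Coprime 11 i :=
          (Nat.Prime.coprime_iff_not_dvd (by norm_num)).mpr
            (fun hdvd => hi0 (Nat.eq_zero_of_dvd_of_lt hdvd hi))
        exact this.symm
      obtain ⟨m, -, hm⟩ := Nat.exists_mul_mod_eq_one_of_coprime hcop (by norm_num)
      have hxm : (x ^ i) ^ m = x := by
        rw [← pow_mul, ← pow_mod_orderOf, hx, hm, pow_one]
      have hmem' : w * x * w⁻¹ ∈ zpowers x := by
        have := pow_mem hmem m
        rwa [conj_pow, hxm] at this
      exact hwB (mem_normalizer_zpowers_of_conj_mem 1 (by rw [pow_one]; exact hwinv) hmem')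
    refine ⟨j, hj, ?_⟩
    rw [hte, hi0, pow_zero, one_mul]
  · rintro ⟨j, hj, rfl⟩
    refine ⟨?_, ?_⟩
    · have : Fact (Nat.Prime 2) := ⟨Nat.prime_two⟩
      refine orderOf_eq_prime ?_ ?_
      · rw [sq]
        calc w * v ^ j * (w * v ^ j) = (w * v ^ j * w) * v ^ j := by simp only [mul_assoc]
          _ = 1 := by
            have := hwvj j
            rw [hwinv] at this
            rw [this, inv_mul_cancel]
      · intro h1
        have hwmem : w ∈ zpowers v := by
          have : w = (v ^ j)⁻¹ := eq_inv_of_mul_eq_one_left h1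
          rw [this]; exact inv_mem (pow_mem (mem_zpowers v) _)
        have := orderOf_dvd_of_mem_zpowers hwmem
        rw [hwo, hv] at this
        revert this; decide
    · rw [inv_mul_cancel_left]; exact pow_mem (v_mem hv hvx) _

open Classical in
/-- **(V2)** The coset `c ^ 2 * B` contains exactly five involutions. -/
theorem card_invol_coset (h : Nat.card G = 7920) {x v c : G} (hx : orderOf x = 11)
    (hv : orderOf v = 5) (hc : orderOf c = 4) (hvx : v * x * v⁻¹ = x ^ 3)
    (hcv : c * v * c⁻¹ = v ^ 2) :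
    (Finset.univ.filter fun t : G => orderOf t = 2 ∧
      (c ^ 2)⁻¹ * t ∈ normalizer ((zpowers x : Subgroup G) : Set G)).card = 5 := by
  have hwo : orderOf (c ^ 2) = 2 := by
    rw [orderOf_pow' c (by norm_num), hc]; norm_num
  have hv5 : v ^ 5 = 1 := by rw [← hv]; exact pow_orderOf_eq_one v
  have hwv : c ^ 2 * v * (c ^ 2)⁻¹ = v⁻¹ := by
    refine (conj_pow_eq hcv 2).trans (eq_inv_of_mul_eq_one_left ?_)
    have e : (2 : ℕ) ^ 2 + 1 = 5 := by norm_num
    rw [← pow_succ, e, hv5]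
  have core := invol_coset_iff h hx hv hvx hwo hwv
  refine Finset.card_eq_of_bijective (fun j _ => c ^ 2 * v ^ j) ?_ ?_ ?_
  · intro t ht
    rw [Finset.mem_filter] at ht
    obtain ⟨j, hj, rfl⟩ := (core t).mp ht.2
    exact ⟨j, hj, rfl⟩
  · intro j hj
    rw [Finset.mem_filter]
    exact ⟨Finset.mem_univ _, (core _).mpr ⟨j, hj, rfl⟩⟩
  · intro j j' hj hj' e
    have e' : v ^ j = v ^ j' := mul_left_cancel e
    exact pow_injOn_Iio_orderOf (by rw [hv]; exact hj) (by rw [hv]; exact hj') e'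

end Cfsg.Agent.Helper4.M11V12
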