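import Mathlib
import Cfsg.Prelude.Def_OddOrderLocal
import Cfsg.Agent.Helper22.BG144C1
import Cfsg.Agent.Helper65.Nilpotent
import Cfsg.Agent.S1420

/-!
# Bender-Glauberman 14.4(c2) (S1376), Step 5.8: the case `N*_σ` nilpotent (helper4, for helper22)
-/

set_option autoImplicit false

namespace Cfsg.Agent.Helper4.BG144C58

open Cfsg

/-- In a finite nilpotent group whose Sylow `s`-subgroups are abelian, every element of order `s`
is central. -/
theorem central_of_nilpotent {S : Type*} [Group S] [Finite S] [Group.IsNilpotent S] {s : ℕ}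
    [Fact s.Prime] (hab : ∀ P : Sylow s S, ∀ a ∈ P, ∀ b ∈ P, a * b = b * a) (b0 : S)
    (hb0 : orderOf b0 = s) : ∀ y : S, y * b0 = b0 * y := by
  have hs : s.Prime := Fact.out
  have hidx : (Subgroup.centralizer ({b0} : Set S)).index = 1 := by
    rw [Nat.eq_one_iff_not_exists_prime_dvd]
    intro r hr hdvd
    have : Fact r.Prime := ⟨hr⟩
    by_cases hrs : r = s
    · subst hrs
      have hZ : IsPGroup r (Subgroup.zpowers b0) := by
        apply IsPGroup.of_card (n := 1)
        rw [Nat.card_zpowers, hb0, pow_one]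
      obtain ⟨P, hP⟩ := hZ.exists_le_sylow
      have hb0P : b0 ∈ P := hP (Subgroup.mem_zpowers b0)
      have hPC : (P : Subgroup S) ≤ Subgroup.centralizer ({b0} : Set S) := by
        intro a ha
        rw [Subgroup.mem_centralizer_singleton_iff]
        exact hab P a ha b0 hb0P
      exact P.not_dvd_index (hdvd.trans (Subgroup.index_dvd_of_le hPC))
    · obtain ⟨R⟩ : Nonempty (Sylow r S) := inferInstance
      have hRC : (R : Subgroup S) ≤ Subgroup.centralizer ({b0} : Set S) := by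
        intro a ha
        rw [Subgroup.mem_centralizer_singleton_iff]
        obtain ⟨k, hk⟩ := (IsPGroup.iff_orderOf.1 R.2) ⟨a, ha⟩
        rw [Subgroup.orderOf_mk] at hk
        have hco : (orderOf a).Coprime (orderOf b0) := by
          rw [hk, hb0]
          exact Nat.Coprime.pow_left k ((Nat.coprime_primes hr hs).2 hrs)
        exact (Cfsg.Agent.Helper65.commute_of_coprime_orderOf S a b0 hco).eq
      exact R.not_dvd_index (hdvd.trans (Subgroup.index_dvd_of_le hRC))
  have htop := Subgroup.index_eq_one.1 hidx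
  intro y
  have hy : y ∈ Subgroup.centralizer ({b0} : Set S) := by
    rw [htop]
    exact Subgroup.mem_top y
  exact Subgroup.mem_centralizer_singleton_iff.1 hy

variable {G : Type*} [Group G] [Finite G]

theorem step58 (hG : Cfsg.IsMinSimpleOddOrder G) (h65 : Cfsg.Agent.Helper22.BG144C.H1365 G)
    {M N Nst K U Ust : Subgroup G} {x : G} {p q : Nat}
    (c : Cfsg.Agent.Helper22.BG144C.Ctx M N Nst K U Ust x p q) {s : Nat}
    (hs : s ∈ Cfsg.tau2 M) {E B : Subgroup G} {b0 : G}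
    (hE : Cfsg.IsComplIn E (Cfsg.sigmaCore M) M) (hEq : E = M ⊓ Nst) (hBE : B ≤ E)
    (hBea : Cfsg.IsElementaryAbelian s B) (hb0 : b0 ∈ B) (hb01 : b0 ≠ 1)
    (hcb : Subgroup.centralizer {b0} ≤ M) (hsN : s ∈ Cfsg.sigma Nst)
    (hsab : ∀ S : Sylow s G, IsMulCommutative (S : Subgroup G)) (hUst : Ust = ⊥)
    (hEle : E ≤ Cfsg.sigmaCore Nst) (hnil : Group.IsNilpotent (Cfsg.sigmaCore Nst)) : False := by
  classical
  have hsP : s.Prime := hs.1
  have : Fact s.Prime := ⟨hsP⟩
  have hb0S : b0 ∈ Cfsg.sigmaCore Nst := hEle (hBE hb0)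
  have hord : orderOf b0 = s := Cfsg.Agent.Helper22.BG144C.orderOf_eq_of_ea hsP hBea hb0 hb01
  -- Sylow `s`-subgroups of `N*_σ` are abelian
  have hab : ∀ P : Sylow s ↥(Cfsg.sigmaCore Nst), ∀ a ∈ P, ∀ b ∈ P, a * b = b * a := by
    intro P a ha b hb
    have hmap : IsPGroup s ((P : Subgroup ↥(Cfsg.sigmaCore Nst)).map
        (Cfsg.sigmaCore Nst).subtype) := P.2.map _
    obtain ⟨S, hS⟩ := hmap.exists_le_sylow
    have haS : (a : G) ∈ (S : Subgroup G) := hS ⟨a, ha, rfl⟩
    have hbS : (b : G) ∈ (S : Subgroup G) := hS ⟨b, hb, rfl⟩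
    have h1 := (hsab S).is_comm.comm ⟨(a : G), haS⟩ ⟨(b : G), hbS⟩
    have h2 : (a : G) * (b : G) = (b : G) * (a : G) := congrArg Subtype.val h1
    exact Subtype.ext h2
  -- `b0` is central in `N*_σ`
  have hcen : ∀ y ∈ Cfsg.sigmaCore Nst, y * b0 = b0 * y := by
    intro y hy
    have := hnil
    have h1 := central_of_nilpotent (S := ↥(Cfsg.sigmaCore Nst)) (s := s) hab ⟨b0, hb0S⟩
      (by rw [Subgroup.orderOf_mk]; exact hord) ⟨y, hy⟩
    exact congrArg Subtype.val h1
  have hSM : Cfsg.sigmaCore Nst ≤ M :=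
    fun y hy => hcb (Subgroup.mem_centralizer_singleton_iff.2 (hcen y hy))
  have hSNst : Cfsg.sigmaCore Nst ≤ Nst := Cfsg.Agent.Helper29.BG11.sigmaCore_le Nst
  have hES : E = Cfsg.sigmaCore Nst :=
    le_antisymm hEle (by rw [hEq]; exact le_inf hSM hSNst)
  have hEnil : Group.IsNilpotent ↥E := by
    rw [hES]
    exact hnil
  have hEab : IsMulCommutative ↥E :=
    (Cfsg.Agent.S1420.result hG M c.hM E hE).1 E hE.1 hEnil
      (fun r hr hd => (Cfsg.Agent.Helper68.BG12.eCtx_of hG (Cfsg.Agent.Helper22.BG144C.uniq hG)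
        c.hM hE).not_sigma_of_dvd r hr hd)
  obtain ⟨h1, h2⟩ := h65 Nst c.hNst _ Ust c.decSt c.Kst_ne
  rw [hUst, bot_sup_eq] at h1
  rw [h1] at h2
  have hcomm : ⁅Cfsg.sigmaCore Nst, Cfsg.sigmaCore Nst⁆ = ⊥ := by
    rw [← hES, Subgroup.commutator_eq_bot_iff_le_centralizer]
    intro a ha
    rw [Subgroup.mem_centralizer_iff]
    intro b hb
    have h3 := hEab.is_comm.comm ⟨b, hb⟩ ⟨a, ha⟩
    exact congrArg Subtype.val h3
  have hK : K ≤ ⊥ := by
    rw [← hcomm]
    calc K = _ := c.pair.hKst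
      _ ≤ _ := h2
  exact c.hK1 (eq_bot_iff.2 hK)

end Cfsg.Agent.Helper4.BG144C58
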