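import Cfsg.Prelude.Def_OddOrderLocal
import Cfsg.Agent.S1481
import Cfsg.Agent.S1482
import Cfsg.Agent.S1282
import Cfsg.Agent.Helper29.BenderE
import Cfsg.Agent.Helper31.BGTrans2

/-!
# Bender–Glauberman §8, last theorem, part (a) (helper4)

`G` minimal simple of odd order, `M` maximal, `F = F(M)` with at least two prime divisors,
`X ≤ F` with `C_F(X) ≤ X`, and `A₀ ≤ Z(X)` elementary abelian of order at least `p ^ 3`.
Then `X` normalizes no nontrivial subgroup of order coprime to `|F|`, hence `M` is the only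
maximal subgroup containing `X`.
-/

set_option autoImplicit false

namespace Cfsg.Agent.Helper4.BGU

open Cfsg Cfsg.Agent.Helper29.Bender Cfsg.Agent.Helper31

variable {G : Type*} [Group G]

/-- A finite non-abelian simple group is not a `p`-group. -/
theorem not_isPGroup_of_simple [Finite G] [IsSimpleGroup G] (hnc : ¬ IsMulCommutative G)
    {p : ℕ} [Fact p.Prime] : ¬ IsPGroup p G := by
  intro hp
  have : Nontrivial G := IsSimpleGroup.toNontrivial
  have : Nontrivial (Subgroup.center G) := hp.center_nontrivial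
  rcases (inferInstance : (Subgroup.center G).Normal).eq_bot_or_eq_top with h | h
  · have : Subsingleton (Subgroup.center G) := by
      rw [h]; infer_instance
    exact not_subsingleton _ this
  · apply hnc
    refine ⟨⟨fun x y => ?_⟩⟩
    have hx : x ∈ Subgroup.center G := by rw [h]; trivial
    exact ((Subgroup.mem_center_iff.mp hx) y).symm

/-- In a finite non-abelian simple group the normalizer of a nontrivial `p`-subgroup is proper. -/
theorem normalizer_ne_top_of_isPGroup [Finite G] [IsSimpleGroup G] (hnc : ¬ IsMulCommutative G)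
    {p : ℕ} [Fact p.Prime] {T : Subgroup G} (hT : IsPGroup p T) (hT0 : T ≠ ⊥) :
    Subgroup.normalizer (T : Set G) ≠ ⊤ := by
  apply bgt_normalizer_ne_top_of_simple hT0
  intro h
  apply not_isPGroup_of_simple (G := G) hnc (p := p)
  intro g
  obtain ⟨k, hk⟩ := hT ⟨g, by rw [h]; trivial⟩
  exact ⟨k, by simpa using congrArg Subtype.val hk⟩

/-- A maximal subgroup of a minimal simple group with `s ∣ |F(M)|` is a maximal local subgroup. -/
theorem isLocal_of_isCoatom [Finite G] [IsSimpleGroup G] (hnc : ¬ IsMulCommutative G)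
    {M : Subgroup G} (hM : IsCoatom M) {s : ℕ} [hs : Fact s.Prime]
    (hsF : s ∣ Nat.card ↥(fittingOf M)) :
    IsLocalSubgroup M ∧ ∀ L : Subgroup G, IsLocalSubgroup L → M ≤ L → L = M := by
  refine ⟨⟨s, Zs M s, hs.out, isPGroup_Zs M s, Zs_ne_bot M hsF,
    (normalizer_Zs_eq_of_isCoatom hM hsF).symm⟩, ?_⟩
  rintro L ⟨p, T, hp, hT, hT0, rfl⟩ hle
  have : Fact p.Prime := ⟨hp⟩
  have hne := normalizer_ne_top_of_isPGroup hnc hT hT0
  rcases eq_or_lt_of_le hle with h | h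
  · exact h.symm
  · exact absurd (hM.2 _ h) hne


/-- `C_M(F(M)) ≤ F(M)` for a solvable subgroup `M`. -/
theorem inf_centralizer_fittingOf_le [Finite G] {M : Subgroup G} (hM : Group.IsSolvable ↥M) :
    M ⊓ Subgroup.centralizer ((fittingOf M : Subgroup G) : Set G) ≤ fittingOf M := by
  intro w hw
  have hwM : w ∈ M := hw.1
  have h1 : (⟨w, hwM⟩ : ↥M) ∈
      Subgroup.centralizer ((fittingSubgroup ↥M : Subgroup ↥M) : Set ↥M) := by
    rw [Subgroup.mem_centralizer_iff]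
    intro y hy
    apply Subtype.ext
    have hy' : (y : G) ∈ fittingOf M := ⟨y, hy, rfl⟩
    exact (Subgroup.mem_centralizer_iff.mp hw.2) (y : G) hy'
  have h2 := Cfsg.Agent.S0044.result (G := ↥M) h1
  exact ⟨⟨w, hwM⟩, h2, rfl⟩

/-- Step 1: an `X`-invariant subgroup of `M` of order coprime to `|F(M)|` is trivial, when
`C_F(X) ≤ X ≤ F = F(M)`. -/
theorem inv_in_M_eq_bot [Finite G] {M X Y : Subgroup G} (hM : Group.IsSolvable ↥M)
    (hXF : X ≤ fittingOf M)
    (hCX : fittingOf M ⊓ Subgroup.centralizer (X : Set G) ≤ X)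
    (hYM : Y ≤ M) (hXY : X ≤ Subgroup.normalizer (Y : Set G))
    (hcop : (Nat.card ↥Y).Coprime (Nat.card ↥(fittingOf M))) : Y = ⊥ := by
  have hDF : Y ⊓ fittingOf M = ⊥ := disjoint_iff.mp (Subgroup.disjoint_of_coprime_natCard hcop)
  have hYC : Y ≤ M ⊓ Subgroup.centralizer ((fittingOf M : Subgroup G) : Set G) := by
    intro d hd
    refine Subgroup.mem_inf.mpr ⟨hYM hd, ?_⟩
    have hdN : d ∈ Subgroup.normalizer ((fittingOf M : Subgroup G) : Set G) :=
      le_normalizer_fittingOf M (hYM hd)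
    have haM : ∀ m ∈ X, d * m = m * d := by
      intro m hm
      have hc : d * m * d⁻¹ * m⁻¹ ∈ Y ⊓ fittingOf M := by
        constructor
        · have h1 : m * d⁻¹ * m⁻¹ ∈ Y :=
            (Subgroup.mem_normalizer_iff.mp (hXY hm) d⁻¹).mp (Y.inv_mem hd)
          have e : d * m * d⁻¹ * m⁻¹ = d * (m * d⁻¹ * m⁻¹) := by group
          rw [e]
          exact Y.mul_mem hd h1
        · have h1 : d * m * d⁻¹ ∈ fittingOf M :=
            (Subgroup.mem_normalizer_iff.mp hdN m).mp (hXF hm)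
          exact (fittingOf M).mul_mem h1 ((fittingOf M).inv_mem (hXF hm))
      rw [hDF, Subgroup.mem_bot] at hc
      calc d * m = (d * m * d⁻¹ * m⁻¹) * (m * d) := by group
        _ = m * d := by rw [hc, one_mul]
    have hod : orderOf d ∣ Nat.card ↥Y := by
      have := orderOf_dvd_natCard (⟨d, hd⟩ : ↥Y)
      rwa [Subgroup.orderOf_mk] at this
    have key := commute_of_nilpotent_axb (isNilpotent_fittingOf M) hXF hCX hdN haM
      (Nat.Coprime.coprime_dvd_left hod hcop)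
    rw [Subgroup.mem_centralizer_iff]
    intro x hx
    exact (key x hx).symm
  have h2 : Y ≤ fittingOf M := hYC.trans (inf_centralizer_fittingOf_le hM)
  rw [eq_bot_iff, ← hDF]
  exact le_inf le_rfl h2

/-- The standing hypotheses: `M` maximal (hence maximal local) in a minimal simple group of odd
order, `F(M)` with two prime divisors, `C_F(X) ≤ X ≤ F`. -/
structure Hyp (M X : Subgroup G) : Prop where
  minsimple : IsMinSimpleOddOrder G
  coatom : IsCoatom M
  hF2 : 2 ≤ (Nat.card ↥(fittingOf M)).primeFactors.card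
  hX : X ≤ fittingOf M
  hCX : fittingOf M ⊓ Subgroup.centralizer (X : Set G) ≤ X

section hyp

variable [Finite G] {M X : Subgroup G}

theorem Hyp.solvM (h : Hyp M X) : Group.IsSolvable ↥M := h.minsimple.2.2.2 M h.coatom.1

theorem Hyp.X_le (h : Hyp M X) : X ≤ M := h.hX.trans (fittingOf_le M)

theorem Hyp.setup (h : Hyp M X) {R : Subgroup G} (hR : R ≠ ⊤) (hXR : X ≤ R) : Setup M X R := by
  have hs : IsSimpleGroup G := h.minsimple.2.1
  obtain ⟨s, hsmem⟩ : (Nat.card ↥(fittingOf M)).primeFactors.Nonempty :=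
    Finset.card_pos.mp (lt_of_lt_of_le two_pos h.hF2)
  have : Fact s.Prime := ⟨Nat.prime_of_mem_primeFactors hsmem⟩
  have hsF : s ∣ Nat.card ↥(fittingOf M) := Nat.dvd_of_mem_primeFactors hsmem
  obtain ⟨hloc, hmax⟩ := isLocal_of_isCoatom h.minsimple.2.2.1 h.coatom hsF
  refine ⟨hloc, hmax, h.hX, h.hCX, h.minsimple.2.2.2 R hR, hXR.trans Subgroup.le_normalizer, ?_⟩
  refine le_trans ?_ (hXR.trans Subgroup.le_normalizer)
  intro w hw
  refine h.hCX ⟨inf_centralizer_fittingOf_le h.solvM hw, ?_⟩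
  exact Subgroup.centralizer_le (by exact_mod_cast h.hX) hw.2

/-- In every proper subgroup `R ≥ X` all `X`-invariant `q`-subgroups lie in a single one. -/
theorem Hyp.exists_largest (h : Hyp M X) {R : Subgroup G} (hR : R ≠ ⊤) (hXR : X ≤ R)
    (q : ℕ) [hq : Fact q.Prime] (hqF : ¬ q ∣ Nat.card ↥(fittingOf M)) :
    ∃ Q : Subgroup G, Q ≤ R ∧ IsPGroup q ↥Q ∧ X ≤ Subgroup.normalizer (Q : Set G) ∧
      ∀ U : Subgroup G, U ≤ R → IsPGroup q ↥U → X ≤ Subgroup.normalizer (U : Set G) → U ≤ Q := by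
  obtain ⟨Q, ⟨hQ, hall⟩, huniq⟩ := (h.setup hR hXR).main h.hF2 q hqF
  refine ⟨Q, hQ.1.1, isPGroup_of_primes_singleton hq.out hQ.1.2.1, hQ.1.2.2, ?_⟩
  intro U hUR hUq hXU
  have hU : U ∈ invSubgroups R X {q} := ⟨hUR, primes_singleton_of_isPGroup hq.out hUq, hXU⟩
  have hfin : (invSubgroups R X {q}).Finite := Set.toFinite _
  obtain ⟨Q', hUQ', hQ'⟩ := hfin.exists_le_maximal (a := U) hU
  have hQ'max : Q' ∈ maxInvSubgroups R X {q} :=
    ⟨hQ'.prop, fun T hT hQT => le_antisymm (hQ'.le_of_ge hT hQT) hQT⟩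
  have : Q' = Q := huniq Q' ⟨hQ'max, hall⟩
  rw [← this]
  exact hUQ'


/-- Two maximal `X`-invariant `q`-subgroups with nontrivial intersection coincide. -/
theorem Hyp.eq_of_inf_ne_bot (h : Hyp M X) (q : ℕ) [hq : Fact q.Prime]
    (hqF : ¬ q ∣ Nat.card ↥(fittingOf M)) :
    ∀ (n : ℕ) (Y₁ Y₂ : Subgroup G), Nat.card G - Nat.card ↥(Y₁ ⊓ Y₂) = n →
      Y₁ ∈ maxInvSubgroups ⊤ X {q} → Y₂ ∈ maxInvSubgroups ⊤ X {q} → Y₁ ⊓ Y₂ ≠ ⊥ → Y₁ = Y₂ := by
  have hs : IsSimpleGroup G := h.minsimple.2.1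
  intro n
  induction n using Nat.strong_induction_on with
  | _ n ih =>
    intro Y₁ Y₂ hn hY₁ hY₂ hD0
    by_contra hne
    set D : Subgroup G := Y₁ ⊓ Y₂ with hD
    have hY₁q := isPGroup_of_mem_maxInv hq.out hY₁
    have hY₂q := isPGroup_of_mem_maxInv hq.out hY₂
    have hXY₁ : X ≤ Subgroup.normalizer (Y₁ : Set G) := hY₁.1.2.2
    have hXY₂ : X ≤ Subgroup.normalizer (Y₂ : Set G) := hY₂.1.2.2
    have hD₁ : D < Y₁ := by
      refine lt_of_le_of_ne inf_le_left ?_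
      intro h'
      have hle : Y₁ ≤ Y₂ := by rw [← h']; exact inf_le_right
      exact hne (hY₁.2 Y₂ hY₂.1 hle).symm
    have hD₂ : D < Y₂ := by
      refine lt_of_le_of_ne inf_le_right ?_
      intro h'
      have hle : Y₂ ≤ Y₁ := by rw [← h']; exact inf_le_left
      exact hne (hY₂.2 Y₁ hY₁.1 hle)
    have hDA : AInv X D := (ainv_of_le_normalizer hXY₁).inf (ainv_of_le_normalizer hXY₂)
    have hDtop : D ≠ ⊤ := by
      intro h'
      rw [h'] at hD₁
      exact not_top_lt hD₁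
    set N : Subgroup G := Subgroup.normalizer (D : Set G) with hN
    have hNtop : N ≠ ⊤ := bgt_normalizer_ne_top_of_simple hD0 hDtop
    have hXN : X ≤ N := hDA.le_normalizer
    have hNA : AInv X N := hDA.normalizer
    have hlt₁ : D < Y₁ ⊓ N := bgt_lt_inf_normalizer_of_lt hY₁q hD₁
    have hlt₂ : D < Y₂ ⊓ N := bgt_lt_inf_normalizer_of_lt hY₂q hD₂
    obtain ⟨Q, -, hQq, hXQ, hQall⟩ := h.exists_largest hNtop hXN q hqF
    have hT₁ : Y₁ ⊓ N ≤ Q := hQall _ inf_le_right (hY₁q.to_le inf_le_left)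
      ((ainv_of_le_normalizer hXY₁).inf hNA).le_normalizer
    have hT₂ : Y₂ ⊓ N ≤ Q := hQall _ inf_le_right (hY₂q.to_le inf_le_left)
      ((ainv_of_le_normalizer hXY₂).inf hNA).le_normalizer
    obtain ⟨Y₃, hY₃, hQY₃⟩ := exists_maxInv_ge (mem_invSubgroups_of_isPGroup hq.out hQq hXQ)
    have hc₁ : Nat.card ↥D < Nat.card ↥(Y₁ ⊓ Y₃) :=
      lt_of_lt_of_le (card_lt_card_of_lt hlt₁)
        (Subgroup.card_le_of_le (le_inf inf_le_left (hT₁.trans hQY₃)))
    have hc₂ : Nat.card ↥D < Nat.card ↥(Y₂ ⊓ Y₃) :=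
      lt_of_lt_of_le (card_lt_card_of_lt hlt₂)
        (Subgroup.card_le_of_le (le_inf inf_le_left (hT₂.trans hQY₃)))
    have hDpos : 1 ≤ Nat.card ↥D := Nat.card_pos
    have hne₁ : Y₁ ⊓ Y₃ ≠ ⊥ := by
      intro h'
      rw [h', Subgroup.card_bot] at hc₁
      omega
    have hne₂ : Y₂ ⊓ Y₃ ≠ ⊥ := by
      intro h'
      rw [h', Subgroup.card_bot] at hc₂
      omega
    have hb₁ : Nat.card ↥(Y₁ ⊓ Y₃) ≤ Nat.card G := Subgroup.card_le_card_group _
    have hb₂ : Nat.card ↥(Y₂ ⊓ Y₃) ≤ Nat.card G := Subgroup.card_le_card_group _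
    have e₁ := ih _ (by omega) Y₁ Y₃ rfl hY₁ hY₃ hne₁
    have e₂ := ih _ (by omega) Y₂ Y₃ rfl hY₂ hY₃ hne₂
    exact hne (e₁.trans e₂.symm)

/-- Step 2: there is only one maximal `X`-invariant `q`-subgroup, if `Z(X)` contains an
elementary abelian `p`-subgroup of order at least `p ^ 3`. -/
theorem Hyp.maxInv_unique (h : Hyp M X) {p : ℕ} [hp : Fact p.Prime] {A₀ : Subgroup G}
    (hA₀X : A₀ ≤ X) (hXA₀ : X ≤ Subgroup.centralizer (A₀ : Set G))
    (hA₀e : IsElementaryAbelian p A₀) (hA₀3 : p ^ 3 ≤ Nat.card ↥A₀)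
    (q : ℕ) [hq : Fact q.Prime] (hqF : ¬ q ∣ Nat.card ↥(fittingOf M))
    {Y₁ Y₂ : Subgroup G} (hY₁ : Y₁ ∈ maxInvSubgroups ⊤ X {q})
    (hY₂ : Y₂ ∈ maxInvSubgroups ⊤ X {q}) : Y₁ = Y₂ := by
  have hs : IsSimpleGroup G := h.minsimple.2.1
  by_contra hne
  by_cases hD0 : Y₁ ⊓ Y₂ ≠ ⊥
  · exact hne (h.eq_of_inf_ne_bot q hqF _ Y₁ Y₂ rfl hY₁ hY₂ hD0)
  · rw [not_not] at hD0
    have hY₁q := isPGroup_of_mem_maxInv hq.out hY₁
    have hY₂q := isPGroup_of_mem_maxInv hq.out hY₂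
    have hXY₁ : X ≤ Subgroup.normalizer (Y₁ : Set G) := hY₁.1.2.2
    have hXY₂ : X ≤ Subgroup.normalizer (Y₂ : Set G) := hY₂.1.2.2
    have hqp : q ≠ p := by
      rintro rfl
      apply hqF
      have hA₀p : IsPGroup q ↥A₀ := isPGroup_of_exponent A₀ hA₀e.2
      obtain ⟨k, hk⟩ := IsPGroup.iff_card.mp hA₀p
      have hk0 : k ≠ 0 := by
        rintro rfl
        rw [hk, pow_zero] at hA₀3
        have : 1 < q ^ 3 := Nat.one_lt_pow (by omega) hq.out.one_lt
        omega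
      have h1 : q ∣ Nat.card ↥A₀ := by rw [hk]; exact dvd_pow_self q hk0
      exact h1.trans (Subgroup.card_dvd_of_le (hA₀X.trans h.hX))
    have hD₁ : Y₁ ⊓ Y₂ ≠ Y₁ := by
      intro h'
      have hle : Y₁ ≤ Y₂ := by rw [← h']; exact inf_le_right
      exact hne (hY₁.2 Y₂ hY₂.1 hle).symm
    have hD₂ : Y₁ ⊓ Y₂ ≠ Y₂ := by
      intro h'
      have hle : Y₂ ≤ Y₁ := by rw [← h']; exact inf_le_left
      exact hne (hY₂.2 Y₁ hY₁.1 hle)
    obtain ⟨a, ha, ha1, hn₁, hn₂⟩ := Cfsg.Agent.S1282.result p A₀ hA₀e hA₀3 q hqp Y₁ Y₂ hY₁q hY₂q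
      (hA₀X.trans hXY₁) (hA₀X.trans hXY₂) hD₁ hD₂
    set R : Subgroup G := Subgroup.centralizer ({a} : Set G) with hR
    have hRtop : R ≠ ⊤ := centralizer_singleton_ne_top_of_simple h.minsimple.2.2.1 ha1
    have hXR : X ≤ R := by
      intro x hx
      rw [hR, Subgroup.mem_centralizer_iff]
      intro y hy
      rw [Set.mem_singleton_iff] at hy
      subst hy
      exact (Subgroup.mem_centralizer_iff.mp (hXA₀ hx) y ha)
    have hRA : AInv X R := fun b hb r hr => R.mul_mem (R.mul_mem (hXR hb) hr) (R.inv_mem (hXR hb))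
    have hU₁ : Y₁ ⊓ R ≠ ⊥ := by
      intro h'
      apply hn₁
      intro x hx
      have : x ∈ Y₁ ⊓ R := Subgroup.mem_inf.mpr ⟨hx.1.2, hx.2⟩
      rw [h', Subgroup.mem_bot] at this
      rw [this]
      exact Subgroup.one_mem _
    have hU₂ : Y₂ ⊓ R ≠ ⊥ := by
      intro h'
      apply hn₂
      intro x hx
      have : x ∈ Y₂ ⊓ R := Subgroup.mem_inf.mpr ⟨hx.1.2, hx.2⟩
      rw [h', Subgroup.mem_bot] at this
      rw [this]
      exact Subgroup.one_mem _
    obtain ⟨Q, -, hQq, hXQ, hQall⟩ := h.exists_largest hRtop hXR q hqF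
    have hT₁ : Y₁ ⊓ R ≤ Q := hQall _ inf_le_right (hY₁q.to_le inf_le_left)
      ((ainv_of_le_normalizer hXY₁).inf hRA).le_normalizer
    have hT₂ : Y₂ ⊓ R ≤ Q := hQall _ inf_le_right (hY₂q.to_le inf_le_left)
      ((ainv_of_le_normalizer hXY₂).inf hRA).le_normalizer
    obtain ⟨Y₃, hY₃, hQY₃⟩ := exists_maxInv_ge (mem_invSubgroups_of_isPGroup hq.out hQq hXQ)
    have hne₁ : Y₁ ⊓ Y₃ ≠ ⊥ := by
      intro h'
      apply hU₁
      rw [eq_bot_iff, ← h']
      exact le_inf inf_le_left (hT₁.trans hQY₃)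
    have hne₂ : Y₂ ⊓ Y₃ ≠ ⊥ := by
      intro h'
      apply hU₂
      rw [eq_bot_iff, ← h']
      exact le_inf inf_le_left (hT₂.trans hQY₃)
    have e₁ := h.eq_of_inf_ne_bot q hqF _ Y₁ Y₃ rfl hY₁ hY₃ hne₁
    have e₂ := h.eq_of_inf_ne_bot q hqF _ Y₂ Y₃ rfl hY₂ hY₃ hne₂
    exact hne (e₁.trans e₂.symm)


end hyp

/-- Normalizer chain: if `Y` contains every `X`-invariant `q`-subgroup of `G` and is itself one,
and `X ≤ F` with `F` nilpotent, then `F` normalizes `Y`. -/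
theorem le_normalizer_of_largest [Finite G] {X F Y : Subgroup G} (hF : Group.IsNilpotent ↥F)
    (hXF : X ≤ F) {q : ℕ} (hYq : IsPGroup q ↥Y) (hXY : X ≤ Subgroup.normalizer (Y : Set G))
    (hall : ∀ U : Subgroup G, IsPGroup q ↥U → X ≤ Subgroup.normalizer (U : Set G) → U ≤ Y) :
    F ≤ Subgroup.normalizer (Y : Set G) := by
  classical
  set S : Set (Subgroup G) := {X' | X ≤ X' ∧ X' ≤ F ∧ X' ≤ Subgroup.normalizer (Y : Set G)} with hS
  have hfin : S.Finite := Set.toFinite _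
  have hXS : X ∈ S := ⟨le_rfl, hXF, hXY⟩
  obtain ⟨X', hXX', hX'⟩ := hfin.exists_le_maximal (a := X) hXS
  obtain ⟨h1, h2, h3⟩ := hX'.prop
  suffices hEq : X' = F by rw [← hEq]; exact h3
  by_contra hne
  have hlt : X'.subgroupOf F < ⊤ := by
    rw [lt_top_iff_ne_top]
    intro h'
    rw [Subgroup.subgroupOf_eq_top] at h'
    exact hne (le_antisymm h2 h')
  have hnc := Group.normalizerCondition_of_isNilpotent (G := ↥F) (X'.subgroupOf F) hlt
  obtain ⟨x, hxn, hxX⟩ := SetLike.exists_of_lt hnc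
  have hxX' : (x : G) ∉ X' := fun h' => hxX (Subgroup.mem_subgroupOf.mpr h')
  -- `x` normalizes `X'` in `G`
  have hxN : (x : G) ∈ Subgroup.normalizer (X' : Set G) := by
    rw [Subgroup.mem_normalizer_iff]
    intro g
    rw [Subgroup.mem_normalizer_iff] at hxn
    constructor
    · intro hg
      have := (hxn ⟨g, h2 hg⟩).mp (Subgroup.mem_subgroupOf.mpr hg)
      rw [Subgroup.mem_subgroupOf] at this
      simpa using this
    · intro hg
      have hgF : g ∈ F := by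
        have h4 : (x : G) * g * (x : G)⁻¹ ∈ F := h2 hg
        have : g = (x : G)⁻¹ * ((x : G) * g * (x : G)⁻¹) * (x : G) := by group
        rw [this]
        exact F.mul_mem (F.mul_mem (F.inv_mem x.2) h4) x.2
      have := (hxn ⟨g, hgF⟩).mpr (by rw [Subgroup.mem_subgroupOf]; simpa using hg)
      rw [Subgroup.mem_subgroupOf] at this
      exact this
  set X'' : Subgroup G := F ⊓ Subgroup.normalizer (X' : Set G) with hX''
  have hle : X' ≤ X'' := le_inf h2 Subgroup.le_normalizer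
  have hX''S : X'' ∈ S := by
    refine ⟨h1.trans hle, inf_le_left, ?_⟩
    apply AInv.le_normalizer
    intro n hn y hy
    have hnN : n ∈ Subgroup.normalizer (X' : Set G) := hn.2
    have hinv : X' ≤ Subgroup.normalizer ((Y.map (MulAut.conj n).toMonoidHom : Subgroup G) : Set G) :=
      le_normalizer_map_conj_of_mem_normalizer h3 hnN
    have hq' : IsPGroup q ↥(Y.map (MulAut.conj n).toMonoidHom) := isPGroup_map_conj hYq n
    have hsub := hall _ hq' (h1.trans hinv)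
    apply hsub
    rw [mem_map_conj_iff]
    have : n⁻¹ * (n * y * n⁻¹) * n = y := by group
    rw [this]
    exact hy
  have hxX'' : (x : G) ∈ X'' := ⟨x.2, hxN⟩
  have := hX'.le_of_ge hX''S hle
  exact hxX' (this hxX'')

section hyp2

variable [Finite G] {M X : Subgroup G}

/-- Steps 3: no nontrivial `X`-invariant `q`-subgroups, `q ∤ |F|`. -/
theorem Hyp.inv_q_eq_bot (h : Hyp M X) {p : ℕ} [hp : Fact p.Prime] {A₀ : Subgroup G}
    (hA₀X : A₀ ≤ X) (hXA₀ : X ≤ Subgroup.centralizer (A₀ : Set G))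
    (hA₀e : IsElementaryAbelian p A₀) (hA₀3 : p ^ 3 ≤ Nat.card ↥A₀)
    (q : ℕ) [hq : Fact q.Prime] (hqF : ¬ q ∣ Nat.card ↥(fittingOf M))
    {U : Subgroup G} (hUq : IsPGroup q ↥U) (hXU : X ≤ Subgroup.normalizer (U : Set G)) :
    U = ⊥ := by
  have hs : IsSimpleGroup G := h.minsimple.2.1
  obtain ⟨Y, hY, hUY⟩ := exists_maxInv_ge (mem_invSubgroups_of_isPGroup hq.out hUq hXU)
  have hYq := isPGroup_of_mem_maxInv hq.out hY
  have hXY : X ≤ Subgroup.normalizer (Y : Set G) := hY.1.2.2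
  have hall : ∀ U' : Subgroup G, IsPGroup q ↥U' → X ≤ Subgroup.normalizer (U' : Set G) →
      U' ≤ Y := by
    intro U' hU'q hXU'
    obtain ⟨Y', hY', hU'Y'⟩ := exists_maxInv_ge (mem_invSubgroups_of_isPGroup hq.out hU'q hXU')
    rw [h.maxInv_unique hA₀X hXA₀ hA₀e hA₀3 q hqF hY hY']
    exact hU'Y'
  have hFY : fittingOf M ≤ Subgroup.normalizer (Y : Set G) :=
    le_normalizer_of_largest (isNilpotent_fittingOf M) h.hX hYq hXY hall
  -- `M` normalizes `Y`
  have hMY : M ≤ Subgroup.normalizer (Y : Set G) := by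
    apply AInv.le_normalizer
    intro m hm y hy
    have hmN : m ∈ Subgroup.normalizer ((fittingOf M : Subgroup G) : Set G) :=
      le_normalizer_fittingOf M hm
    have hinv := le_normalizer_map_conj_of_mem_normalizer hFY hmN
    have hsub := hall _ (isPGroup_map_conj hYq m) (h.hX.trans hinv)
    apply hsub
    rw [mem_map_conj_iff]
    have : m⁻¹ * (m * y * m⁻¹) * m = y := by group
    rw [this]
    exact hy
  have hY0 : Y = ⊥ := by
    by_contra hY0
    have hNtop := normalizer_ne_top_of_isPGroup h.minsimple.2.2.1 hYq hY0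
    have hNM : Subgroup.normalizer (Y : Set G) = M := by
      rcases eq_or_lt_of_le hMY with h' | h'
      · exact h'.symm
      · exact absurd (h.coatom.2 _ h') hNtop
    have hYM : Y ≤ M := by rw [← hNM]; exact Subgroup.le_normalizer
    have hcop : (Nat.card ↥Y).Coprime (Nat.card ↥(fittingOf M)) := by
      obtain ⟨k, hk⟩ := IsPGroup.iff_card.mp hYq
      rw [hk]
      exact Nat.Coprime.pow_left k ((Nat.Prime.coprime_iff_not_dvd hq.out).mpr hqF)
    exact hY0 (inv_in_M_eq_bot h.solvM h.hX h.hCX hYM hXY hcop)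
  rw [eq_bot_iff, ← hY0]
  exact hUY

/-- Step 4: no nontrivial `X`-invariant subgroups of order coprime to `|F|`. -/
theorem Hyp.inv_eq_bot (h : Hyp M X) {p : ℕ} [hp : Fact p.Prime] {A₀ : Subgroup G}
    (hA₀X : A₀ ≤ X) (hXA₀ : X ≤ Subgroup.centralizer (A₀ : Set G))
    (hA₀e : IsElementaryAbelian p A₀) (hA₀3 : p ^ 3 ≤ Nat.card ↥A₀) :
    ∀ Y ∈ invSubgroups ⊤ X (primesNotDvd (Nat.card ↥(fittingOf M))), Y = ⊥ := by
  intro Y hY
  have hXY : X ≤ Subgroup.normalizer (Y : Set G) := hY.2.2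
  have hcopF : (Nat.card ↥(fittingOf M)).Coprime (Nat.card ↥Y) :=
    coprime_card_of_primesNotDvd hY.2.1
  have hcop : (Nat.card ↥X).Coprime (Nat.card ↥Y) :=
    Nat.Coprime.coprime_dvd_left (Subgroup.card_dvd_of_le h.hX) hcopF
  have hXsolv : Group.IsSolvable ↥X := by
    have : Group.IsNilpotent ↥(fittingOf M) := isNilpotent_fittingOf M
    have : Group.IsSolvable ↥(fittingOf M) := inferInstance
    exact Group.isSolvable_of_isSolvable_injective (Subgroup.inclusion_injective h.hX)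
  by_contra hY0
  have hcard : Nat.card ↥Y ≠ 1 := fun h' => hY0 (Subgroup.eq_bot_of_card_eq _ h')
  obtain ⟨q, hq, hqY⟩ := Nat.exists_prime_and_dvd hcard
  have : Fact q.Prime := ⟨hq⟩
  have hqF : ¬ q ∣ Nat.card ↥(fittingOf M) := (hY.2.1 q hq hqY).2
  obtain ⟨P, hP⟩ := Cfsg.Agent.S0023.result X Y hXY hcop (Or.inl hXsolv) q
  have hPq : IsPGroup q ↥((P : Subgroup ↥Y).map Y.subtype) := P.isPGroup'.map _
  have hP0 := h.inv_q_eq_bot hA₀X hXA₀ hA₀e hA₀3 q hqF hPq hP
  have hP0' : (P : Subgroup ↥Y) = ⊥ :=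
    (Subgroup.map_eq_bot_iff_of_injective _ Y.subtype_injective).mp hP0
  have hdvd : q ∣ Nat.card ↥(P : Subgroup ↥Y) := by
    have := P.dvd_card_of_dvd_card hqY
    simpa using this
  rw [hP0', Subgroup.card_bot] at hdvd
  exact hq.one_lt.ne' (Nat.dvd_one.mp hdvd)

/-- **B–G §8, last theorem, part (a), general form.** -/
theorem Hyp.unique (h : Hyp M X) {p : ℕ} [hp : Fact p.Prime] {A₀ : Subgroup G}
    (hA₀X : A₀ ≤ X) (hXA₀ : X ≤ Subgroup.centralizer (A₀ : Set G))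
    (hA₀e : IsElementaryAbelian p A₀) (hA₀3 : p ^ 3 ≤ Nat.card ↥A₀) :
    InUniqueMaximal X := by
  refine ⟨M, ⟨h.coatom, h.X_le⟩, ?_⟩
  rintro L ⟨hL, hXL⟩
  refine Cfsg.Agent.S1482.result h.minsimple M h.coatom h.hF2 X h.hX ?_
    (h.inv_eq_bot hA₀X hXA₀ hA₀e hA₀3) L hL hXL
  intro w hw
  exact h.hCX ⟨hw.1, Subgroup.centralizer_le (by exact_mod_cast h.hX) hw.2⟩

end hyp2

end Cfsg.Agent.Helper4.BGU
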