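import Cfsg.Agent.Helper16.Quotient
import Cfsg.Agent.Helper78.IrrTransport
import Cfsg.Agent.Helper78.IrrBasic

set_option autoImplicit false

namespace Cfsg.Agent.Helper4.AD1

open Cfsg Cfsg.Agent.Helper16
open scoped ComplexConjugate

variable {G : Type*} [Group G] [Fintype G] {M : Ideal AlgInt} {p : ℕ}

theorem inflate_mem_principalBlock_imp [Fact p.Prime] (hM : IsPModular p M)
    (N : Subgroup G) [N.Normal] [Fintype (G ⧸ N)] (hidx : ¬ p ∣ N.index) (P : Sylow p G)
    (hsup : N ⊔ Subgroup.centralizer ((P : Subgroup G) : Set G) = ⊤)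
    (ψ : IrrCharacter (G ⧸ N)) (hψ : inflate N ψ ∈ principalBlock M G) :
    ∀ q : G ⧸ N, (ψ : G ⧸ N → ℂ) q = 1 := by
  classical
  have hMp : M.IsPrime := Helper77.isPrime_of_isPModular hM
  have hψ1 : (ψ : G ⧸ N → ℂ) 1 ≠ 0 := Helper78.irrChar_one_ne_zero ψ.2
  have hSB : ∀ g : G, MemLocalIdeal M (centralChar (fun _ : G => (1 : ℂ)) g -
      centralChar ((ψ : G ⧸ N → ℂ) ∘ QuotientGroup.mk) g) := hψ
  -- (b), (c): for `c ∈ C_G(P)`, `1 - ψ(c N)/ψ(1)` lies in the local ideal
  have key : ∀ c ∈ Subgroup.centralizer ((P : Subgroup G) : Set G),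
      MemLocalIdeal M (1 - (ψ : G ⧸ N → ℂ) (QuotientGroup.mk c) / (ψ : G ⧸ N → ℂ) 1) := by
    intro c hc
    have hPc : (P : Subgroup G) ≤ Subgroup.centralizer ({c} : Set G) := by
      intro x hx
      rw [Subgroup.mem_centralizer_singleton_iff]
      exact hc x hx
    have hdvd : (Subgroup.centralizer ({c} : Set G)).index ∣ (P : Subgroup G).index :=
      Subgroup.index_dvd_of_le hPc
    have hpk : ¬ p ∣ (Subgroup.centralizer ({c} : Set G)).index :=
      fun h => P.not_dvd_index (h.trans hdvd)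
    have hkI : ¬ MemLocalIdeal M (((Subgroup.centralizer ({c} : Set G)).index : ℕ) : ℂ) :=
      fun h => hpk ((Helper77.memLocalIdeal_natCast_iff hM _).1 h)
    have hkR : MemLocalRing M (((Subgroup.centralizer ({c} : Set G)).index : ℕ) : ℂ) :=
      Helper77.memLocalRing_natCast M _
    have hkinv := Helper77.memLocalRing_inv M hkR hkI
    have hk0 : (((Subgroup.centralizer ({c} : Set G)).index : ℕ) : ℂ) ≠ 0 := by
      intro h0
      apply hkI
      rw [h0]
      exact Helper77.memLocalIdeal_zero M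
    have h1 := hSB c
    have h2 := Helper77.memLocalIdeal_mul_left M hkinv h1
    have e3 : (((Subgroup.centralizer ({c} : Set G)).index : ℕ) : ℂ)⁻¹ *
        (centralChar (fun _ : G => (1 : ℂ)) c -
          centralChar ((ψ : G ⧸ N → ℂ) ∘ QuotientGroup.mk) c) =
        1 - (ψ : G ⧸ N → ℂ) (QuotientGroup.mk c) / (ψ : G ⧸ N → ℂ) 1 := by
      unfold centralChar
      simp only [Function.comp_apply, QuotientGroup.mk_one]
      field_simp
    rw [e3] at h2
    exact h2
  -- (a): every coset is represented by an element of `C_G(P)`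
  have hall : ∀ q : G ⧸ N,
      MemLocalIdeal M (1 - (ψ : G ⧸ N → ℂ) q / (ψ : G ⧸ N → ℂ) 1) := by
    intro q
    obtain ⟨g, rfl⟩ := QuotientGroup.mk_surjective q
    have hg : g ∈ (↑(N ⊔ Subgroup.centralizer ((P : Subgroup G) : Set G)) : Set G) := by
      rw [hsup]
      exact Set.mem_univ g
    rw [Subgroup.normal_mul] at hg
    obtain ⟨n, hn, c, hc, rfl⟩ := hg
    have hq : (QuotientGroup.mk (n * c) : G ⧸ N) = QuotientGroup.mk c := by
      rw [QuotientGroup.mk_mul, (QuotientGroup.eq_one_iff n).2 hn, one_mul]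
    rw [hq]
    exact key c hc
  -- (d)
  have hsum : MemLocalIdeal M (∑ q : G ⧸ N, (1 - (ψ : G ⧸ N → ℂ) q / (ψ : G ⧸ N → ℂ) 1)) :=
    Helper77.memLocalIdeal_sum M _ _ (fun q _ => hall q)
  -- (e)
  by_cases htriv : ψ = ⟨fun _ => 1, Helper79.isIrrCharacter_one⟩
  · intro q
    rw [htriv]
  · exfalso
    have h0 := Helper79.classInner_irr_ne htriv
    unfold classInner at h0
    have hcard : (Nat.card (G ⧸ N) : ℂ) ≠ 0 := by
      have : 0 < Nat.card (G ⧸ N) := Nat.card_pos
      exact_mod_cast this.ne'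
    have hsum0 : ∑ q : G ⧸ N, (ψ : G ⧸ N → ℂ) q = 0 := by
      rcases mul_eq_zero.1 h0 with h | h
      · exact absurd (inv_eq_zero.1 h) hcard
      · simpa using h
    have e4 : ∑ q : G ⧸ N, (1 - (ψ : G ⧸ N → ℂ) q / (ψ : G ⧸ N → ℂ) 1) =
        ((N.index : ℕ) : ℂ) := by
      rw [Finset.sum_sub_distrib, ← Finset.sum_div, hsum0, zero_div, sub_zero,
        Finset.sum_const, Finset.card_univ, nsmul_eq_mul, mul_one, Subgroup.index_eq_card,
        Nat.card_eq_fintype_card]
    rw [e4] at hsum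
    exact hidx ((Helper77.memLocalIdeal_natCast_iff hM _).1 hsum)

end Cfsg.Agent.Helper4.AD1
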