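import Mathlib

/-!
Pieces (F6) and (F8) for helper34's S4188 (board #7937): a faithful representation on a
one-dimensional space gives an injective character into the units of the field, and a group
acting faithfully on a two-dimensional space over `ZMod 3` has order dividing `48`.
-/

set_option autoImplicit false

namespace Cfsg.Agent.Helper4.FratLin

/-- In a one-dimensional space an endomorphism is the scalar given by its determinant. -/
theorem F68_eq_det_smul {F V : Type*} [Field F] [AddCommGroup V] [Module F V]
    (h1 : Module.finrank F V = 1) (f : V →ₗ[F] V) (v : V) : f v = LinearMap.det f • v := by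
  classical
  let b : Module.Basis (Fin 1) F V := Module.basisUnique (Fin 1) h1
  have hdet : LinearMap.det f = LinearMap.toMatrix b b f 0 0 := by
    rw [← LinearMap.det_toMatrix b f, Matrix.det_unique]
    rfl
  have hb : f (b 0) = LinearMap.det f • b 0 := by
    have := b.sum_repr (f (b 0))
    rw [Fin.sum_univ_one] at this
    rw [hdet, LinearMap.toMatrix_apply]
    exact this.symm
  have hv := b.sum_repr v
  rw [Fin.sum_univ_one] at hv
  rw [← hv, map_smul, hb, smul_comm]

theorem exists_injective_units_of_finrank_one {F Q V : Type*} [Field F] [Group Q] [AddCommGroup V]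
    [Module F V] (ρ : Representation F Q V) (hρ : Function.Injective ρ)
    (h1 : Module.finrank F V = 1) : ∃ χ : Q →* Fˣ, Function.Injective χ := by
  refine ⟨((LinearMap.det : (V →ₗ[F] V) →* F).comp ρ).toHomUnits, ?_⟩
  intro g h hgh
  apply hρ
  have h' : LinearMap.det (ρ g) = LinearMap.det (ρ h) := by
    have := congrArg (fun u : Fˣ => (u : F)) hgh
    simpa using this
  ext v
  rw [F68_eq_det_smul h1 (ρ g) v, F68_eq_det_smul h1 (ρ h) v, h']

theorem card_dvd_of_faithful_dim_two_three {Q V : Type*} [Group Q] [Finite Q] [AddCommGroup V]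
    [Module (ZMod 3) V] (ρ : Representation (ZMod 3) Q V) (hρ : Function.Injective ρ)
    (h2 : Module.finrank (ZMod 3) V = 2) : Nat.card Q ∣ 48 := by
  classical
  have : Module.Finite (ZMod 3) V :=
    Module.finite_of_finrank_pos (by rw [h2]; norm_num)
  let b : Module.Basis (Fin 2) (ZMod 3) V := Module.finBasisOfFinrankEq (ZMod 3) V h2
  let e : (V →ₗ[ZMod 3] V)ˣ ≃* GL (Fin 2) (ZMod 3) :=
    Units.mapEquiv (LinearMap.toMatrixAlgEquiv b).toMulEquiv
  let φ : Q →* GL (Fin 2) (ZMod 3) := e.toMonoidHom.comp ρ.asGroupHom
  have hφ : Function.Injective φ := by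
    intro g h hgh
    apply hρ
    have h1 : ρ.asGroupHom g = ρ.asGroupHom h := e.injective hgh
    have := congrArg (fun u : (V →ₗ[ZMod 3] V)ˣ => (u : V →ₗ[ZMod 3] V)) h1
    simpa only [Representation.asGroupHom_apply] using this
  have hcard : Nat.card (GL (Fin 2) (ZMod 3)) = 48 := by
    rw [Matrix.card_GL_field]
    simp [Fin.prod_univ_two]
  have : Finite (GL (Fin 2) (ZMod 3)) := Nat.finite_of_card_ne_zero (by rw [hcard]; norm_num)
  have := Subgroup.card_dvd_of_injective φ hφ
  rwa [hcard] at this

end Cfsg.Agent.Helper4.FratLin
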