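import Cfsg.Agent.Helper88.AltNorm2
import Cfsg.Agent.Helper88.AltCrit2
import Cfsg.Agent.Helper80.AltConjT

/-!
# No proper nontrivial strongly closed subgroup in `C_p ≀ K ≤ Alt`, `p` odd (helper4, for helper88's S5165)
-/

set_option autoImplicit false
set_option linter.unusedSectionVars false

namespace Cfsg.Agent.Helper4

open Equiv Cfsg.Agent.Helper42 Cfsg.Agent.Helper88 Cfsg.Agent.Helper88.AltM

variable {β ρ : Type*} [Fintype β] [DecidableEq β] [Fintype ρ] [DecidableEq ρ] {p : ℕ} [Fact p.Prime]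

namespace AltP2

theorem T_comm (f g : β → ZMod p) : (T f : Perm (Pt β ρ p)) * T g = T g * T f := by
  rw [← T_add, ← T_add, add_comm]

/-- the function `-1` at `a` and `b`, `1` elsewhere -/
def neg2 (p : ℕ) [Fact p.Prime] (a b : β) : β → (ZMod p)ˣ := Pi.mulSingle a (-1) * Pi.mulSingle b (-1)

theorem prod_neg2 (a b : β) : ∏ y, neg2 p a b y = 1 := by
  unfold neg2
  simp only [Pi.mul_apply]
  rw [Finset.prod_mul_distrib, Finset.prod_pi_mulSingle', Finset.prod_pi_mulSingle']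
  simp

theorem sign_C_neg2 (a b : β) : Perm.sign (C (neg2 p a b) : Perm (Pt β ρ p)) = 1 := by
  rw [sign_C, prod_neg2, map_one]

theorem neg2_left {a b : β} (hab : a ≠ b) : ((neg2 p a b a : (ZMod p)ˣ) : ZMod p) = -1 := by
  unfold neg2
  simp [hab]

theorem neg2_right {a b : β} (hab : a ≠ b) : ((neg2 p a b b : (ZMod p)ˣ) : ZMod p) = -1 := by
  unfold neg2
  simp [hab.symm]

theorem neg2_other {a b y : β} (hya : y ≠ a) (hyb : y ≠ b) :
    ((neg2 p a b y : (ZMod p)ˣ) : ZMod p) = 1 := by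
  unfold neg2
  simp [hya, hyb]

/-- the difference `h • g - g` for `h = neg2 a b` -/
def D (a b : β) (g : β → ZMod p) : β → ZMod p :=
  fun y => ((neg2 p a b y : (ZMod p)ˣ) : ZMod p) * g y - g y

theorem D_left {a b : β} (hab : a ≠ b) (g : β → ZMod p) : D a b g a = -2 * g a := by
  unfold D
  rw [neg2_left hab]
  ring

theorem D_right {a b : β} (hab : a ≠ b) (g : β → ZMod p) : D a b g b = -2 * g b := by
  unfold D
  rw [neg2_right hab]
  ring

theorem D_other {a b y : β} (hya : y ≠ a) (hyb : y ≠ b) (g : β → ZMod p) : D a b g y = 0 := by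
  unfold D
  rw [neg2_other hya hyb]
  ring

theorem comm_mem {Γ : Type*} [Group Γ] (T' S : Subgroup Γ)
    (hnorm : ∀ t ∈ T', ∀ g ∈ S, g * t * g⁻¹ ∈ T') {a b : Γ} (ha : a ∈ T') (hb : b ∈ S) :
    a * b * a⁻¹ * b⁻¹ ∈ T' := by
  have h2 : b * a⁻¹ * b⁻¹ ∈ T' := hnorm _ (T'.inv_mem ha) _ hb
  have h3 := T'.mul_mem ha h2
  have e : a * (b * a⁻¹ * b⁻¹) = a * b * a⁻¹ * b⁻¹ := by group
  rw [e] at h3
  exact h3

end AltP2

open AltP2

theorem noStrClosed_odd_of
    (hP1 : ∀ x : Perm (Pt β ρ p), x ^ p = 1 → Perm.sign x = 1 →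
      ∃ g : Perm (Pt β ρ p), Perm.sign g = 1 ∧ ∃ f : β → ZMod p, g * x * g⁻¹ = T f)
    (hp2 : p ≠ 2) (hβ : 3 ≤ Fintype.card β) (K : Subgroup (Perm β))
    (hK : K = Subgroup.closure {σ : Perm β | σ ∈ K ∧ σ ^ p = 1})
    (T' : Subgroup (Perm (Pt β ρ p))) (hT : T' ≤ Ss ρ K)
    (hcl : ∀ t ∈ T', ∀ g ∈ alternatingGroup (Pt β ρ p), g * t * g⁻¹ ∈ Ss ρ K → g * t * g⁻¹ ∈ T') :
    T' = ⊥ ∨ T' = Ss ρ K := by
  classical
  have hpP : p.Prime := Fact.out
  have hpodd : Odd p := hpP.odd_of_ne_two hp2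
  have hKalt : ∀ σ ∈ K, Perm.sign σ = 1 := by
    intro σ hσ
    have hle : Subgroup.closure {σ : Perm β | σ ∈ K ∧ σ ^ p = 1} ≤
        (Perm.sign : Perm β →* ℤˣ).ker := by
      rw [Subgroup.closure_le]
      rintro τ ⟨-, hτ⟩
      rw [SetLike.mem_coe, MonoidHom.mem_ker]
      have h1 : Perm.sign τ ^ p = 1 := by rw [← map_pow, hτ, map_one]
      rcases Int.units_eq_one_or (Perm.sign τ) with h | h
      · exact h
      · rw [h, hpodd.neg_one_pow] at h1
        exact absurd h1 (by decide)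
    have hσ' : σ ∈ Subgroup.closure {σ : Perm β | σ ∈ K ∧ σ ^ p = 1} := by
      rw [← hK]
      exact hσ
    exact MonoidHom.mem_ker.1 (hle hσ')
  have hSsAlt : ∀ g ∈ (Ss ρ K : Subgroup (Perm (Pt β ρ p))), Perm.sign g = 1 := by
    intro g hg
    obtain ⟨f, σ, hσ, rfl⟩ := mem_Ss.1 hg
    rw [map_mul, sign_T (p := p) hp2, sign_L_odd (p := p) hp2, hKalt σ hσ, one_mul]
  have hnorm : ∀ t ∈ T', ∀ g ∈ (Ss ρ K : Subgroup (Perm (Pt β ρ p))), g * t * g⁻¹ ∈ T' := by
    intro t ht g hg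
    exact hcl t ht g (Perm.mem_alternatingGroup.2 (hSsAlt g hg))
      ((Ss ρ K).mul_mem ((Ss ρ K).mul_mem hg (hT ht)) ((Ss ρ K).inv_mem hg))
  by_cases hbot : T' = ⊥
  · exact Or.inl hbot
  right
  obtain ⟨t, htT, ht1⟩ : ∃ t ∈ T', t ≠ 1 := by
    by_contra h
    push Not at h
    exact hbot ((Subgroup.eq_bot_iff_forall _).2 h)
  obtain ⟨f, σ, hσK, rfl⟩ := mem_Ss.1 (hT htT)
  -- (a) a nontrivial translation in `T'`
  obtain ⟨f₁, hf₁T, hf₁⟩ : ∃ f₁ : β → ZMod p, (T f₁ : Perm (Pt β ρ p)) ∈ T' ∧ f₁ ≠ 0 := by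
    by_cases hσ1 : σ = 1
    · subst hσ1
      rw [map_one, mul_one] at htT ht1
      refine ⟨f, htT, ?_⟩
      rintro rfl
      exact ht1 T_zero
    · obtain ⟨y, hy⟩ : ∃ y, σ y ≠ y := by
        by_contra h
        push Not at h
        exact hσ1 (Equiv.ext h)
      have hTe : (T (Pi.single y 1) : Perm (Pt β ρ p)) ∈ Ss ρ K := T_mem_Ss K _
      have h1 : (T f * L σ) * T (Pi.single y 1) * (T f * L σ)⁻¹ * (T (Pi.single y 1))⁻¹ ∈ T' :=
        comm_mem T' (Ss ρ K) hnorm htT hTe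
      have h4 : ((T f * L σ) * T (Pi.single y 1) * (T f * L σ)⁻¹ : Perm (Pt β ρ p)) =
          (T ((Pi.single y 1 : β → ZMod p) ∘ σ.symm) : Perm (Pt β ρ p)) := by
        calc ((T f * L σ) * T (Pi.single y 1) * (T f * L σ)⁻¹ : Perm (Pt β ρ p))
            = T f * (L σ * T (Pi.single y 1) * (L σ)⁻¹) * (T f)⁻¹ := by group
          _ = T f * T ((Pi.single y 1 : β → ZMod p) ∘ σ.symm) * (T f)⁻¹ := by rw [L_T_conj]
          _ = T ((Pi.single y 1 : β → ZMod p) ∘ σ.symm) := by rw [T_comm, mul_inv_cancel_right]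
      rw [h4, ← T_sub] at h1
      refine ⟨_, h1, ?_⟩
      intro h0
      have h5 := congrFun h0 y
      have hy' : σ.symm y ≠ y := by
        intro h6
        apply hy
        rw [← h6, Equiv.apply_symm_apply, h6]
      simp only [Pi.sub_apply, Function.comp_apply, Pi.single_apply, hy', if_false, if_true,
        Pi.zero_apply, zero_sub, neg_eq_zero] at h5
      exact one_ne_zero h5
  -- (b) all translations lie in `T'`
  have Dstep : ∀ (a b : β), a ≠ b → ∀ g : β → ZMod p, (T g : Perm (Pt β ρ p)) ∈ T' →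
      (T (D a b g) : Perm (Pt β ρ p)) ∈ T' := by
    intro a b hab g hg
    have hc : (C (neg2 p a b) : Perm (Pt β ρ p)) * T g * (C (neg2 p a b))⁻¹ ∈ T' := by
      apply hcl _ hg _ (Perm.mem_alternatingGroup.2 (sign_C_neg2 a b))
      rw [C_T_conj]
      exact T_mem_Ss K _
    rw [C_T_conj] at hc
    have h2 := T'.mul_mem hc (T'.inv_mem hg)
    rw [← T_sub] at h2
    exact h2
  obtain ⟨y₀, hy₀⟩ : ∃ y₀, f₁ y₀ ≠ 0 := by
    by_contra h
    push Not at h
    exact hf₁ (funext h)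
  have hcard : 1 < (Finset.univ.erase y₀).card := by
    rw [Finset.card_erase_of_mem (Finset.mem_univ _), Finset.card_univ]
    omega
  obtain ⟨y₁, hy₁, y₂, hy₂, h12⟩ := Finset.one_lt_card.1 hcard
  have h10 : y₁ ≠ y₀ := Finset.ne_of_mem_erase hy₁
  have h20 : y₂ ≠ y₀ := Finset.ne_of_mem_erase hy₂
  have hf₃T := Dstep y₀ y₂ h20.symm _ (Dstep y₀ y₁ h10.symm _ hf₁T)
  have hf₃ : D y₀ y₂ (D y₀ y₁ f₁) = Pi.single y₀ (4 * f₁ y₀) := by
    funext y
    by_cases hy : y = y₀
    · subst hy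
      rw [D_left h20.symm, D_left h10.symm, Pi.single_eq_same]
      ring
    · rw [Pi.single_eq_of_ne hy]
      by_cases hy2 : y = y₂
      · subst hy2
        rw [D_right h20.symm, D_other h20 h12.symm, mul_zero]
      · rw [D_other hy hy2]
  rw [hf₃] at hf₃T
  have h4 : (4 : ZMod p) ≠ 0 := by
    intro h
    have h' : ((4 : ℕ) : ZMod p) = 0 := by exact_mod_cast h
    rw [ZMod.natCast_eq_zero_iff] at h'
    have h2 : p ∣ 2 := by
      have : p ∣ 2 ^ 2 := by simpa using h'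
      exact hpP.dvd_of_dvd_pow this
    exact hp2 ((Nat.prime_dvd_prime_iff_eq hpP Nat.prime_two).1 h2)
  have hscale : ∀ (y : β) (c : ZMod p), c ≠ 0 → (T (Pi.single y c) : Perm (Pt β ρ p)) ∈ T' →
      ∀ d : ZMod p, (T (Pi.single y d) : Perm (Pt β ρ p)) ∈ T' := by
    intro y c hc hm d
    have h1 := T'.pow_mem hm (d * c⁻¹).val
    rw [T_pow] at h1
    have e : (d * c⁻¹).val • (Pi.single y c : β → ZMod p) = Pi.single y d := by
      funext z
      rw [Pi.smul_apply, nsmul_eq_mul, ZMod.natCast_zmod_val]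
      by_cases hz : z = y
      · subst hz
        rw [Pi.single_eq_same, Pi.single_eq_same, mul_assoc, inv_mul_cancel₀ hc, mul_one]
      · rw [Pi.single_eq_of_ne hz, Pi.single_eq_of_ne hz, mul_zero]
    rw [e] at h1
    exact h1
  have hmove : ∀ (y y' : β) (c : ZMod p), (T (Pi.single y c) : Perm (Pt β ρ p)) ∈ T' →
      (T (Pi.single y' c) : Perm (Pt β ρ p)) ∈ T' := by
    intro y y' c hm
    by_cases hyy : y' = y
    · rw [hyy]
      exact hm
    obtain ⟨y'', hy''⟩ : ∃ y'', y'' ≠ y ∧ y'' ≠ y' := by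
      have hc2 : 0 < ((Finset.univ.erase y).erase y').card := by
        have hmem : y' ∈ Finset.univ.erase y := Finset.mem_erase.2 ⟨hyy, Finset.mem_univ _⟩
        rw [Finset.card_erase_of_mem hmem, Finset.card_erase_of_mem (Finset.mem_univ _),
          Finset.card_univ]
        omega
      obtain ⟨z, hz⟩ := Finset.card_pos.1 hc2
      rw [Finset.mem_erase, Finset.mem_erase] at hz
      exact ⟨z, hz.2.1, hz.1⟩
    have hπs : Perm.sign (swap y y' * swap y' y'') = 1 := by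
      rw [map_mul, Perm.sign_swap (Ne.symm hyy), Perm.sign_swap (Ne.symm hy''.2)]
      simp
    have hπy : (swap y y' * swap y' y'') y = y' := by
      rw [Perm.mul_apply, swap_apply_of_ne_of_ne (Ne.symm hyy) (Ne.symm hy''.1), swap_apply_left]
    have hc : (L (swap y y' * swap y' y'') : Perm (Pt β ρ p)) * T (Pi.single y c) *
        (L (swap y y' * swap y' y''))⁻¹ ∈ T' := by
      apply hcl _ hm _ (Perm.mem_alternatingGroup.2 ?_)
      · rw [L_T_conj]
        exact T_mem_Ss K _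
      · rw [sign_L_odd (p := p) hp2, hπs]
    rw [L_T_conj] at hc
    have e : (Pi.single y c : β → ZMod p) ∘ (swap y y' * swap y' y'').symm = Pi.single y' c := by
      funext z
      rw [Function.comp_apply]
      by_cases hz : z = y'
      · subst hz
        have h3 : (swap y z * swap z y'').symm z = y := by
          rw [Equiv.symm_apply_eq, hπy]
        rw [h3, Pi.single_eq_same, Pi.single_eq_same]
      · rw [Pi.single_eq_of_ne hz, Pi.single_eq_of_ne]
        intro h3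
        apply hz
        rw [Equiv.symm_apply_eq, hπy] at h3
        exact h3
    rw [e] at hc
    exact hc
  have hsingle : ∀ (y : β) (d : ZMod p), (T (Pi.single y d) : Perm (Pt β ρ p)) ∈ T' := by
    intro y d
    exact hmove y₀ y d (hscale y₀ _ (mul_ne_zero h4 hy₀) hf₃T d)
  have hall : ∀ g : β → ZMod p, (T g : Perm (Pt β ρ p)) ∈ T' := by
    intro g
    have hsum : ∀ s : Finset β, (T (∑ y ∈ s, Pi.single y (g y)) : Perm (Pt β ρ p)) ∈ T' := by
      intro s
      induction s using Finset.induction_on with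
      | empty =>
        rw [Finset.sum_empty, T_zero]
        exact T'.one_mem
      | insert a s ha ih =>
        rw [Finset.sum_insert ha, T_add]
        exact T'.mul_mem (hsingle a (g a)) ih
    have h1 := hsum Finset.univ
    rw [Finset.univ_sum_single] at h1
    exact h1
  -- (c) every element of order dividing `p` of `Ss` lies in `T'`
  have hordp : ∀ x ∈ (Ss ρ K : Subgroup (Perm (Pt β ρ p))), x ^ p = 1 → x ∈ T' := by
    intro x hx hxp
    obtain ⟨g, hg, f', hgf⟩ := hP1 x hxp (hSsAlt x hx)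
    have e : g⁻¹ * (T f' : Perm (Pt β ρ p)) * g⁻¹⁻¹ = x := by
      rw [← hgf]
      group
    have h2 := hcl _ (hall f') g⁻¹
      (Perm.mem_alternatingGroup.2 (by rw [map_inv, hg, inv_one])) (by rw [e]; exact hx)
    rw [e] at h2
    exact h2
  -- (d) `L K ≤ T'`
  have hKle : K ≤ T'.comap (L : Perm β →* Perm (Pt β ρ p)) := by
    refine hK.le.trans ?_
    rw [Subgroup.closure_le]
    rintro σ' ⟨hσ', hσ'p⟩
    rw [SetLike.mem_coe, Subgroup.mem_comap]
    exact hordp _ (L_mem_Ss hσ') (by rw [← map_pow, hσ'p, map_one])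
  apply le_antisymm hT
  intro x hx
  obtain ⟨f', σ', hσ', rfl⟩ := mem_Ss.1 hx
  exact T'.mul_mem (hall f') (hKle hσ')

/-- **(P2)** for helper88's S5165 (#4213): for `p` odd, `C_p ≀ K` (with `K` generated by its
elements of order dividing `p`) has no proper nontrivial subgroup strongly closed w.r.t. `Alt`. -/
theorem noStrClosed_odd (hp2 : p ≠ 2) [Subsingleton ρ] (hβ : 3 ≤ Fintype.card β)
    (K : Subgroup (Perm β))
    (hK : K = Subgroup.closure {σ : Perm β | σ ∈ K ∧ σ ^ p = 1})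
    (T' : Subgroup (Perm (Pt β ρ p))) (hT : T' ≤ Ss ρ K)
    (hcl : ∀ t ∈ T', ∀ g ∈ alternatingGroup (Pt β ρ p), g * t * g⁻¹ ∈ Ss ρ K → g * t * g⁻¹ ∈ T') :
    T' = ⊥ ∨ T' = Ss ρ K :=
  noStrClosed_odd_of (Cfsg.Agent.Helper80.exists_alt_conj_T hβ) hp2 hβ K hK T' hT hcl

end Cfsg.Agent.Helper4
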