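import Mathlib
import Cfsg.Agent.S0033
import Cfsg.Agent.Helper71.ShultNil
import Cfsg.Agent.Helper21.Fitting
import Cfsg.Agent.Helper22.Sup
import Cfsg.Agent.Helper68.BG124A

/-!
# Lemma (F) for helper70's Theorem N3 (B-G §14): a Frobenius-type fixed-point-free action

`Y ⋊ P` with `|Y| = s`, `|P| = p` primes, `P` not centralizing `Y`, acting coprimely on `K` with
`C_K(P) = 1`. Then `K` is nilpotent (Thompson) and `Y = [Y,P]` centralizes `K` (Shult, nilpotent
target).
-/

set_option autoImplicit false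
set_option linter.style.haveILetI false

namespace Cfsg.Agent.Helper4.BG14F

open scoped commutatorElement

theorem conjEquiv_pow_coe {X : Type*} [Group X] (K : Subgroup X) (x : X)
    (hx : x ∈ Subgroup.normalizer (K : Set X)) (n : ℕ) (k : ↥K) :
    (((Cfsg.Agent.Helper71.ShultNil.conjEquiv K x hx) ^ n) k : X) = x ^ n * k * (x ^ n)⁻¹ := by
  induction n generalizing k with
  | zero => simp
  | succ n ih =>
    rw [pow_succ', MulAut.mul_apply, Cfsg.Agent.Helper71.ShultNil.conjEquiv_coe, ih, pow_succ']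
    group

theorem frob_fpf {X : Type*} [Group X] [Finite X] (hodd : Odd (Nat.card X)) {p s : ℕ}
    (hp : p.Prime) (hs : s.Prime) (K Y P : Subgroup X) (hP : Nat.card P = p)
    (hY : Nat.card Y = s) (hPY : P ≤ Subgroup.normalizer (Y : Set X))
    (hnc : ¬ P ≤ Subgroup.centralizer (Y : Set X))
    (hYK : Y ≤ Subgroup.normalizer (K : Set X)) (hPK : P ≤ Subgroup.normalizer (K : Set X))
    (hcop : (Nat.card K).Coprime (s * p))
    (hfpf : K ⊓ Subgroup.centralizer (P : Set X) = ⊥) :
    K ≤ Subgroup.centralizer (Y : Set X) := by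
  classical
  haveI : Fact p.Prime := ⟨hp⟩
  haveI : Fact s.Prime := ⟨hs⟩
  -- a generator of `P`
  haveI hPcyc : IsCyclic ↥P := isCyclic_of_prime_card hP
  obtain ⟨⟨x, hxP⟩, hgen⟩ := IsCyclic.exists_generator (α := ↥P)
  have hxpow : x ^ p = 1 := by
    have h1 : (⟨x, hxP⟩ : ↥P) ^ Nat.card ↥P = 1 := pow_card_eq_one'
    rw [hP] at h1
    exact congrArg Subtype.val h1
  have hPz : ∀ y ∈ P, ∃ n : ℤ, x ^ n = y := by
    intro y hy
    obtain ⟨n, hn⟩ := Subgroup.mem_zpowers_iff.1 (hgen ⟨y, hy⟩)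
    exact ⟨n, by simpa using congrArg Subtype.val hn⟩
  have hxN : x ∈ Subgroup.normalizer (K : Set X) := hPK hxP
  -- Thompson: `K` is nilpotent
  have hKnil : Group.IsNilpotent ↥K := by
    let φ : ↥K ≃* ↥K := Cfsg.Agent.Helper71.ShultNil.conjEquiv K x hxN
    have hφfix : MonoidHom.FixedPointFree (φ : ↥K →* ↥K) := by
      intro k hk
      have hk' : x * (k : X) * x⁻¹ = k := congrArg Subtype.val hk
      have hcomm : x * (k : X) = k * x := by
        calc x * (k : X) = (x * (k : X) * x⁻¹) * x := by group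
          _ = k * x := by rw [hk']
      have hkc : (k : X) ∈ K ⊓ Subgroup.centralizer (P : Set X) := by
        refine ⟨k.2, ?_⟩
        show (k : X) ∈ Subgroup.centralizer (P : Set X)
        rw [Subgroup.mem_centralizer_iff]
        intro y hy
        obtain ⟨n, rfl⟩ := hPz y hy
        exact ((Commute.zpow_left (show Commute x (k : X) from hcomm) n)).eq
      rw [hfpf, Subgroup.mem_bot] at hkc
      exact Subtype.ext hkc
    have hφpow : φ ^ p = 1 := by
      ext k
      rw [conjEquiv_pow_coe, hxpow]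
      simp
    exact Cfsg.Agent.Helper1.fpf_prime_nilpotent hp φ hφfix hφpow
  -- `p ≠ s`
  have hps : p ≠ s := by
    intro h
    apply hnc
    have hPp : IsPGroup p P := IsPGroup.of_card (n := 1) (by rw [hP, pow_one])
    exact Cfsg.Agent.Helper68.BG12.le_centralizer_of_card_prime_of_isPGroup hPp (h ▸ hY) hPY
  have hpR : ¬ p ∣ Nat.card Y := by
    rw [hY]
    intro h
    exact hps ((Nat.prime_dvd_prime_iff_eq hp hs).1 h)
  -- `Y ⊔ P`
  haveI hYcyc : IsCyclic ↥Y := isCyclic_of_prime_card hY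
  have hsolvY : Group.IsSolvable ↥Y := by
    haveI : IsMulCommutative ↥Y := ⟨⟨fun a b => IsCyclic.commGroup.mul_comm a b⟩⟩
    infer_instance
  have hsolvP : Group.IsSolvable ↥P := by
    haveI : IsMulCommutative ↥P := ⟨⟨fun a b => IsCyclic.commGroup.mul_comm a b⟩⟩
    infer_instance
  have hsolv : Group.IsSolvable ↥(Y ⊔ P) := by
    have := Cfsg.Agent.Helper21.isSolvable_sup hsolvP hsolvY hPY
    rwa [sup_comm] at this
  have hodd' : Odd (Nat.card ↥(Y ⊔ P)) := by
    have hdvd : Nat.card ↥(Y ⊔ P) ∣ Nat.card X := Subgroup.card_subgroup_dvd_card _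
    exact Odd.of_dvd_nat hodd hdvd
  have hdvd : Nat.card ↥(Y ⊔ P) ∣ s * p := by
    have := Cfsg.Agent.Helper22.card_sup_dvd_of_le_normalizer P Y hPY
    rw [hP, hY, sup_comm, mul_comm] at this
    exact this
  have hcop' : (Nat.card ↥(Y ⊔ P)).Coprime (Nat.card K) :=
    (Nat.Coprime.coprime_dvd_right hdvd hcop).symm
  have hShult := Cfsg.Agent.Helper71.ShultNil.commutator_le_centralizer_of_fpf K Y P hKnil hp hP
    hPY hYK hPK hsolv hodd' hcop' hpR hfpf
  -- `[Y,P] = Y`
  have hcomle : ⁅Y, P⁆ ≤ Y := by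
    rw [Subgroup.commutator_le]
    intro y hy z hz
    have h1 : z * y⁻¹ * z⁻¹ ∈ Y :=
      (Subgroup.mem_normalizer_iff.1 (hPY hz) y⁻¹).1 (Y.inv_mem hy)
    have e : ⁅y, z⁆ = y * (z * y⁻¹ * z⁻¹) := by
      simp only [commutatorElement_def]; group
    rw [e]
    exact Y.mul_mem hy h1
  have hcomY : ⁅Y, P⁆ = Y := by
    have hcard : Nat.card ↥(⁅Y, P⁆ : Subgroup X) ∣ s := by
      rw [← hY]; exact Subgroup.card_dvd_of_le hcomle
    rcases (Nat.dvd_prime hs).1 hcard with h1 | h1
    · exfalso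
      apply hnc
      have hbot : ⁅Y, P⁆ = ⊥ := Subgroup.card_eq_one.1 h1
      rw [Subgroup.commutator_comm] at hbot
      exact Subgroup.commutator_eq_bot_iff_le_centralizer.1 hbot
    · exact Subgroup.eq_of_le_of_card_ge hcomle (by rw [h1, hY])
  rw [hcomY] at hShult
  exact Subgroup.le_centralizer_iff.1 hShult

end Cfsg.Agent.Helper4.BG14F
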