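import Mathlib
import Cfsg.Agent.Helper4.BG36Ctx
import Cfsg.Agent.Helper4.TightEmb
import Cfsg.Agent.Helper62.CoprimeZ
import Cfsg.Agent.Helper53.Conj
import Cfsg.Agent.Helper71.ShultHall
import Cfsg.Agent.S3769
import Cfsg.Agent.S0027

/-!
# BG Theorem 3.6: the case `C_V(R₀) = 1` (step (3) of the proof)
-/

set_option autoImplicit false
set_option linter.unusedSectionVars false
set_option linter.style.haveILetI false
open Cfsg

namespace Cfsg.Agent.Helper4.BG36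

open Subgroup Cfsg.Agent.Helper71.Shult
open scoped commutatorElement

section case3

variable {G : Type*} [Group G]

/-- the conjugation action of a subgroup `R ≤ N_G(N)` on `N`, as a homomorphism. -/
def conjHom (N R : Subgroup G) (h : R ≤ normalizer (N : Set G)) : ↥R →* MulAut ↥N where
  toFun r := Cfsg.Agent.Helper53.conjEquiv N (r : G) (h r.2)
  map_one' := by
    ext x
    simp
  map_mul' a b := by
    ext x
    simp [mul_assoc]

/-- A `Z`-group `N` with `[N, R] = N`, for a subgroup `R` normalizing it, is commutative. -/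
theorem commute_of_isZGroup_of_commutator_eq [Finite G] (N R : Subgroup G)
    (hRN : R ≤ normalizer (N : Set G)) (hZ : IsZGroup ↥N) (hNR : ⁅N, R⁆ = N) :
    ∀ x ∈ N, ∀ y ∈ N, x * y = y * x := by
  letI : MulDistribMulAction ↥R ↥N := MulDistribMulAction.compHom ↥N (conjHom N R hRN)
  have hsmul : ∀ (a : ↥R) (g : ↥N), ((a • g : ↥N) : G) = (a : G) * (g : G) * (a : G)⁻¹ :=
    fun a g => rfl
  have hcyc : IsCyclic ↥(Cfsg.Agent.Helper62.commAct ↥N ↥R) :=
    Cfsg.Agent.Helper62.isCyclic_commAct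
  have htop : ∀ x : ↥N, x ∈ Cfsg.Agent.Helper62.commAct ↥N ↥R := by
    have h1 : ⁅N, R⁆ ≤ (Cfsg.Agent.Helper62.commAct ↥N ↥R).map N.subtype := by
      rw [Subgroup.commutator_le]
      intro n hn r hr
      refine ⟨((⟨n, hn⟩ : ↥N)⁻¹)⁻¹ * (⟨r, hr⟩ : ↥R) • (⟨n, hn⟩ : ↥N)⁻¹,
        Cfsg.Agent.Helper62.mem_commAct (⟨r, hr⟩ : ↥R) ((⟨n, hn⟩ : ↥N)⁻¹), ?_⟩
      simp only [inv_inv, coe_subtype, Subgroup.coe_mul, hsmul, InvMemClass.coe_inv,
        commutatorElement_def]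
      group
    intro x
    have hx : (x : G) ∈ ⁅N, R⁆ := by rw [hNR]; exact x.2
    obtain ⟨y, hy, hyx⟩ := h1 hx
    have : y = x := Subtype.ext hyx
    rwa [← this]
  intro x hx y hy
  letI := IsCyclic.commGroup (α := ↥(Cfsg.Agent.Helper62.commAct ↥N ↥R))
  have h := mul_comm (⟨⟨x, hx⟩, htop _⟩ : ↥(Cfsg.Agent.Helper62.commAct ↥N ↥R)) ⟨⟨y, hy⟩, htop _⟩
  exact congrArg (fun z : ↥(Cfsg.Agent.Helper62.commAct ↥N ↥R) => ((z : ↥N) : G)) h

/-- **Step (3)**: the case `C_V(R₀) = 1`. -/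
theorem middle_case3 [Finite G] [Group.IsSolvable G] (hodd : Odd (Nat.card G))
    {p : ℕ} [Fact p.Prime] (V N R R₀ K : Subgroup G)
    (hV : Cfsg.IsElementaryAbelian p V)
    (hNV : N ≤ normalizer (V : Set G)) (hRV : R ≤ normalizer (V : Set G))
    (hRN : R ≤ normalizer (N : Set G)) (hR₀ : R₀ ≤ R) (hR₀p : (Nat.card R₀).Prime)
    (hcop : (Nat.card V * Nat.card N).Coprime (Nat.card R))
    (hfaith : N ⊓ centralizer (V : Set G) = ⊥)
    (hNR : ⁅N, R⁆ = N)
    (hKN : K ≤ N) (hKp : ¬ p ∣ Nat.card K) (hNK : N ≤ normalizer (K : Set G))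
    (hRK : R ≤ normalizer (K : Set G)) (hCK : N ⊓ centralizer (K : Set G) ≤ K)
    (hZ : IsZGroup ↥((V ⊔ N) ⊓ centralizer (R₀ : Set G)))
    (hCV : V ⊓ centralizer (R₀ : Set G) = ⊥) : ¬ p ∣ Nat.card N := by
  intro hpN
  have hp : p.Prime := Fact.out
  -- coprimality
  have hcopNR : (Nat.card N).Coprime (Nat.card R) :=
    Nat.Coprime.coprime_dvd_left (Dvd.intro_left _ rfl) hcop
  have hcopNR₀ : (Nat.card N).Coprime (Nat.card R₀) :=
    hcopNR.coprime_dvd_right (card_dvd_of_le hR₀)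
  have hcopKR₀ : (Nat.card K).Coprime (Nat.card R₀) :=
    hcopNR₀.coprime_dvd_left (card_dvd_of_le hKN)
  have hrp : ¬ p ∣ Nat.card R₀ := by
    intro h
    have h1 : p ∣ Nat.gcd (Nat.card N) (Nat.card R₀) := Nat.dvd_gcd hpN h
    rw [Nat.Coprime] at hcopNR₀
    rw [hcopNR₀] at h1
    exact hp.one_lt.ne' (Nat.dvd_one.mp h1)
  have hR₀K : R₀ ≤ normalizer (K : Set G) := hR₀.trans hRK
  have hR₀N : R₀ ≤ normalizer (N : Set G) := hR₀.trans hRN
  have hKR₀ : K ⊓ R₀ = ⊥ := (disjoint_of_coprime_natCard hcopKR₀).eq_bot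
  -- Shult's theorem S3769 for `K R₀`
  have hcardG' : Nat.card ↥(K ⊔ R₀) = Nat.card K * Nat.card R₀ :=
    Cfsg.Agent.Helper4.card_sup_of_le_normalizer K R₀ hR₀K hKR₀
  have hsolv' : Group.IsSolvable ↥(K ⊔ R₀) := Ctx.solv_sub _
  have hodd' : Odd (Nat.card ↥(K ⊔ R₀)) := Odd.of_dvd_nat hodd (card_subgroup_dvd_card _)
  have hpG' : ¬ p ∣ Nat.card ↥(K ⊔ R₀) := by
    rw [hcardG']
    intro h
    rcases hp.dvd_mul.mp h with h | h
    · exact hKp h
    · exact hrp h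
  have hG'V : K ⊔ R₀ ≤ normalizer (V : Set G) := sup_le (hKN.trans hNV) (hR₀.trans hRV)
  have hHall : (Nat.card K).Coprime (K.relIndex (K ⊔ R₀)) := by
    rw [relIndex_sup_eq_card hR₀K hKR₀]; exact hcopKR₀
  have hshult := Cfsg.Agent.S3769.result (K ⊔ R₀) hsolv' hodd' V hp hV hpG' hG'V K R₀ le_sup_left
    (sup_le le_normalizer hR₀K) hHall le_sup_right hR₀p hKR₀ rfl hCV
  have hR₀Kbot : ⁅R₀, K⁆ = ⊥ := by
    rw [eq_bot_iff, ← hfaith]
    exact le_inf ((commutator_le_of_le_normalizer' hR₀K).trans hKN) hshult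
  have hKR₀bot : ⁅K, R₀⁆ = ⊥ := by rw [commutator_comm]; exact hR₀Kbot
  -- three subgroups: `[N, R₀]` centralizes `K`
  have h3 : ⁅⁅N, R₀⁆, K⁆ = ⊥ := by
    apply commutator_commutator_eq_bot_of_rotate
    · rw [hR₀Kbot]; exact commutator_bot_left N
    · rw [eq_bot_iff, ← hKR₀bot]
      exact commutator_mono (commutator_le_of_le_normalizer hNK) le_rfl
  have hNR₀K : ⁅N, R₀⁆ ≤ K := by
    refine le_trans (le_inf (commutator_le_of_le_normalizer hR₀N) ?_) hCK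
    exact commutator_eq_bot_iff_le_centralizer.mp h3
  have hNR₀bot : ⁅N, R₀⁆ = ⊥ := by
    have h4 := Cfsg.Agent.S0027.result R₀ N hR₀N hcopNR₀.symm (Or.inr (Ctx.solv_sub N))
    rw [← h4, eq_bot_iff, ← hKR₀bot]
    exact commutator_mono hNR₀K le_rfl
  -- `N ≤ C(R₀)` is a `Z`-group
  have hNC : N ≤ (V ⊔ N) ⊓ centralizer (R₀ : Set G) :=
    le_inf le_sup_right (commutator_eq_bot_iff_le_centralizer.mp hNR₀bot)
  haveI := hZ
  have hZN : IsZGroup ↥N := IsZGroup.of_injective (f := Subgroup.inclusion hNC)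
    (Subgroup.inclusion_injective hNC)
  -- hence `N` is commutative, `N ≤ C_N(K) ≤ K`
  have hcomm := commute_of_isZGroup_of_commutator_eq N R hRN hZN hNR
  have hNleK : N ≤ K := by
    intro x hx
    have hxC : x ∈ centralizer (K : Set G) := by
      rw [mem_centralizer_iff]
      intro y hy
      exact hcomm y (hKN hy) x hx
    exact hCK ⟨hx, hxC⟩
  exact hKp (dvd_trans hpN (card_dvd_of_le hNleK))

end case3

end Cfsg.Agent.Helper4.BG36
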