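import Cfsg.Agent.Helper16.DefOneSetup
import Cfsg.Agent.Helper16.SecondMainChar
import Cfsg.Agent.Helper16.CentralDefect
import Cfsg.Agent.Helper77.MaxPair
import Cfsg.Agent.Helper70.DefOneXG
import Cfsg.Agent.Helper82.McKayP.Singular
import Cfsg.Agent.Helper48.DefOneGRa

/-!
# Piece (BLK-a) of helper16's defect-one engine (#5611)

`R_θ ⊆ B` when the block of `θ` in `C_G(P)` induces `B`: by Brauer's second main theorem the
part of `χ|_C` in the block `b` of `θ` vanishes on the `p`-singular elements of `C` when `χ`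
lies outside `b^G`, hence its multiplicities are constant along the fibre of `can` over `θ`
and all the rows of `χ` over `θ` vanish.
-/

set_option autoImplicit false
set_option linter.unusedSectionVars false
set_option linter.unusedVariables false

namespace Cfsg.Agent.Helper4.DefOneBLK

open Cfsg Cfsg.Agent.Helper16 Cfsg.Agent.Helper16.DefOne
open scoped ComplexConjugate

universe u

section core

variable {H : Type u} [Group H] [Fintype H]

/-- The inner product of a combination of irreducible characters with an irreducible one. -/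
theorem classInner_sum_smul_irr (c : IrrCharacter H → ℂ)
    (φ : IrrCharacter H) :
    classInner (∑ ψ : IrrCharacter H, c ψ • (ψ : H → ℂ)) (φ : H → ℂ) = c φ := by
  rw [Helper74.classInner_sum_left]
  rw [Finset.sum_eq_single φ]
  · rw [Helper74.classInner_smul_left, Helper74.irr_inner_self, mul_one]
  · intro ψ _ hne
    rw [Helper74.classInner_smul_left, Helper74.irr_inner_ne hne, mul_zero]
  · intro hn; exact absurd (Finset.mem_univ _) hn

/-- Translating a character by a central element: the summand of the block part. -/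
theorem classInner_central_translate {ρ : H → ℂ}
    (hρ : IsCharacter H ρ) {u : H} (hu : u ∈ Subgroup.center H) (φ : IrrCharacter H) (y : H) :
    classInner (fun d => ρ (u * d)) (φ : H → ℂ) * (φ : H → ℂ) y =
      classInner ρ (φ : H → ℂ) * (φ : H → ℂ) (u * y) := by
  classical
  choose k hk using fun ψ : IrrCharacter H => irr_central_mul ψ hu
  have hexp := Helper74.isCharacter_eq_sum_irr hρ
  have h1 : (fun d => ρ (u * d)) =
      ∑ ψ : IrrCharacter H, (classInner ρ (ψ : H → ℂ) * k ψ) • (ψ : H → ℂ) := by
    funext d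
    have := congrFun hexp (u * d)
    show ρ (u * d) = _
    rw [this]
    simp only [Finset.sum_apply, Pi.smul_apply, smul_eq_mul]
    refine Finset.sum_congr rfl (fun ψ _ => ?_)
    rw [hk ψ d]; ring
  rw [h1, classInner_sum_smul_irr, hk φ y]
  ring

/-- **Abstract core**: if the `b`-part of every central translate of the character `ρ` vanishes
at the complementary factor of every non-regular element, then the multiplicities of `ρ` agree
at two members of `b` that agree on the regular elements. -/
theorem classInner_eq_of_blockPart_vanish {ρ : H → ℂ}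
    (hρ : IsCharacter H ρ) (b : Set (IrrCharacter H)) (reg : H → Prop)
    (hvan : ∀ c : H, ¬ reg c → ∃ u ∈ Subgroup.center H, ∃ y : H, u * y = c ∧
      blockPart b (fun d => ρ (u * d)) y = 0)
    (φ θ : IrrCharacter H) (hφ : φ ∈ b) (hθ : θ ∈ b)
    (hreg : ∀ c : H, reg c → (φ : H → ℂ) c = (θ : H → ℂ) c) :
    classInner ρ (φ : H → ℂ) = classInner ρ (θ : H → ℂ) := by
  classical
  set Φ : H → ℂ := ∑ ψ : IrrCharacter H,
    (if ψ ∈ b then classInner ρ (ψ : H → ℂ) else 0) • (ψ : H → ℂ) with hΦ
  have hΦφ : ∀ ψ ∈ b, classInner Φ (ψ : H → ℂ) = classInner ρ (ψ : H → ℂ) := by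
    intro ψ hψ
    rw [hΦ, classInner_sum_smul_irr, if_pos hψ]
  have hsing : ∀ c : H, ¬ reg c → Φ c = 0 := by
    intro c hc
    obtain ⟨u, hu, y, rfl, h0⟩ := hvan c hc
    rw [blockPart_eq_sum] at h0
    rw [← h0, hΦ]
    simp only [Finset.sum_apply, Pi.smul_apply, smul_eq_mul]
    refine Finset.sum_congr rfl (fun ψ _ => ?_)
    rw [classInner_central_translate hρ hu ψ y]
    split_ifs <;> ring
  have h0 : classInner Φ ((φ : H → ℂ) - (θ : H → ℂ)) = 0 := by
    rw [Helper74.classInner_def]
    rw [Finset.sum_eq_zero, mul_zero]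
    intro c _
    by_cases hc : reg c
    · rw [Pi.sub_apply, hreg c hc, sub_self, map_zero, mul_zero]
    · rw [hsing c hc, zero_mul]
  rw [Helper74.classInner_sub_right, hΦφ φ hφ, hΦφ θ hθ] at h0
  exact sub_eq_zero.mp h0

end core

section inst

variable {G : Type u} [Group G] [Fintype G] {p : ℕ} [Fact p.Prime] (M : Ideal AlgInt)
  (P : Sylow p G)

/-- The second main theorem, for a subgroup that *equals* the centralizer of the `p`-element. -/
theorem second_main_of_eq (hM : IsPModular p M) (u : G) (hu : ∃ k : ℕ, orderOf u = p ^ k)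
    (K : Subgroup G) (hK : K = Subgroup.centralizer ({u} : Set G))
    {B : Set (IrrCharacter G)} (hB : IsPBlock M B) (χ : IrrCharacter G) (hχ : χ ∈ B)
    (b : Set (IrrCharacter K)) (hb : IsPBlock M b) (hnot : ¬ IsInducedBlock M K b B)
    (y : K) (hy : ¬ p ∣ orderOf y) :
    blockPart b (fun c : K => (χ : G → ℂ) (u * (c : G))) y = 0 := by
  subst hK
  exact second_main_character hM u hu hB χ hχ b hb hnot y hy

theorem orderOf_eq_of_mem_sylow (hP : Nat.card P = p) {u : G} (hu : u ∈ (P : Subgroup G))
    (hu1 : u ≠ 1) : orderOf u = p := by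
  have h1 : orderOf (⟨u, hu⟩ : (P : Subgroup G)) ∣ p := by
    have h0 := orderOf_dvd_natCard (⟨u, hu⟩ : (P : Subgroup G))
    rwa [hP] at h0
  have h2 : orderOf (⟨u, hu⟩ : (P : Subgroup G)) = orderOf u := Subgroup.orderOf_mk u hu
  rw [h2] at h1
  rcases (Nat.dvd_prime (Fact.out : p.Prime)).mp h1 with h | h
  · exact absurd (orderOf_eq_one_iff.mp h) hu1
  · exact h

theorem cen_eq_centralizer_singleton (hP : Nat.card P = p) {u : G}
    (hu : u ∈ (P : Subgroup G)) (hu1 : u ≠ 1) :
    cen P = Subgroup.centralizer ({u} : Set G) := by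
  have hord : orderOf u = p := orderOf_eq_of_mem_sylow P hP hu hu1
  have hz := Helper82.McKayP.zpowers_eq_sylow p P hP u hu hord
  ext c
  rw [Subgroup.mem_centralizer_iff, Subgroup.mem_centralizer_iff]
  constructor
  · intro h t ht
    rw [Set.mem_singleton_iff] at ht; subst ht
    exact h _ hu
  · intro h t ht
    have ht' : t ∈ Subgroup.zpowers u := by rw [hz]; exact ht
    obtain ⟨n, rfl⟩ := Subgroup.mem_zpowers_iff.mp ht'
    have hc : Commute u c := h u (Set.mem_singleton u)
    exact (hc.zpow_left n).eq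

/-- **(BLK-a)** `R_θ ⊆ B` when the block of the canonical character `θ` of `C_G(P)` induces `B`. -/
theorem Rset_subset_of_isInducedBlock' (hM : IsPModular p M) (hP : Nat.card P = p)
    (hreg : ∀ (φ : IrrCharacter (cen P)) (x : cen P), ¬ p ∣ orderOf x →
      (φ : cen P → ℂ) x = (can P φ : cen P → ℂ) x)
    (hblk : ∀ φ ψ : IrrCharacter (cen P),
      SameBlock M (φ : cen P → ℂ) (ψ : cen P → ℂ) ↔ can P φ = can P ψ)
    (hself : ∀ θ, IsCanon P θ → can P θ = θ)
    (θ : IrrCharacter (cen P)) (hθ : IsCanon P θ) (B : Set (IrrCharacter G))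
    (hind : IsInducedBlock M (cen P) (blockOf M (θ : cen P → ℂ)) B) : Rset P θ ⊆ B := by
  classical
  have hMp : M.IsPrime := IsPModular.isPrime hM
  haveI : Fintype (cen P) := Fintype.ofFinite _
  intro χ hχ
  by_contra hχB
  obtain ⟨φ, hφθ, hrow⟩ := hχ
  apply hrow
  have hbP : IsPBlock M (blockOf M (θ : cen P → ℂ)) := ⟨θ, rfl⟩
  have hmem : ∀ ψ : IrrCharacter (cen P), can P ψ = θ → ψ ∈ blockOf M (θ : cen P → ℂ) := by
    intro ψ hψ
    show SameBlock M (θ : cen P → ℂ) (ψ : cen P → ℂ)
    rw [hblk, hself θ hθ, hψ]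
  have hθb : θ ∈ blockOf M (θ : cen P → ℂ) := hmem θ (hself θ hθ)
  have hφb : φ ∈ blockOf M (θ : cen P → ℂ) := hmem φ hφθ
  have hB'P : IsPBlock M (blockOf M (χ : G → ℂ)) := ⟨χ, rfl⟩
  have hχB' : χ ∈ blockOf M (χ : G → ℂ) := Helper78.mem_blockOf_self hMp χ
  have hnot : ¬ IsInducedBlock M (cen P) (blockOf M (θ : cen P → ℂ)) (blockOf M (χ : G → ℂ)) := by
    intro h
    have := Helper77.isInducedBlock_unique (cen P) hind h
    exact hχB (this ▸ hχB')
  have hχchar : IsCharacter (cen P) (fun c : cen P => (χ : G → ℂ) (c : G)) :=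
    Helper74.isCharacter_restrict (cen P) (Helper74.irr_isCharacter χ)
  have key : classInner (fun c : cen P => (χ : G → ℂ) (c : G)) (φ : cen P → ℂ) =
      classInner (fun c : cen P => (χ : G → ℂ) (c : G)) (θ : cen P → ℂ) := by
    refine classInner_eq_of_blockPart_vanish hχchar (blockOf M (θ : cen P → ℂ))
      (fun c => ¬ p ∣ orderOf c) ?_ φ θ hφb hθb ?_
    · -- vanishing
      intro c hc
      rw [not_not] at hc
      obtain ⟨u, y, hu, hy, huy, ⟨k, hk⟩, hyreg⟩ :=
        Helper70.DefOneXG.exists_pPart_decomp (p := p) c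
      have huP : (u : G) ∈ (P : Subgroup G) := by
        apply Helper70.DefOneXG.mem_sylow_of_pow P (k := k)
        · have := congrArg Subtype.val hk
          simpa using this
        · exact Subgroup.centralizer_le_normalizer _ u.2
      have hu1 : (u : G) ≠ 1 := by
        intro h
        have h1 : u = 1 := Subtype.ext h
        rw [h1, one_mul] at huy
        rw [huy] at hyreg
        exact hyreg hc
      have hucen : u ∈ Subgroup.center (cen P) := by
        rw [Subgroup.mem_center_iff]
        intro g
        apply Subtype.ext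
        have := (Subgroup.mem_centralizer_iff.mp g.2) (u : G) huP
        simpa using this.symm
      refine ⟨u, hucen, y, huy, ?_⟩
      have hord : ∃ k : ℕ, orderOf (u : G) = p ^ k :=
        ⟨1, by rw [pow_one]; exact orderOf_eq_of_mem_sylow P hP huP hu1⟩
      exact second_main_of_eq M hM (u : G) hord (cen P)
        (cen_eq_centralizer_singleton P hP huP hu1) hB'P χ hχB' _ hbP hnot y hyreg
    · intro c hc
      rw [hreg φ c hc, hφθ]
  unfold rowZ
  rw [hφθ]
  have h1 := mult_cast P χ φ
  have h2 := mult_cast P χ θ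
  rw [key, ← h2] at h1
  have := Int.cast_injective h1
  omega

end inst

end Cfsg.Agent.Helper4.DefOneBLK
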