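import Cfsg.Agent.Helper78.HKDefs
import Cfsg.Agent.Helper78.BlockTransport
import Cfsg.Agent.S0920

/-!
# Brauer's first main theorem over a subgroup `H ≥ N_G(D)`, in terms of block induction

Piece FM for the Harris–Knörr correspondence (helper78's S4674).
-/

set_option autoImplicit false

namespace Cfsg.Agent.Helper4.HKFM

open Cfsg Cfsg.Agent.Helper78

universe u

variable {G : Type u} [Group G] [Fintype G] {M : Ideal AlgInt} {p : ℕ}

theorem image_irrMap_trans {H H' H'' : Type*} [Group H] [Group H'] [Group H''] (e₁ : H ≃* H')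
    (e₂ : H' ≃* H'') (S : Set (IrrCharacter H)) :
    irrMap (e₁.trans e₂) '' S = irrMap e₂ '' (irrMap e₁ '' S) := by
  rw [Set.image_image]
  apply Set.image_congr
  intro ξ _
  exact irrMap_trans e₁ e₂ ξ

theorem first_main_over [Fact p.Prime] (hM : IsPModular p M) (D H : Subgroup G)
    (hD : IsPGroup p D) (hH : Subgroup.normalizer (D : Set G) ≤ H) :
    (∀ c : Set (IrrCharacter ↥H), IsPBlock M c → IsDefectGroup p M c (D.subgroupOf H) →
      ∃ B : Set (IrrCharacter G), IsPBlock M B ∧ IsDefectGroup p M B D ∧
        IsInducedBlock M H c B) ∧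
    (∀ B : Set (IrrCharacter G), IsPBlock M B → IsDefectGroup p M B D →
      ∃ c : Set (IrrCharacter ↥H), IsPBlock M c ∧ IsDefectGroup p M c (D.subgroupOf H) ∧
        IsInducedBlock M H c B) ∧
    (∀ (B : Set (IrrCharacter G)) (c c' : Set (IrrCharacter ↥H)), IsPBlock M c →
      IsDefectGroup p M c (D.subgroupOf H) → IsInducedBlock M H c B → IsPBlock M c' →
      IsDefectGroup p M c' (D.subgroupOf H) → IsInducedBlock M H c' B → c' = c) := by
  classical
  have hMp : M.IsPrime := isPrime_of_isPModular hM
  have hDN : D ≤ Subgroup.normalizer (D : Set G) := Subgroup.le_normalizer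
  have hDH : D ≤ H := hDN.trans hH
  have hDHp : IsPGroup p (D.subgroupOf H) := hD.comap_subtype
  have hN' : (Subgroup.normalizer (D : Set G)).subgroupOf H =
      Subgroup.normalizer ((D.subgroupOf H : Subgroup H) : Set H) :=
    Subgroup.subgroupOf_normalizer_eq hDH
  let φ : Subgroup.normalizer ((D.subgroupOf H : Subgroup H) : Set H) ≃*
      Subgroup.normalizer (D : Set G) :=
    (MulEquiv.subgroupCongr hN'.symm).trans (Subgroup.subgroupOfEquivOfLe hH)
  have hφ : ∀ n' : Subgroup.normalizer ((D.subgroupOf H : Subgroup H) : Set H),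
      ((φ n' : Subgroup.normalizer (D : Set G)) : G) = ((n' : H) : G) := fun _ => rfl
  have hmap1 : ((D.subgroupOf H).subgroupOf
        (Subgroup.normalizer ((D.subgroupOf H : Subgroup H) : Set H))).map
        (φ : _ →* Subgroup.normalizer (D : Set G)) =
      D.subgroupOf (Subgroup.normalizer (D : Set G)) := by
    ext n
    simp only [Subgroup.mem_map, Subgroup.mem_subgroupOf, MonoidHom.coe_coe]
    constructor
    · rintro ⟨n', hn', rfl⟩
      rw [hφ]; exact hn'
    · intro hn
      refine ⟨φ.symm n, ?_, MulEquiv.apply_symm_apply _ _⟩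
      rw [← hφ, MulEquiv.apply_symm_apply]
      exact hn
  have hmap2 : (D.subgroupOf (Subgroup.normalizer (D : Set G))).map
        (φ.symm : _ →* Subgroup.normalizer ((D.subgroupOf H : Subgroup H) : Set H)) =
      (D.subgroupOf H).subgroupOf
        (Subgroup.normalizer ((D.subgroupOf H : Subgroup H) : Set H)) := by
    rw [← hmap1, Subgroup.map_map]
    have : (φ.symm : _ →* Subgroup.normalizer ((D.subgroupOf H : Subgroup H) : Set H)).comp
        (φ : _ →* Subgroup.normalizer (D : Set G)) = MonoidHom.id _ := by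
      ext x
      simp
    rw [this, Subgroup.map_id]
  -- the image of N' in G
  let ε := (Subgroup.normalizer ((D.subgroupOf H : Subgroup H) : Set H)).equivMapOfInjective
    H.subtype H.subtype_injective
  have hε : ∀ n' : Subgroup.normalizer ((D.subgroupOf H : Subgroup H) : Set H),
      ((ε n' : (Subgroup.normalizer ((D.subgroupOf H : Subgroup H) : Set H)).map H.subtype) : G) =
        ((n' : H) : G) := fun _ => rfl
  -- from N to the image of N'
  have he1 : ∀ n : Subgroup.normalizer (D : Set G),
      (((φ.symm.trans ε) n : (Subgroup.normalizer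
        ((D.subgroupOf H : Subgroup H) : Set H)).map H.subtype) : G) = (n : G) := by
    intro n
    show ((ε (φ.symm n) : _) : G) = (n : G)
    rw [hε, ← hφ, MulEquiv.apply_symm_apply]
  have he2 : ∀ m : (Subgroup.normalizer ((D.subgroupOf H : Subgroup H) : Set H)).map H.subtype,
      (((ε.symm.trans φ) m : Subgroup.normalizer (D : Set G)) : G) = (m : G) := by
    intro m
    show ((φ (ε.symm m) : _) : G) = (m : G)
    rw [hφ, ← hε, MulEquiv.apply_symm_apply]
  refine ⟨fun c hc hDc => ?_, fun B hB hDB => ?_, fun B c c' hc hDc hcB hc' hDc' hc'B => ?_⟩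
  · obtain ⟨b', hb', hDb', hind'⟩ :=
      Cfsg.Agent.S0920.part_two_exists p M hM (D.subgroupOf H) hDHp c hc hDc
    have hb : IsPBlock M (irrMap φ '' b') := Helper77.isPBlock_image_irrMap φ hb'
    have hDb : IsDefectGroup p M (irrMap φ '' b')
        (D.subgroupOf (Subgroup.normalizer (D : Set G))) := by
      rw [← hmap1]
      exact isDefectGroup_image_irrMap p φ hDb'
    obtain ⟨B, hB, hDB, hind⟩ := Cfsg.Agent.S0920.part_one p M hM D hD _ hb hDb
    refine ⟨B, hB, hDB, ?_⟩
    have h3 := isInducedBlock_transport (M := M) (φ.symm.trans ε) he1 hind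
    rw [image_irrMap_trans, image_irrMap_symm_image_irrMap] at h3
    exact isInducedBlock_of_trans_map H _ hind' h3
  · obtain ⟨b, hb, hDb, hind⟩ := Cfsg.Agent.S0920.part_two_exists p M hM D hD B hB hDB
    have hb' : IsPBlock M (irrMap φ.symm '' b) := Helper77.isPBlock_image_irrMap φ.symm hb
    have hDb' : IsDefectGroup p M (irrMap φ.symm '' b) ((D.subgroupOf H).subgroupOf
        (Subgroup.normalizer ((D.subgroupOf H : Subgroup H) : Set H))) := by
      rw [← hmap2]
      exact isDefectGroup_image_irrMap p φ.symm hDb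
    obtain ⟨c, hc, hDc, hind'⟩ :=
      Cfsg.Agent.S0920.part_one p M hM (D.subgroupOf H) hDHp _ hb' hDb'
    refine ⟨c, hc, hDc, ?_⟩
    have h3 := isInducedBlock_transport (M := M) (φ.symm.trans ε) he1 hind
    rw [image_irrMap_trans] at h3
    exact isInducedBlock_of_trans_map H _ hind' h3
  · obtain ⟨b', hb', hDb', hind'⟩ :=
      Cfsg.Agent.S0920.part_two_exists p M hM (D.subgroupOf H) hDHp c hc hDc
    obtain ⟨b'', hb'', hDb'', hind''⟩ :=
      Cfsg.Agent.S0920.part_two_exists p M hM (D.subgroupOf H) hDHp c' hc' hDc'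
    have k1 := isInducedBlock_trans_map (M := M) H _ hind' hcB
    have k2 := isInducedBlock_trans_map (M := M) H _ hind'' hc'B
    have m1 := isInducedBlock_transport (M := M) (ε.symm.trans φ) he2 k1
    have m2 := isInducedBlock_transport (M := M) (ε.symm.trans φ) he2 k2
    rw [image_irrMap_trans, image_irrMap_symm_image_irrMap] at m1 m2
    have hb : IsPBlock M (irrMap φ '' b') := Helper77.isPBlock_image_irrMap φ hb'
    have hbb : IsPBlock M (irrMap φ '' b'') := Helper77.isPBlock_image_irrMap φ hb''
    have hDb : IsDefectGroup p M (irrMap φ '' b')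
        (D.subgroupOf (Subgroup.normalizer (D : Set G))) := by
      rw [← hmap1]
      exact isDefectGroup_image_irrMap p φ hDb'
    have hBblock : IsPBlock M B := hcB.2.1
    have heq := Cfsg.Agent.S0920.part_two_unique p M hM D hD B hBblock _ _ hb hDb m1 hbb m2
    have heq' : b'' = b' := by
      have := congrArg (fun S => irrMap φ.symm '' S) heq
      simpa only [image_irrMap_symm_image_irrMap] using this
    subst heq'
    exact Helper77.isInducedBlock_unique _ hind'' hind'

end Cfsg.Agent.Helper4.HKFM
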