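import Mathlib

/-!
# Semi-scalar operators (helper4)

An invertible operator `e` on a vector space is *semi-scalar* if `e (e v - v)` is a multiple of
`e v - v` for every `v`.  Such an operator of finite order prime to the characteristic is
diagonalisable with eigenvalues `1` and `lam`.
-/

set_option autoImplicit false

namespace Cfsg.Agent.Helper4.SemiScalar

variable {K : Type*} [Field K] {V : Type*} [AddCommGroup V] [Module K V]

/-- An operator all of whose vectors in a submodule are eigenvectors acts as a scalar there. -/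
theorem exists_scalar_of_forall_mem_span (f : V →ₗ[K] V) (U : Submodule K V)
    (h : ∀ u ∈ U, f u ∈ Submodule.span K {u}) : ∃ c : K, ∀ u ∈ U, f u = c • u := by
  by_cases hU : ∀ u ∈ U, u = 0
  · refine ⟨0, fun u hu => ?_⟩
    rw [hU u hu, map_zero, smul_zero]
  push Not at hU
  obtain ⟨u₀, hu₀U, hu₀⟩ := hU
  obtain ⟨c₀, hc₀⟩ := Submodule.mem_span_singleton.1 (h u₀ hu₀U)
  refine ⟨c₀, fun u hu => ?_⟩
  obtain ⟨c, hc⟩ := Submodule.mem_span_singleton.1 (h u hu)
  obtain ⟨d, hd⟩ := Submodule.mem_span_singleton.1 (h (u + u₀) (U.add_mem hu hu₀U))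
  rw [map_add, ← hc, ← hc₀, smul_add] at hd
  -- `(d - c) • u = (c₀ - d) • u₀`
  have h1 : (d - c) • u = (c₀ - d) • u₀ := by
    rw [sub_smul, sub_smul, sub_eq_sub_iff_add_eq_add]
    rw [add_comm (c₀ • u₀)]
    exact hd
  by_cases hdc : d = c
  · rw [hdc, sub_self, zero_smul] at h1
    have h2 : c₀ - c = 0 := by
      by_contra hne
      exact hu₀ ((smul_eq_zero.1 h1.symm).resolve_left hne)
    rw [← hc, ← sub_eq_zero.1 h2]
  · have hne : d - c ≠ 0 := sub_ne_zero.2 hdc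
    have h3 : u = ((d - c)⁻¹ * (c₀ - d)) • u₀ := by
      rw [mul_smul, ← h1, smul_smul, inv_mul_cancel₀ hne, one_smul]
    rw [h3, map_smul, ← hc₀, smul_comm]

/-- A semi-scalar operator satisfies `(e - lam)(e - 1) = 0` for some `lam`. -/
theorem exists_eigen_of_semiscalar (e : V ≃ₗ[K] V)
    (hss : ∀ v, e (e v - v) ∈ Submodule.span K {e v - v}) :
    ∃ lam : K, ∀ v, e (e v - v) = lam • (e v - v) := by
  obtain ⟨c, hc⟩ := exists_scalar_of_forall_mem_span (e : V →ₗ[K] V)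
    (LinearMap.range ((e : V →ₗ[K] V) - LinearMap.id)) (by
      rintro u ⟨v, rfl⟩
      exact hss v)
  exact ⟨c, fun v => hc _ ⟨v, rfl⟩⟩

theorem pow_apply_of_unipotent (e : V ≃ₗ[K] V) (h : ∀ v, e (e v - v) = e v - v) (n : ℕ) (v : V) :
    (e ^ n) v = v + (n : K) • (e v - v) := by
  induction n with
  | zero => simp
  | succ n ih =>
    rw [pow_succ', LinearEquiv.mul_apply, ih, map_add, map_smul, h, Nat.cast_succ, add_smul,
      one_smul]
    abel

/-- For `e` of order prime to the characteristic, `lam ≠ 1` unless `e = 1`. -/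
theorem eq_one_of_unipotent (e : V ≃ₗ[K] V) (h : ∀ v, e (e v - v) = e v - v) (n : ℕ)
    (hn : (n : K) ≠ 0) (hen : e ^ n = 1) (v : V) : e v = v := by
  have h1 := pow_apply_of_unipotent e h n v
  rw [hen] at h1
  have h1' : v = v + (n : K) • (e v - v) := h1
  have h2 : (n : K) • (e v - v) = 0 := by
    have := h1'.symm
    rwa [add_eq_left] at this
  exact sub_eq_zero.1 ((smul_eq_zero.1 h2).resolve_left hn)

/-- The eigen-decomposition `v = v₁ + v₂`. -/
theorem exists_decomp (e : V ≃ₗ[K] V) (lam : K) (hlam : lam ≠ 1)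
    (h : ∀ v, e (e v - v) = lam • (e v - v)) (v : V) :
    ∃ v₁ v₂ : V, v = v₁ + v₂ ∧ e v₁ = v₁ ∧ e v₂ = lam • v₂ := by
  have hne : lam - 1 ≠ 0 := sub_ne_zero.2 hlam
  refine ⟨v - (lam - 1)⁻¹ • (e v - v), (lam - 1)⁻¹ • (e v - v), by abel, ?_, ?_⟩
  · rw [map_sub, map_smul, h, sub_eq_sub_iff_add_eq_add]
    have : (lam - 1)⁻¹ • lam • (e v - v) = (lam - 1)⁻¹ • (e v - v) + (e v - v) := by
      have h1 : lam • (e v - v) = (lam - 1) • (e v - v) + (e v - v) := by
        rw [sub_smul, one_smul]; abel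
      rw [h1, smul_add, smul_smul, inv_mul_cancel₀ hne, one_smul, add_comm]
    rw [this]
    abel
  · rw [map_smul, h, smul_comm]

/-- Uniqueness of the eigen-decomposition. -/
theorem decomp_unique (e : V ≃ₗ[K] V) (lam : K) (hlam : lam ≠ 1) {a₁ a₂ b₁ b₂ : V}
    (ha₁ : e a₁ = a₁) (ha₂ : e a₂ = lam • a₂) (hb₁ : e b₁ = b₁) (hb₂ : e b₂ = lam • b₂)
    (h : a₁ + a₂ = b₁ + b₂) : a₁ = b₁ ∧ a₂ = b₂ := by
  have hne : lam - 1 ≠ 0 := sub_ne_zero.2 hlam
  have h1 : a₁ - b₁ = b₂ - a₂ := by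
    rw [sub_eq_sub_iff_add_eq_add]; rw [h]; abel
  have h2 : e (a₁ - b₁) = a₁ - b₁ := by rw [map_sub, ha₁, hb₁]
  have h3 : e (a₁ - b₁) = lam • (a₁ - b₁) := by rw [h1, map_sub, hb₂, ha₂, smul_sub]
  have h4 : (lam - 1) • (a₁ - b₁) = 0 := by
    rw [sub_smul, one_smul, ← h3, h2, sub_self]
  have h5 : a₁ - b₁ = 0 := (smul_eq_zero.1 h4).resolve_left hne
  refine ⟨sub_eq_zero.1 h5, ?_⟩
  rw [h5] at h1
  exact (sub_eq_zero.1 h1.symm).symm

end Cfsg.Agent.Helper4.SemiScalar
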