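import Mathlib
import Cfsg.Prelude.Def_LieTypeDatum
import Cfsg.Agent.Helper5.SpPrimitive
import Cfsg.Agent.Helper5.BalC
import Cfsg.Agent.Helper4.SemiScalarA

/-!
# `PGSp_{2m}(q)`, `q` odd, has no nontrivial normal subgroup of odd order
(helper4, for helper45's #4530 (NC-4), S2686/S2687)

`Sp` is primitive on the points of projective space (helper5), the number of points is even, so the
part of a normal "odd" subgroup inside `Sp` fixes all points, hence is scalar; and the square of a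
similitude is a scalar times a symplectic matrix.
-/

set_option autoImplicit false

namespace Cfsg.Agent.Helper4.NC

open Matrix MulAction Cfsg.Agent.Helper13 Cfsg.Agent.Helper5
open scoped LinearAlgebra.Projectivization

variable {F : Type*} [Field F] {m : ℕ}

local notation "Vec" => (Fin m ⊕ Fin m → F)
local notation "Mat" => Matrix (Fin m ⊕ Fin m) (Fin m ⊕ Fin m) F
local notation "Sp" => Matrix.symplecticGroup (Fin m) F

/-- the symplectic group inside the conformal symplectic group -/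
def spToGSp (m : ℕ) (F : Type*) [Field F] :
    Matrix.symplecticGroup (Fin m) F →* ↥(Cfsg.GSp m F) :=
  ((Matrix.symplecticGroup (Fin m) F).subtype.toHomUnits).codRestrict (Cfsg.GSp m F)
    (fun A => ⟨1, fun u v => by
      rw [Units.val_one, one_mul]
      exact (mem_symplecticGroup_iff_preserves _).1 A.2 u v⟩)

theorem spToGSp_coe (A : Sp) :
    (((spToGSp m F A : ↥(Cfsg.GSp m F)) : GL (Fin m ⊕ Fin m) F) : Mat) = (A : Mat) := rfl

/-- a matrix all of whose vectors are eigenvectors is scalar -/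
theorem exists_smul_one_of_eigen (A : Mat) (h : ∀ v : Vec, ∃ a : F, A *ᵥ v = a • v) :
    ∃ c : F, A = c • (1 : Mat) := by
  obtain ⟨c, hc⟩ := SemiScalar.exists_scalar_of_forall_mem_span (Matrix.toLin' A) ⊤ (by
    intro u _
    obtain ⟨a, ha⟩ := h u
    rw [Matrix.toLin'_apply, ha]
    exact Submodule.smul_mem _ _ (Submodule.mem_span_singleton_self u))
  refine ⟨c, ?_⟩
  apply matrix_eq_of_mulVec
  intro x
  have := hc x Submodule.mem_top
  rw [Matrix.toLin'_apply] at this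
  rw [this, Matrix.smul_mulVec, Matrix.one_mulVec]

/-- a symplectic matrix fixing all projective points is scalar -/
theorem exists_smul_one_of_fixes (A : Sp) (h : ∀ p : ℙ F Vec, A • p = p) :
    ∃ c : F, (A : Mat) = c • (1 : Mat) := by
  apply exists_smul_one_of_eigen
  intro v
  by_cases hv : v = 0
  · exact ⟨0, by rw [hv, Matrix.mulVec_zero, smul_zero]⟩
  obtain ⟨h1, h2⟩ := sp_smul_mk A hv
  rw [h (Projectivization.mk F v hv)] at h2
  obtain ⟨a, ha⟩ := (Projectivization.mk_eq_mk_iff F _ _ _ _).1 h2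
  refine ⟨((a⁻¹ : Fˣ) : F), ?_⟩
  have h3 : a⁻¹ • v = (A : Mat) *ᵥ v := inv_smul_eq_iff.2 ha.symm
  rw [← h3, Units.smul_def]

/-- a scalar symplectic matrix fixes all projective points -/
theorem smul_eq_of_smul_one (A : Sp) {c : F} (hc : (A : Mat) = c • (1 : Mat)) (p : ℙ F Vec) :
    A • p = p := by
  induction p using Projectivization.ind with | _ v hv =>
  obtain ⟨h1, h2⟩ := sp_smul_mk A hv
  rw [h2]
  have h3 : (A : Mat) *ᵥ v = c • v := by rw [hc, Matrix.smul_mulVec, Matrix.one_mulVec]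
  have hc0 : c ≠ 0 := by
    rintro rfl
    rw [zero_smul] at h3
    exact h1 h3
  rw [Projectivization.mk_eq_mk_iff]
  exact ⟨Units.mk0 c hc0, h3.symm⟩

theorem even_sum_range_two_mul (q m : ℕ) (hq : Odd q) :
    Even (∑ i ∈ Finset.range (2 * m), q ^ i) := by
  induction m with
  | zero => simp
  | succ k ih =>
    have e : 2 * (k + 1) = 2 * k + 1 + 1 := by ring
    rw [e, Finset.sum_range_succ, Finset.sum_range_succ, add_assoc]
    refine ih.add ?_
    have h1 : Odd (q ^ (2 * k)) := hq.pow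
    have h2 : Odd (q ^ (2 * k + 1)) := hq.pow
    exact h1.add_odd h2

theorem even_card_proj [Fintype F] (hodd : Odd (Fintype.card F)) :
    Even (Nat.card (ℙ F Vec)) := by
  have h : Module.finrank F Vec = 2 * m := by
    rw [Module.finrank_fintype_fun_eq_card, Fintype.card_sum, Fintype.card_fin]; ring
  rw [Projectivization.card_of_finrank F Vec h, Nat.card_eq_fintype_card]
  exact even_sum_range_two_mul _ _ hodd

/-- the square of a symplectic similitude is a scalar times a symplectic matrix -/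
theorem exists_sp_of_sq (g : ↥(Cfsg.GSp m F)) :
    ∃ (A : Sp) (z : ↥(Cfsg.GSp m F)),
      z ∈ (Cfsg.Geo.scalars (Fin m ⊕ Fin m) F).subgroupOf (Cfsg.GSp m F) ∧
      spToGSp m F A = g * g * z := by
  obtain ⟨c, hc⟩ := g.2
  -- the scalar matrix `c⁻¹`
  let zGL : GL (Fin m ⊕ Fin m) F :=
    Units.map (Matrix.scalar (Fin m ⊕ Fin m) : F →+* Mat).toMonoidHom c⁻¹
  have hzmat : (zGL : Mat) = ((c⁻¹ : Fˣ) : F) • (1 : Mat) := by
    show Matrix.scalar (Fin m ⊕ Fin m) ((c⁻¹ : Fˣ) : F) = _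
    rw [Matrix.smul_one_eq_diagonal]
    rfl
  have hzmul : ∀ v : Vec, (zGL : Mat) *ᵥ v = ((c⁻¹ : Fˣ) : F) • v := by
    intro v
    rw [hzmat, Matrix.smul_mulVec, Matrix.one_mulVec]
  have hzmem : zGL ∈ Cfsg.GSp m F := by
    refine ⟨c⁻¹ * c⁻¹, fun u v => ?_⟩
    rw [hzmul, hzmul, sympForm_smul_left, sympForm_smul_right, Units.val_mul]
    ring
  have hzs : (⟨zGL, hzmem⟩ : ↥(Cfsg.GSp m F)) ∈
      (Cfsg.Geo.scalars (Fin m ⊕ Fin m) F).subgroupOf (Cfsg.GSp m F) := by
    rw [Subgroup.mem_subgroupOf]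
    exact ⟨c⁻¹, rfl⟩
  have hpres : ∀ u v : Vec,
      Cfsg.sympForm m F ((((g : GL (Fin m ⊕ Fin m) F) : Mat) * ((g : GL (Fin m ⊕ Fin m) F) : Mat) *
          (zGL : Mat)) *ᵥ u)
        ((((g : GL (Fin m ⊕ Fin m) F) : Mat) * ((g : GL (Fin m ⊕ Fin m) F) : Mat) *
          (zGL : Mat)) *ᵥ v) = Cfsg.sympForm m F u v := by
    intro u v
    rw [← Matrix.mulVec_mulVec, ← Matrix.mulVec_mulVec, ← Matrix.mulVec_mulVec,
      ← Matrix.mulVec_mulVec, hc, hc, hzmul, hzmul, sympForm_smul_left, sympForm_smul_right]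
    have : ((c⁻¹ : Fˣ) : F) * (c : F) = 1 := by
      rw [← Units.val_mul, inv_mul_cancel, Units.val_one]
    linear_combination ((c : F) * ((c⁻¹ : Fˣ) : F) + 1) * Cfsg.sympForm m F u v * this
  have hA : (((g : GL (Fin m ⊕ Fin m) F) : Mat) * ((g : GL (Fin m ⊕ Fin m) F) : Mat) *
      (zGL : Mat)) ∈ Matrix.symplecticGroup (Fin m) F :=
    (mem_symplecticGroup_iff_preserves _).2 hpres
  refine ⟨⟨_, hA⟩, ⟨zGL, hzmem⟩, hzs, ?_⟩
  apply Subtype.ext
  apply Units.ext
  rfl

/-- the part inside `Sp` of a normal subgroup of odd order of `PGSp` is scalar -/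
theorem spToGSp_mem_scalars_of_mem [Fintype F] (hodd : Odd (Fintype.card F)) (hm : 1 ≤ m)
    (N : Subgroup (Cfsg.PGSp m F)) [hN : N.Normal] (hc : Odd (Nat.card ↥N)) (A : Sp)
    (hA : (QuotientGroup.mk (spToGSp m F A) : Cfsg.PGSp m F) ∈ N) :
    spToGSp m F A ∈ (Cfsg.Geo.scalars (Fin m ⊕ Fin m) F).subgroupOf (Cfsg.GSp m F) := by
  classical
  let φ : Sp →* Cfsg.PGSp m F :=
    (QuotientGroup.mk' ((Cfsg.Geo.scalars (Fin m ⊕ Fin m) F).subgroupOf (Cfsg.GSp m F))).comp
      (spToGSp m F)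
  let M : Subgroup Sp := N.comap φ
  have hMn : M.Normal := hN.comap φ
  have hAM : A ∈ M := hA
  -- odd powers of elements of `M` fix all points
  have key : ∀ B ∈ M, ∃ r : ℕ, Odd r ∧ ∀ p : ℙ F Vec, (B ^ r) • p = p := by
    intro B hB
    have hBN : φ B ∈ N := hB
    have h1 : orderOf (φ B) ∣ Nat.card N := by
      have := orderOf_dvd_natCard (⟨φ B, hBN⟩ : N)
      rwa [Subgroup.orderOf_mk] at this
    refine ⟨orderOf (φ B), Odd.of_dvd_nat hc h1, fun p => ?_⟩
    have h2 : φ (B ^ orderOf (φ B)) = 1 := by rw [map_pow, pow_orderOf_eq_one]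
    have h3 : spToGSp m F (B ^ orderOf (φ B)) ∈
        (Cfsg.Geo.scalars (Fin m ⊕ Fin m) F).subgroupOf (Cfsg.GSp m F) :=
      (QuotientGroup.eq_one_iff _).1 h2
    rw [Subgroup.mem_subgroupOf, Cfsg.Geo.mem_scalars_iff] at h3
    obtain ⟨c, hc'⟩ := h3
    exact smul_eq_of_smul_one _ (c := (c : F)) hc' p
  have hfix : fixedPoints M (ℙ F Vec) = Set.univ := by
    by_contra hne
    have htr : IsPretransitive M (ℙ F Vec) :=
      IsQuasiPreprimitive.isPretransitive_of_normal hne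
    have heven : Even (Nat.card (ℙ F Vec)) := even_card_proj hodd
    have hv : (Pi.single (Sum.inl ⟨0, hm⟩) 1 : Vec) ≠ 0 := by
      intro h
      have := congrFun h (Sum.inl ⟨0, hm⟩)
      simp at this
    obtain ⟨g, hg⟩ := Cfsg.Agent.Helper5.Bal.exists_odd_pow_moves (N := ↥M) (X := ℙ F Vec) heven
      (Projectivization.mk F _ hv)
    obtain ⟨r, hr, hfixr⟩ := key g.1 g.2
    obtain ⟨p, hp⟩ := hg r hr
    exact hp (hfixr p)
  have hAfix : ∀ p : ℙ F Vec, A • p = p := by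
    intro p
    have : p ∈ fixedPoints M (ℙ F Vec) := by rw [hfix]; trivial
    exact this ⟨A, hAM⟩
  obtain ⟨c, hcA⟩ := exists_smul_one_of_fixes A hAfix
  have hc0 : c ≠ 0 := by
    rintro rfl
    rw [zero_smul] at hcA
    have h1 : ((A⁻¹ * A : Sp) : Mat) = 1 := by rw [inv_mul_cancel]; rfl
    have h2 : ((A⁻¹ * A : Sp) : Mat) = (A⁻¹ : Sp).1 * (A : Mat) := rfl
    rw [h2, hcA, mul_zero] at h1
    have : (0 : Mat) (Sum.inl ⟨0, hm⟩) (Sum.inl ⟨0, hm⟩) = 1 := by rw [h1, Matrix.one_apply_eq]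
    simp at this
  rw [Subgroup.mem_subgroupOf, Cfsg.Geo.mem_scalars_iff]
  exact ⟨Units.mk0 c hc0, hcA⟩

/-- **(NC-4)** `PGSp_{2m}(F)`, `|F|` odd, has no nontrivial normal subgroup of odd order. -/
theorem noNC_PGSp [Fintype F] (hodd : Odd (Fintype.card F)) (m : ℕ) (hm : 2 ≤ m)
    (N : Subgroup (Cfsg.PGSp m F)) (hN : N.Normal) (hc : (Nat.card ↥N).Coprime 2) : N = ⊥ := by
  have hcodd : Odd (Nat.card ↥N) := Nat.coprime_two_right.1 hc
  rw [Subgroup.eq_bot_iff_forall]
  intro x hx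
  obtain ⟨g, rfl⟩ := QuotientGroup.mk_surjective x
  obtain ⟨A, z, hz, hAz⟩ := exists_sp_of_sq g
  have h1 : (QuotientGroup.mk (spToGSp m F A) : Cfsg.PGSp m F) =
      (QuotientGroup.mk g : Cfsg.PGSp m F) * QuotientGroup.mk g := by
    rw [hAz, QuotientGroup.mk_mul, QuotientGroup.mk_mul, (QuotientGroup.eq_one_iff z).2 hz, mul_one]
  have h2 : (QuotientGroup.mk (spToGSp m F A) : Cfsg.PGSp m F) ∈ N := by
    rw [h1]
    exact N.mul_mem hx hx
  have h3 := spToGSp_mem_scalars_of_mem hodd (by omega) N hcodd A h2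
  have h4 : (QuotientGroup.mk g : Cfsg.PGSp m F) * QuotientGroup.mk g = 1 := by
    rw [← h1]
    exact (QuotientGroup.eq_one_iff _).2 h3
  have h5 : orderOf (QuotientGroup.mk g : Cfsg.PGSp m F) ∣ 2 :=
    orderOf_dvd_of_pow_eq_one (by rw [pow_two, h4])
  have h6 : Odd (orderOf (QuotientGroup.mk g : Cfsg.PGSp m F)) := by
    have h7 : orderOf (QuotientGroup.mk g : Cfsg.PGSp m F) ∣ Nat.card N := by
      have := orderOf_dvd_natCard (⟨_, hx⟩ : N)
      rwa [Subgroup.orderOf_mk] at this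
    exact Odd.of_dvd_nat hcodd h7
  have h8 : orderOf (QuotientGroup.mk g : Cfsg.PGSp m F) = 1 := by
    rcases (Nat.dvd_prime Nat.prime_two).1 h5 with h | h
    · exact h
    · rw [h] at h6
      exact absurd h6 (by decide)
  exact orderOf_eq_one_iff.1 h8

end Cfsg.Agent.Helper4.NC
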