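import Mathlib
import Cfsg.Prelude.Def_Local
import Cfsg.Prelude.Def_Transfer

set_option autoImplicit false

namespace Cfsg.Agent.Helper4.OliverOR1

open Cfsg

/-- A divisor of a number that is a power of `p` or prime to `p` is again of this kind. -/
theorem ppow_or_coprime_of_dvd' {p a b : ℕ} (hp : p.Prime) (hab : a ∣ b)
    (h : (∃ m : ℕ, b = p ^ m) ∨ b.Coprime p) : (∃ m : ℕ, a = p ^ m) ∨ a.Coprime p := by
  rcases h with ⟨m, rfl⟩ | h
  · obtain ⟨k, -, rfl⟩ := (Nat.dvd_prime_pow hp).mp hab
    exact Or.inl ⟨k, rfl⟩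
  · exact Or.inr (Nat.Coprime.coprime_dvd_left hab h)

/-- For `K' ≤ K` and `H` normal, `|K' : K' ∩ H|` divides `|K : K ∩ H|`. -/
theorem relIndex_dvd_relIndex_of_le_right' {G : Type*} [Group G] {H K K' : Subgroup G}
    [H.Normal] (h : K' ≤ K) : H.relIndex K' ∣ H.relIndex K := by
  rw [← Subgroup.relIndex_subgroupOf h]
  exact Subgroup.relIndex_dvd_index_of_normal _ _

/-- An element whose order is prime to the index of a normal subgroup lies in it. -/
theorem mem_of_coprime_orderOf_index {A : Type*} [Group A] [Finite A] (M : Subgroup A)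
    [M.Normal] (a : A) (h : Nat.Coprime (orderOf a) M.index) : a ∈ M := by
  have h1 : orderOf (QuotientGroup.mk' M a) ∣ orderOf a := orderOf_map_dvd _ a
  have h2 : orderOf (QuotientGroup.mk' M a) ∣ M.index := by
    rw [Subgroup.index_eq_card]
    exact orderOf_dvd_natCard _
  have h3 : orderOf (QuotientGroup.mk' M a) ∣ 1 := by
    have h4 := Nat.dvd_gcd h1 h2
    rwa [Nat.Coprime.gcd_eq_one h] at h4
  have h5 : QuotientGroup.mk' M a = 1 := orderOf_eq_one_iff.1 (Nat.dvd_one.1 h3)
  exact (QuotientGroup.eq_one_iff a).1 h5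

theorem eq_top_of_index {A : Type*} [Group A] [Finite A] (p : ℕ) [Fact p.Prime]
    (A₀ M : Subgroup A) [M.Normal] (hle : A₀ ≤ M)
    (h1 : Subgroup.closure {α : A | ∃ k : ℕ, orderOf α = p ^ k} ⊔ A₀ = ⊤)
    (h2 : pResidual p A ⊔ A₀ = ⊤)
    (hidx : (∃ m : ℕ, M.index = p ^ m) ∨ M.index.Coprime p) : M = ⊤ := by
  rw [eq_top_iff]
  rcases hidx with ⟨m, hm⟩ | hc
  · rw [← h2]
    refine sup_le ?_ hle
    show Subgroup.closure {g : A | Nat.Coprime (orderOf g) p} ≤ M
    rw [Subgroup.closure_le]
    intro a ha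
    apply mem_of_coprime_orderOf_index
    rw [hm]
    exact Nat.Coprime.pow_right m ha
  · rw [← h1]
    refine sup_le ?_ hle
    rw [Subgroup.closure_le]
    rintro a ⟨k, hk⟩
    apply mem_of_coprime_orderOf_index
    rw [hk]
    exact Nat.Coprime.pow_left k hc.symm

theorem eq_top_of_isPSolvable {A : Type*} [Group A] [Finite A] (p : ℕ) [Fact p.Prime]
    (A₀ : Subgroup A) [A₀.Normal] (hsolv : IsPSolvable p (A ⧸ A₀))
    (h1 : Subgroup.closure {α : A | ∃ k : ℕ, orderOf α = p ^ k} ⊔ A₀ = ⊤)
    (h2 : pResidual p A ⊔ A₀ = ⊤) : A₀ = ⊤ := by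
  obtain ⟨n, H, h0, hlast, hmono, hnorm, hstep⟩ := hsolv
  have hall : ∀ i : Fin (n + 1), H i = ⊤ := by
    intro i
    induction i using Fin.reverseInduction with
    | last => exact hlast
    | cast i ih =>
      have hN : (H i.castSucc).Normal := hnorm _
      have hidx : (∃ m : ℕ, (H i.castSucc).index = p ^ m) ∨
          (H i.castSucc).index.Coprime p := by
        have h3 := hstep i
        rw [ih, Subgroup.relIndex_top_right] at h3
        exact h3
      have hM : (H i.castSucc).comap (QuotientGroup.mk' A₀) = ⊤ := by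
        have : ((H i.castSucc).comap (QuotientGroup.mk' A₀)).Normal := hN.comap _
        apply eq_top_of_index p A₀ _ ?_ h1 h2 ?_
        · intro a ha
          rw [Subgroup.mem_comap]
          have h4 : QuotientGroup.mk' A₀ a = 1 := (QuotientGroup.eq_one_iff a).2 ha
          rw [h4]
          exact Subgroup.one_mem _
        · rw [Subgroup.index_comap_of_surjective _ (QuotientGroup.mk'_surjective A₀)]
          exact hidx
      rw [eq_top_iff]
      intro q _
      obtain ⟨a, rfl⟩ := QuotientGroup.mk'_surjective A₀ q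
      have h5 : a ∈ (H i.castSucc).comap (QuotientGroup.mk' A₀) := by
        rw [hM]
        exact Subgroup.mem_top _
      exact h5
  have hbt : (⊥ : Subgroup (A ⧸ A₀)) = ⊤ := by
    rw [← h0]
    exact hall 0
  rw [eq_top_iff]
  intro a _
  have h6 : QuotientGroup.mk' A₀ a ∈ (⊥ : Subgroup (A ⧸ A₀)) := by
    rw [hbt]
    exact Subgroup.mem_top _
  rw [Subgroup.mem_bot] at h6
  exact (QuotientGroup.eq_one_iff a).1 h6

/-- `p`-solvability pulls back along an injective homomorphism. -/
theorem isPSolvable_of_injective {X Y : Type*} [Group X] [Group Y] (p : ℕ) [hp : Fact p.Prime]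
    (f : X →* Y) (hf : Function.Injective f) (h : IsPSolvable p Y) : IsPSolvable p X := by
  obtain ⟨n, K, h0, hlast, hmono, hnorm, hstep⟩ := h
  refine ⟨n, fun i => (K i).comap f, ?_, ?_, ?_, ?_, ?_⟩
  · show (K 0).comap f = ⊥
    rw [h0]
    exact (MonoidHom.ker_eq_bot_iff f).2 hf
  · show (K (Fin.last n)).comap f = ⊤
    rw [hlast]
    exact Subgroup.comap_top f
  · intro i j hij
    exact Subgroup.comap_mono (hmono hij)
  · intro i
    exact (hnorm i).comap f
  · intro i
    have hN : (K i.castSucc).Normal := hnorm _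
    have hdvd : ((K i.castSucc).comap f).relIndex ((K i.succ).comap f) ∣
        (K i.castSucc).relIndex (K i.succ) := by
      rw [Subgroup.relIndex_comap]
      exact relIndex_dvd_relIndex_of_le_right' (Subgroup.map_comap_le f _)
    exact ppow_or_coprime_of_dvd' hp.out hdvd (hstep i)

theorem isPSolvable_of_le {M : Type*} [Group M] (p : ℕ) [Fact p.Prime] {A₀ B A : Subgroup M}
    [Finite A] (h0 : A₀ ≤ B) (hBA : B ≤ A) [hn : (A₀.subgroupOf A).Normal]
    (hsolv : IsPSolvable p (↥A ⧸ A₀.subgroupOf A)) :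
    ∃ _ : (A₀.subgroupOf B).Normal, IsPSolvable p (↥B ⧸ A₀.subgroupOf B) := by
  have hnB : (A₀.subgroupOf B).Normal := by
    constructor
    intro x hx b
    rw [Subgroup.mem_subgroupOf] at hx ⊢
    have h3 := hn.conj_mem ⟨(x : M), hBA x.2⟩
      (by rw [Subgroup.mem_subgroupOf]; exact hx) ⟨(b : M), hBA b.2⟩
    rw [Subgroup.mem_subgroupOf] at h3
    simpa using h3
  refine ⟨hnB, ?_⟩
  have hle : A₀.subgroupOf B ≤ (A₀.subgroupOf A).comap (Subgroup.inclusion hBA) := by
    intro x hx
    rw [Subgroup.mem_comap, Subgroup.mem_subgroupOf]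
    rw [Subgroup.mem_subgroupOf] at hx
    simpa using hx
  apply isPSolvable_of_injective p
    (QuotientGroup.map (A₀.subgroupOf B) (A₀.subgroupOf A) (Subgroup.inclusion hBA) hle) ?_ hsolv
  rw [injective_iff_map_eq_one]
  intro q hq
  induction q using QuotientGroup.induction_on with
  | H b =>
    rw [QuotientGroup.map_mk, QuotientGroup.eq_one_iff, Subgroup.mem_subgroupOf] at hq
    rw [QuotientGroup.eq_one_iff, Subgroup.mem_subgroupOf]
    simpa using hq

end Cfsg.Agent.Helper4.OliverOR1
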