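-- helper4: piece (R0) `hyp_subgroup` of board post 5064 for helper58 (S4016): the hypothesis
-- `Hyp p` (cyclic Sylow `p`-subgroups, abelian `p'`-subgroups) passes to subgroups.
import Mathlib
import Cfsg.Agent.Helper58.PADefs

set_option autoImplicit false
set_option linter.unusedSectionVars false

namespace Cfsg.Agent.Helper4.PAR0

open Cfsg.Agent.Helper58.PA

variable {p : ℕ} [Fact p.Prime] {G : Type*} [Group G] [Finite G]

/-- **(R0)** `Hyp p` passes to subgroups. -/
theorem hyp_subgroup (hG : Hyp p G) (H : Subgroup G) : Hyp p H := by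
  refine ⟨fun P => ?_, fun L hL => ?_⟩
  · -- the image of `P` in `G` lies in a Sylow `p`-subgroup of `G`, which is cyclic
    have hp : IsPGroup p ((P : Subgroup ↥H).map H.subtype) := P.2.map H.subtype
    obtain ⟨Q, hQ⟩ := hp.exists_le_sylow
    have hc : IsCyclic ↥(Q : Subgroup G) := hG.1 Q
    let f : ↥(P : Subgroup ↥H) →* ↥(Q : Subgroup G) :=
      { toFun := fun x => ⟨((x : ↥H) : G), hQ (Subgroup.mem_map_of_mem H.subtype x.2)⟩
        map_one' := rfl
        map_mul' := fun _ _ => rfl }
    have hf : Function.Injective f := by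
      intro x y hxy
      have h1 : ((f x : ↥(Q : Subgroup G)) : G) = (f y : ↥(Q : Subgroup G)) :=
        congrArg (fun t : ↥(Q : Subgroup G) => (t : G)) hxy
      exact Subtype.ext (Subtype.ext h1)
    exact isCyclic_of_injective f hf
  · have hcard : Nat.card (L.map H.subtype) = Nat.card L :=
      Subgroup.card_map_of_injective H.subtype_injective
    have hcomm : IsMulCommutative ↥(L.map H.subtype) := hG.2 _ (by rw [hcard]; exact hL)
    rw [isMulCommutative_iff]
    intro a b
    have h1 := mul_comm' (⟨((a : ↥H) : G), Subgroup.mem_map_of_mem H.subtype a.2⟩ :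
      ↥(L.map H.subtype)) ⟨((b : ↥H) : G), Subgroup.mem_map_of_mem H.subtype b.2⟩
    have h2 : ((a : ↥H) : G) * ((b : ↥H) : G) = ((b : ↥H) : G) * ((a : ↥H) : G) :=
      congrArg (fun t : ↥(L.map H.subtype) => (t : G)) h1
    exact Subtype.ext (Subtype.ext h2)

end Cfsg.Agent.Helper4.PAR0
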