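-- helper4: piece (R1) `hyp_quotient` of board post 5064 for helper58 (S4016): the hypothesis
-- `Hyp p` (cyclic Sylow `p`-subgroups, abelian `p'`-subgroups) passes to quotients by normal
-- `p'`-subgroups.
import Mathlib
import Cfsg.Agent.Helper58.PADefs

set_option autoImplicit false

namespace Cfsg.Agent.Helper4.PAR1

open Cfsg.Agent.Helper58.PA

variable {G : Type*} [Group G] [Finite G]

/-- The preimage of a subgroup `L` of `G ⧸ N` has `#L * #N` elements. -/
theorem card_comap_mk (N : Subgroup G) [N.Normal] (L : Subgroup (G ⧸ N)) :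
    Nat.card (L.comap (QuotientGroup.mk' N)) = Nat.card L * Nat.card N := by
  have h1 := Subgroup.card_mul_index (L.comap (QuotientGroup.mk' N))
  have h2 := Subgroup.card_mul_index L
  have h3 := Subgroup.card_eq_card_quotient_mul_card_subgroup N
  rw [L.index_comap_of_surjective (QuotientGroup.mk'_surjective N)] at h1
  have hpos : 0 < L.index := Nat.pos_of_ne_zero Subgroup.index_ne_zero_of_finite
  apply Nat.eq_of_mul_eq_mul_right hpos
  rw [h1, h3, ← h2]
  ring

variable {p : ℕ} [Fact p.Prime]

/-- **(R1)** `Hyp p` passes to the quotient by a normal `p'`-subgroup. -/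
theorem hyp_quotient (hG : Hyp p G) (N : Subgroup G) [N.Normal] (hN : ¬ p ∣ Nat.card N) :
    Hyp p (G ⧸ N) := by
  refine ⟨fun P' => ?_, fun L hL => ?_⟩
  · obtain ⟨P, rfl⟩ := Sylow.mapSurjective_surjective (QuotientGroup.mk'_surjective N) p P'
    have hc : IsCyclic ↥(P : Subgroup G) := hG.1 P
    show IsCyclic ↥((P : Subgroup G).map (QuotientGroup.mk' N))
    exact isCyclic_of_surjective ((QuotientGroup.mk' N).subgroupMap (P : Subgroup G))
      ((QuotientGroup.mk' N).subgroupMap_surjective _)
  · have hcard := card_comap_mk N L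
    have hH : ¬ p ∣ Nat.card (L.comap (QuotientGroup.mk' N)) := by
      rw [hcard]
      exact Nat.Prime.not_dvd_mul Fact.out hL hN
    have hcomm : IsMulCommutative ↥(L.comap (QuotientGroup.mk' N)) := hG.2 _ hH
    have hL' : (L.comap (QuotientGroup.mk' N)).map (QuotientGroup.mk' N) = L :=
      Subgroup.map_comap_eq_self_of_surjective (QuotientGroup.mk'_surjective N) L
    rw [← hL']
    infer_instance

end Cfsg.Agent.Helper4.PAR1
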