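-- helper4: piece (SUB) `nil_or_closed_of_good` of board post 5064 for helper58 (S4016): a
-- subgroup `H` with `Good p H` is `NilSub` or `ClosedSub` in terms of subgroups of `G`.
import Mathlib
import Cfsg.Agent.Helper58.PADefs

set_option autoImplicit false

namespace Cfsg.Agent.Helper4.PASUB

open Cfsg.Agent.Helper58.PA

section generic

variable {G : Type*} [Group G]

/-- The image in `G` of a normal subgroup of `H` is normalized by `H`. -/
theorem le_normalizer_map_subtype (H : Subgroup G) (N : Subgroup ↥H) [N.Normal] :
    H ≤ Subgroup.normalizer ((N.map H.subtype : Subgroup G) : Set G) := by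
  have h1 := Subgroup.le_normalizer_map (H := N) H.subtype
  rw [Subgroup.normalizer_eq_top, ← MonoidHom.range_eq_map, Subgroup.range_subtype] at h1
  exact h1

/-- The relative index in `H` of the image of a subgroup of `H`. -/
theorem relIndex_map_subtype' (H : Subgroup G) (N : Subgroup ↥H) :
    (N.map H.subtype).relIndex H = N.index := by
  show ((N.map H.subtype).comap H.subtype).index = N.index
  rw [Subgroup.comap_map_eq_self_of_injective H.subtype_injective]

end generic

variable {p : ℕ} [Fact p.Prime] {G : Type*} [Group G] [Finite G]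

/-- **(SUB)** From `Good p ↥H` to the two alternatives stated inside `G`. -/
theorem nil_or_closed_of_good (H : Subgroup G) (h : Good p H) : NilSub p H ∨ ClosedSub p H := by
  rcases h with ⟨P, N, hN, hc⟩ | h
  · left
    have hmul : Nat.card N * Nat.card (P : Subgroup ↥H) = Nat.card ↥H := hc.card_mul_card
    have hidx : Nat.card (P : Subgroup ↥H) * (P : Subgroup ↥H).index = Nat.card ↥H :=
      Subgroup.card_mul_index _
    have hNidx : Nat.card N * N.index = Nat.card ↥H := Subgroup.card_mul_index _
    have hPpos : 0 < Nat.card (P : Subgroup ↥H) := Nat.card_pos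
    have hNpos : 0 < Nat.card N := Nat.card_pos
    have hN1 : Nat.card N = (P : Subgroup ↥H).index := by
      apply Nat.eq_of_mul_eq_mul_right hPpos
      rw [hmul, ← hidx, mul_comm]
    have hN2 : N.index = Nat.card (P : Subgroup ↥H) := by
      apply Nat.eq_of_mul_eq_mul_left hNpos
      rw [hNidx, hmul]
    refine ⟨N.map H.subtype, Subgroup.map_subtype_le N, le_normalizer_map_subtype H N, ?_, ?_⟩
    · rw [Subgroup.card_map_of_injective H.subtype_injective, hN1]
      exact P.not_dvd_index
    · obtain ⟨k, hk⟩ := (IsPGroup.iff_card.mp P.2)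
      exact ⟨k, by rw [relIndex_map_subtype', hN2, hk]⟩
  · right
    obtain ⟨P⟩ : Nonempty (Sylow p ↥H) := inferInstance
    have hPn : (P : Subgroup ↥H).Normal := h P
    refine ⟨(P : Subgroup ↥H).map H.subtype, Subgroup.map_subtype_le _,
      le_normalizer_map_subtype H _, P.2.map H.subtype, ?_⟩
    rw [relIndex_map_subtype']
    exact P.not_dvd_index

end Cfsg.Agent.Helper4.PASUB
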