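-- helper4: piece (R4) of board post 5064 for helper58 (S4016), the induction, with the pieces
-- (R2) and (R3) entering as hypotheses: a finite group with `Hyp p` is `Good p` as soon as there
-- is no minimal configuration `Ctx p`.
import Mathlib
import Cfsg.Agent.Helper58.PADefs
import Cfsg.Agent.Helper4.PAR0
import Cfsg.Agent.Helper4.PAR1
import Cfsg.Agent.Helper4.PASUB

set_option autoImplicit false

namespace Cfsg.Agent.Helper4.PAR4

open Cfsg.Agent.Helper58.PA

section generic

variable {G : Type*} [Group G]

/-- If `T` is normal in `N` and the order of `x ∈ N` is coprime to the index of `T` in `N`,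
then `x ∈ T`. -/
theorem mem_of_coprime_relIndex {T N : Subgroup G} (hTN : T ≤ N)
    (hnorm : N ≤ Subgroup.normalizer (T : Set G)) {x : G} (hx : x ∈ N)
    (hcop : (orderOf x).Coprime (T.relIndex N)) : x ∈ T := by
  have hn : (T.subgroupOf N).Normal :=
    (Subgroup.normal_subgroupOf_iff_le_normalizer hTN).mpr hnorm
  have h1 : (⟨x, hx⟩ : ↥N) ^ (T.subgroupOf N).index ∈ T.subgroupOf N :=
    Subgroup.pow_index_mem (T.subgroupOf N) ⟨x, hx⟩
  have h2 : x ^ T.relIndex N ∈ T := by
    rw [Subgroup.mem_subgroupOf] at h1
    exact h1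
  by_cases hm : orderOf x = 1
  · rw [orderOf_eq_one_iff] at hm
    rw [hm]
    exact one_mem T
  · by_cases h0 : orderOf x = 0
    · rw [h0, Nat.coprime_zero_left] at hcop
      rw [hcop, pow_one] at h2
      exact h2
    · have hlt : 1 < orderOf x := by omega
      obtain ⟨a, -, ha⟩ := Nat.exists_mul_mod_eq_one_of_coprime hcop.symm hlt
      have e : x = (x ^ T.relIndex N) ^ a := by
        rw [← pow_mul, ← pow_mod_orderOf, ha, pow_one]
      rw [e]
      exact pow_mem h2 a

/-- A subgroup `T`, normal in the normal subgroup `N`, all of whose elements have order coprime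
to the index of `T` in `N`, is normal in `G`. -/
theorem normal_of_coprime_relIndex {T N : Subgroup G} [N.Normal] (hTN : T ≤ N)
    (hnorm : N ≤ Subgroup.normalizer (T : Set G))
    (hcop : ∀ t ∈ T, (orderOf t).Coprime (T.relIndex N)) : T.Normal := by
  refine ⟨fun t ht g => ?_⟩
  have hN : g * t * g⁻¹ ∈ N := Subgroup.Normal.conj_mem inferInstance t (hTN ht) g
  have ho : orderOf (g * t * g⁻¹) = orderOf t := by
    have := orderOf_injective (MulAut.conj g).toMonoidHom (MulAut.conj g).injective t
    simpa using this
  exact mem_of_coprime_relIndex hTN hnorm hN (by rw [ho]; exact hcop t ht)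

end generic

universe u

/-- **(R4)**, with (R2) and (R3) as hypotheses. -/
theorem good_of_no_ctx_aux {p : ℕ} [Fact p.Prime]
    (R2 : ∀ (G : Type u) [Group G] [Finite G], Hyp p G → ∀ (N : Subgroup G) [N.Normal],
      ¬ p ∣ Nat.card N → N ≠ ⊥ → Good p (G ⧸ N) → Good p G)
    (R3 : ∀ (G : Type u) [Group G] [Finite G], Hyp p G →
      (∀ H : Subgroup G, H ≠ ⊤ → Good p H) →
      (∀ N : Subgroup G, N.Normal → ¬ p ∣ Nat.card N → N = ⊥) →
      ∀ (N : Subgroup G) [N.Normal], IsPGroup p N → N ≠ ⊥ → Good p G)
    (h : ∀ (G : Type u) [Group G] [Finite G], Ctx p G → False) :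
    ∀ (n : ℕ) (G : Type u) [Group G] [Finite G], Nat.card G = n → Hyp p G → Good p G := by
  intro n
  induction n using Nat.strong_induction_on with
  | _ n ih =>
  intro G _ _ hn hG
  have hp : p.Prime := Fact.out
  by_contra hbad
  -- proper subgroups are good
  have hsub : ∀ H : Subgroup G, H ≠ ⊤ → Good p H := by
    intro H hH
    have hlt : Nat.card H < n := by
      have h1 : Nat.card H ≤ Nat.card G := H.card_le_card_group
      have h2 : Nat.card H ≠ Nat.card G := fun h3 => hH ((Subgroup.card_eq_iff_eq_top H).mp h3)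
      omega
    exact ih _ hlt ↥H rfl (PAR0.hyp_subgroup hG H)
  -- no nontrivial normal `p'`-subgroup
  have hp' : ∀ N : Subgroup G, N.Normal → ¬ p ∣ Nat.card N → N = ⊥ := by
    intro N hNn hN
    by_contra hN1
    have hlt : Nat.card (G ⧸ N) < n := by
      have h1 := Subgroup.card_eq_card_quotient_mul_card_subgroup N
      have h2 : 1 < Nat.card N := (Subgroup.one_lt_card_iff_ne_bot N).mpr hN1
      have h3 : 0 < Nat.card (G ⧸ N) := Nat.card_pos
      rw [← hn, h1]
      exact lt_mul_of_one_lt_right h3 h2
    have hq : Good p (G ⧸ N) := ih _ hlt (G ⧸ N) rfl (PAR1.hyp_quotient hG N hN)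
    exact hbad (R2 G hG N hN hN1 hq)
  -- no nontrivial normal `p`-subgroup
  have hpn : ∀ N : Subgroup G, N.Normal → IsPGroup p N → N = ⊥ := by
    intro N hNn hN
    by_contra hN1
    exact hbad (R3 G hG hsub hp' N hN hN1)
  -- the minimal configuration
  have hdvd : p ∣ Nat.card G := by
    by_contra hnd
    apply hbad
    right
    intro P
    have h1 : Nat.card (P : Subgroup G) = 1 := by
      rcases P.2.card_eq_or_dvd with h1 | h1
      · exact h1
      · exact absurd (h1.trans (Subgroup.card_subgroup_dvd_card _)) hnd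
    rw [Subgroup.card_eq_one.mp h1]
    infer_instance
  have hnonab : ∃ a b : G, a * b ≠ b * a := by
    by_contra hcomm
    push Not at hcomm
    apply hbad
    right
    intro P
    refine ⟨fun t ht g => ?_⟩
    rw [hcomm g t, mul_inv_cancel_right]
    exact ht
  have hsimple : IsSimpleGroup G := by
    have hnt : Nontrivial G := by
      obtain ⟨a, b, hab⟩ := hnonab
      refine ⟨⟨a * b, b * a, hab⟩⟩
    refine { toNontrivial := hnt, eq_bot_or_eq_top_of_normal := ?_ }
    intro N hNn
    by_contra hcon
    push Not at hcon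
    obtain ⟨hN1, hN2⟩ := hcon
    rcases PASUB.nil_or_closed_of_good N (hsub N hN2) with ⟨T, hTN, hnorm, hT, k, hk⟩ |
        ⟨S, hSN, hnorm, hS, hidx⟩
    · -- `T` is normal in `G`, hence trivial, and `N` is a `p`-group
      have hTn : T.Normal := by
        refine normal_of_coprime_relIndex hTN hnorm (fun t ht => ?_)
        rw [hk]
        apply Nat.Coprime.pow_right
        have hd : orderOf t ∣ Nat.card T := by
          have := orderOf_dvd_natCard (⟨t, ht⟩ : ↥T)
          rwa [Subgroup.orderOf_mk] at this
        exact Nat.Coprime.coprime_dvd_left hd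
          ((Nat.Prime.coprime_iff_not_dvd hp).mpr hT).symm
      have hT1 : T = ⊥ := hp' T hTn hT
      rw [hT1, Subgroup.relIndex_bot_left] at hk
      exact hN1 (hpn N hNn (IsPGroup.of_card hk))
    · -- `S` is normal in `G`, hence trivial, and `N` is a `p'`-group
      have hSn : S.Normal := by
        refine normal_of_coprime_relIndex hSN hnorm (fun t ht => ?_)
        obtain ⟨j, hj⟩ := hS ⟨t, ht⟩
        have hd : orderOf t ∣ p ^ j := by
          apply orderOf_dvd_of_pow_eq_one
          have := congrArg Subtype.val hj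
          simpa using this
        obtain ⟨i, -, hi⟩ := (Nat.dvd_prime_pow hp).mp hd
        rw [hi]
        exact Nat.Coprime.pow_left i ((Nat.Prime.coprime_iff_not_dvd hp).mpr hidx)
      have hS1 : S = ⊥ := hpn S hSn hS
      rw [hS1, Subgroup.relIndex_bot_left] at hidx
      exact hN1 (hp' N hNn hidx)
  exact h G ⟨hsimple, hnonab, hdvd, hG, fun H hH => PASUB.nil_or_closed_of_good H (hsub H hH)⟩

end Cfsg.Agent.Helper4.PAR4
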