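-- helper4: piece (R3) `good_of_normal_p` of board post 5064 for helper58 (S4016): a group with
-- `Hyp p`, all of whose proper subgroups are `Good`, without nontrivial normal `p'`-subgroups
-- and with a nontrivial normal `p`-subgroup, is `Good`.
import Mathlib
import Cfsg.Agent.Helper58.PADefs
import Cfsg.Agent.Helper11.PACYC
import Cfsg.Agent.Helper91.PAR2
import Cfsg.Agent.Helper4.PASUB
import Cfsg.Agent.Helper4.PAR4Aux

set_option autoImplicit false

namespace Cfsg.Agent.Helper4.PAR3

open Cfsg.Agent.Helper58.PA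

/-- In a finite cyclic group, the elements with `y ^ p = 1` are the powers of an element of
order `p`. -/
theorem mem_zpowers_of_pow_eq_one {A : Type*} [Group A] [Finite A] [IsCyclic A] {p : ℕ}
    (hp : p.Prime) {x y : A} (hx : orderOf x = p) (hy : y ^ p = 1) :
    y ∈ Subgroup.zpowers x := by
  classical
  have := Fintype.ofFinite A
  by_contra hyx
  have hle := IsCyclic.card_pow_eq_one_le (α := A) (n := p) hp.pos
  have hT : (Finset.image (fun i : ℕ => x ^ i) (Finset.range p)).card = p := by
    rw [Finset.card_image_of_injOn, Finset.card_range]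
    intro i hi j hj hij
    have hi' : i ∈ Set.Iio (orderOf x) := by
      rw [hx]; exact Finset.mem_range.mp hi
    have hj' : j ∈ Set.Iio (orderOf x) := by
      rw [hx]; exact Finset.mem_range.mp hj
    exact pow_injOn_Iio_orderOf hi' hj' hij
  have hnot : y ∉ Finset.image (fun i : ℕ => x ^ i) (Finset.range p) := by
    intro hmem
    obtain ⟨i, -, rfl⟩ := Finset.mem_image.mp hmem
    exact hyx (Subgroup.pow_mem _ (Subgroup.mem_zpowers x) i)
  have hcard : (insert y (Finset.image (fun i : ℕ => x ^ i) (Finset.range p))).card ≤ p := by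
    refine le_trans (Finset.card_le_card ?_) hle
    intro a ha
    rw [Finset.mem_insert] at ha
    rw [Finset.mem_filter]
    refine ⟨Finset.mem_univ _, ?_⟩
    rcases ha with rfl | ha
    · exact hy
    · obtain ⟨i, -, rfl⟩ := Finset.mem_image.mp ha
      rw [← pow_mul, mul_comm, pow_mul, ← hx, pow_orderOf_eq_one, one_pow]
  rw [Finset.card_insert_of_notMem hnot, hT] at hcard
  omega

variable {p : ℕ} [Fact p.Prime] {G : Type*} [Group G] [Finite G]

/-- A normal Sylow `p`-subgroup gives `Good`. -/
theorem good_of_sylow_normal (P : Sylow p G) (hPn : (P : Subgroup G).Normal) : Good p G := by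
  right
  intro Q
  have := Sylow.unique_of_normal P hPn
  rw [Subsingleton.elim Q P]
  exact hPn

/-- **(R3)** -/
theorem good_of_normal_p (hG : Hyp p G) (hsub : ∀ H : Subgroup G, H ≠ ⊤ → Good p H)
    (hp' : ∀ N : Subgroup G, N.Normal → ¬ p ∣ Nat.card N → N = ⊥) (N : Subgroup G) [N.Normal]
    (hN : IsPGroup p N) (hN1 : N ≠ ⊥) : Good p G := by
  have hp : p.Prime := Fact.out
  obtain ⟨P, hNP⟩ := hN.exists_le_sylow
  have hcyc : IsCyclic ↥(P : Subgroup G) := hG.1 P
  have hcomm : ∀ a ∈ (P : Subgroup G), ∀ b ∈ (P : Subgroup G), a * b = b * a := by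
    intro a ha b hb
    let _ := IsCyclic.commGroup (α := ↥(P : Subgroup G))
    exact congrArg Subtype.val (mul_comm (⟨a, ha⟩ : ↥(P : Subgroup G)) ⟨b, hb⟩)
  -- an element of order `p` in `N`
  have hdvd : p ∣ Nat.card N := by
    rcases hN.card_eq_or_dvd with h1 | h1
    · exact absurd (Subgroup.card_eq_one.mp h1) hN1
    · exact h1
  obtain ⟨x', hx'⟩ := exists_prime_orderOf_dvd_card' (G := ↥N) p hdvd
  obtain ⟨x, hxN⟩ := x'
  have hxo : orderOf x = p := by
    rw [← hx', Subgroup.orderOf_mk]
  have hxP : x ∈ (P : Subgroup G) := hNP hxN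
  have hx1 : x ≠ 1 := by
    intro h1
    rw [h1, orderOf_one] at hxo
    exact hp.one_lt.ne hxo
  have hxp : x ^ p = 1 := by rw [← hxo]; exact pow_orderOf_eq_one x
  -- `W = zpowers x` is normal in `G`
  have hconjx : ∀ g : G, g * x * g⁻¹ ∈ Subgroup.zpowers x := by
    intro g
    have h1 : g * x * g⁻¹ ∈ (P : Subgroup G) :=
      hNP (Subgroup.Normal.conj_mem inferInstance x hxN g)
    have h2 : (g * x * g⁻¹) ^ p = 1 := by
      rw [conj_pow, hxp, mul_one, mul_inv_cancel]
    have h3 : (⟨g * x * g⁻¹, h1⟩ : ↥(P : Subgroup G)) ∈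
        Subgroup.zpowers (⟨x, hxP⟩ : ↥(P : Subgroup G)) := by
      apply mem_zpowers_of_pow_eq_one hp
      · rw [Subgroup.orderOf_mk]; exact hxo
      · exact Subtype.ext h2
    obtain ⟨k, hk⟩ := Subgroup.mem_zpowers_iff.mp h3
    rw [Subgroup.mem_zpowers_iff]
    refine ⟨k, ?_⟩
    have := congrArg Subtype.val hk
    simpa using this
  have hWn : (Subgroup.zpowers x).Normal := by
    refine ⟨fun w hw g => ?_⟩
    obtain ⟨k, rfl⟩ := Subgroup.mem_zpowers_iff.mp hw
    rw [← conj_zpow]
    exact Subgroup.zpow_mem _ (hconjx g) k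
  -- `C = C_G(W)` is normal and contains `P`
  have hCn : (Subgroup.centralizer ((Subgroup.zpowers x : Subgroup G) : Set G)).Normal :=
    Subgroup.normal_centralizer
  have hWP : Subgroup.zpowers x ≤ (P : Subgroup G) := by
    rw [Subgroup.zpowers_le]; exact hxP
  have hPC : (P : Subgroup G) ≤
      Subgroup.centralizer ((Subgroup.zpowers x : Subgroup G) : Set G) := by
    intro y hy
    rw [Subgroup.mem_centralizer_iff]
    intro w hw
    exact hcomm w (hWP hw) y hy
  by_cases hC : Subgroup.centralizer ((Subgroup.zpowers x : Subgroup G) : Set G) = ⊤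
  · -- `x` is central: Burnside
    have hxc : ∀ g : G, g * x = x * g := by
      intro g
      have hg : g ∈ Subgroup.centralizer ((Subgroup.zpowers x : Subgroup G) : Set G) := by
        rw [hC]; exact Subgroup.mem_top g
      rw [Subgroup.mem_centralizer_iff] at hg
      exact (hg x (Subgroup.mem_zpowers x)).symm
    have hc : Subgroup.normalizer ((P : Subgroup G) : Set G) ≤
        Subgroup.centralizer ((P : Subgroup G) : Set G) := by
      by_contra hc
      obtain ⟨g, hgM, hgc⟩ := SetLike.not_le_iff_exists.mp hc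
      obtain ⟨h, hhM, hcop, hhc⟩ :=
        Cfsg.Agent.Helper91.PAR2.exists_p'_not_cent P hcomm g hgM hgc
      apply hhc
      rw [Subgroup.mem_centralizer_iff]
      intro y hy
      exact (Cfsg.Agent.Helper11.PACYC.cyclic_coprime_centralizes (P : Subgroup G) P.2 hcyc h hhM
        hcop x hxP hx1 (hxc h) y hy).symm
    left
    exact ⟨P, (MonoidHom.transferSylow P hc).ker, MonoidHom.normal_ker _,
      MonoidHom.ker_transferSylow_isComplement' P hc⟩
  · -- `C` is a proper normal subgroup
    have hPpow : ∀ y ∈ (P : Subgroup G), ∃ i : ℕ, orderOf y = p ^ i := by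
      intro y hy
      obtain ⟨j, hj⟩ := P.2 ⟨y, hy⟩
      have hd : orderOf y ∣ p ^ j := by
        apply orderOf_dvd_of_pow_eq_one
        have := congrArg Subtype.val hj
        simpa using this
      obtain ⟨i, -, hi⟩ := (Nat.dvd_prime_pow hp).mp hd
      exact ⟨i, hi⟩
    rcases PASUB.nil_or_closed_of_good _ (hsub _ hC) with ⟨T, hTC, hnorm, hT, k, hk⟩ |
        ⟨S, hSC, hnorm, hS, hidx⟩
    · have hTn : T.Normal := by
        refine PAR4.normal_of_coprime_relIndex hTC hnorm (fun t ht => ?_)
        rw [hk]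
        apply Nat.Coprime.pow_right
        have hd : orderOf t ∣ Nat.card T := by
          have := orderOf_dvd_natCard (⟨t, ht⟩ : ↥T)
          rwa [Subgroup.orderOf_mk] at this
        exact Nat.Coprime.coprime_dvd_left hd
          ((Nat.Prime.coprime_iff_not_dvd hp).mpr hT).symm
      have hT1 : T = ⊥ := hp' T hTn hT
      rw [hT1, Subgroup.relIndex_bot_left] at hk
      have hCp : IsPGroup p
          ↥(Subgroup.centralizer ((Subgroup.zpowers x : Subgroup G) : Set G)) :=
        IsPGroup.of_card hk
      have hCP : Subgroup.centralizer ((Subgroup.zpowers x : Subgroup G) : Set G) =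
          (P : Subgroup G) := P.3 hCp hPC
      exact good_of_sylow_normal P (hCP ▸ hCn)
    · have hSn : S.Normal := by
        refine PAR4.normal_of_coprime_relIndex hSC hnorm (fun t ht => ?_)
        obtain ⟨j, hj⟩ := hS ⟨t, ht⟩
        have hd : orderOf t ∣ p ^ j := by
          apply orderOf_dvd_of_pow_eq_one
          have := congrArg Subtype.val hj
          simpa using this
        obtain ⟨i, -, hi⟩ := (Nat.dvd_prime_pow hp).mp hd
        rw [hi]
        exact Nat.Coprime.pow_left i ((Nat.Prime.coprime_iff_not_dvd hp).mpr hidx)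
      have hPS : (P : Subgroup G) ≤ S := by
        intro y hy
        obtain ⟨i, hi⟩ := hPpow y hy
        refine PAR4.mem_of_coprime_relIndex hSC hnorm (hPC hy) ?_
        rw [hi]
        exact Nat.Coprime.pow_left i ((Nat.Prime.coprime_iff_not_dvd hp).mpr hidx)
      have hSP : S = (P : Subgroup G) := P.3 hS hPS
      exact good_of_sylow_normal P (hSP ▸ hSn)

end Cfsg.Agent.Helper4.PAR3
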