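-- helper4: piece (R4) `good_of_no_ctx` of board post 5064 for helper58 (S4016): the reduction
-- of S4016 to the minimal configuration `Ctx p`.
import Mathlib
import Cfsg.Agent.Helper58.PADefs
import Cfsg.Agent.Helper91.PAR2
import Cfsg.Agent.Helper4.PAR3
import Cfsg.Agent.Helper4.PAR4Aux

set_option autoImplicit false

namespace Cfsg.Agent.Helper4.PAR4

open Cfsg.Agent.Helper58.PA

/-- **(R4)** If no finite group (in the universe `u`) is a minimal configuration `Ctx p`, then
every finite group with `Hyp p` is `Good p`. -/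
theorem good_of_no_ctx.{u} {p : ℕ} [Fact p.Prime]
    (h : ∀ (G : Type u) [Group G] [Finite G], Ctx p G → False) (G : Type u) [Group G] [Finite G]
    (hG : Hyp p G) : Good p G :=
  good_of_no_ctx_aux
    (fun _ _ _ hG N _ hN hN1 hq => Cfsg.Agent.Helper91.PAR2.good_of_normal_p' hG N hN hN1 hq)
    (fun _ _ _ hG hsub hp' N _ hN hN1 => PAR3.good_of_normal_p hG hsub hp' N hN hN1)
    h (Nat.card G) G rfl hG

end Cfsg.Agent.Helper4.PAR4
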