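-- helper4: piece (EXT) `exists_ree_extension` of board post 5296 for helper6 (S2358): the small
-- Ree group over `K`, `|K| = 3^(2m+1)`, embeds into the one over the cubic extension of `K`.
import Mathlib
import Cfsg.Prelude.Def_LieTwisted
import Cfsg.Agent.Helper18.ScalarExt

set_option autoImplicit false

namespace Cfsg.Agent.Helper4.ReeExt

open Cfsg Cfsg.Lie

section Map

variable {K K' : Type*} [Field K] [Field K']

/-- apply a ring homomorphism to the parameters of a word -/
def wmap (f : K →+* K') (w : List (ℕ × K)) : List (ℕ × K') := w.map fun p => (p.1, f p.2)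

theorem wordMat_map (f : K →+* K') (w : List (ℕ × K)) :
    (chevG2.wordMat K w).map f = chevG2.wordMat K' (wmap f w) := by
  unfold ChevalleyDatum.wordMat wmap
  rw [← RingHom.mapMatrix_apply, map_list_prod, List.map_map, List.map_map]
  congr 1
  apply List.map_congr_left
  intro p _
  simp only [Function.comp_apply, RingHom.mapMatrix_apply]
  exact Cfsg.Agent.Helper18.x_map' chevG2 f p.1 p.2

/-- The image of the word `reeWordU e t u v`, when `f` intertwines `(·)^e` and `(·)^e'`. -/
theorem reeWordU_map (f : K →+* K') (e e' : ℕ) (he : ∀ x : K, f x ^ e' = f (x ^ e)) (t u v : K) :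
    wmap f (reeWordU e t u v) = reeWordU e' (f t) (f u) (f v) := by
  have h1 : f t ^ (e' + 1) = f (t ^ (e + 1)) := by
    rw [pow_succ, he, pow_succ, map_mul]
  have h2 : f t ^ (2 * e' + 1) = f (t ^ (2 * e + 1)) := by
    have e1 : f t ^ (2 * e' + 1) = (f t ^ e') ^ 2 * f t := by ring
    rw [e1, he, ← map_pow, ← map_mul]
    congr 1
    ring
  simp only [wmap, reeWordU, List.map_cons, List.map_nil, map_add, he, h1, h2]

theorem negWord_map (f : K →+* K') (w : List (ℕ × K)) :
    wmap f (chevG2.negWord w) = chevG2.negWord (wmap f w) := by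
  simp only [wmap, ChevalleyDatum.negWord, List.map_map]
  apply List.map_congr_left
  intro p _
  simp only [Function.comp_apply, map_neg]

theorem reeWordV_map (f : K →+* K') (e e' : ℕ) (he : ∀ x : K, f x ^ e' = f (x ^ e)) (t u v : K) :
    wmap f (reeWordV e t u v) = reeWordV e' (f t) (f u) (f v) := by
  unfold reeWordV
  rw [negWord_map, reeWordU_map f e e' he]

/-- entrywise ring homomorphisms intertwining the twists map `²G₂` into `²G₂` -/
theorem map_mem_twistedG2 (f : K →+* K') (e e' : ℕ) (he : ∀ x : K, f x ^ e' = f (x ^ e))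
    {g : GL chevG2.Idx K} (hg : g ∈ twistedG2 K e) :
    Matrix.GeneralLinearGroup.map f g ∈ twistedG2 K' e' := by
  have hle : twistedG2 K e ≤ (twistedG2 K' e').comap (Matrix.GeneralLinearGroup.map f) := by
    unfold twistedG2 ChevalleyDatum.genSubgroup
    rw [Subgroup.closure_le]
    rintro g ⟨w, hw, hg⟩
    rw [SetLike.mem_coe, Subgroup.mem_comap]
    apply Subgroup.subset_closure
    refine ⟨wmap f w, ?_, ?_⟩
    · obtain ⟨t, u, v, rfl | rfl⟩ := hw
      · exact ⟨f t, f u, f v, Or.inl (reeWordU_map f e e' he t u v)⟩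
      · exact ⟨f t, f u, f v, Or.inr (reeWordV_map f e e' he t u v)⟩
    · rw [← wordMat_map, ← hg]
      ext i j
      rw [Matrix.GeneralLinearGroup.map_apply, Matrix.map_apply]
  exact hle hg

theorem glMap_injective (f : K →+* K') {n : Type*} [Fintype n] [DecidableEq n] :
    Function.Injective (Matrix.GeneralLinearGroup.map (n := n) f) := by
  intro g h hgh
  apply Units.ext
  ext i j
  have := congrArg (fun z : GL n K' => z i j) hgh
  simp only [Matrix.GeneralLinearGroup.map_apply] at this
  exact f.injective this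

end Map

theorem charP_three {K : Type*} [Field K] [Fintype K] {m : ℕ}
    (hK : Fintype.card K = 3 ^ (2 * m + 1)) : CharP K 3 := by
  obtain ⟨r, hr⟩ := CharP.exists K
  have := hr
  obtain ⟨n, hrp, hn⟩ := FiniteField.card K r
  have h1 : r ∣ 3 ^ (2 * m + 1) := by
    rw [← hK, hn]
    exact dvd_pow_self r n.ne_zero
  have h2 : r ∣ 3 := hrp.dvd_of_dvd_pow h1
  have h3 : r = 3 := (Nat.prime_dvd_prime_iff_eq hrp Nat.prime_three).mp h2
  rw [← h3]
  exact hr

/-- **(EXT)** -/
theorem exists_ree_extension {K : Type*} [Field K] [Fintype K] {m : ℕ}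
    (hK : Fintype.card K = 3 ^ (2 * m + 1)) :
    ∃ (K' : Type) (_ : Field K') (_ : Fintype K')
      (ι : ↥(twistedG2 K (3 ^ m)) →* ↥(twistedG2 K' (3 ^ (3 * m + 1)))),
      Fintype.card K' = 3 ^ (2 * (3 * m + 1) + 1) ∧ Function.Injective ι := by
  have : Fact (Nat.Prime 3) := ⟨Nat.prime_three⟩
  have : CharP K 3 := charP_three hK
  let K' := FiniteField.Extension K 3 3
  let _ : Fintype K' := Fintype.ofFinite K'
  let f : K →+* K' := algebraMap K K'
  have he : ∀ x : K, f x ^ (3 ^ (3 * m + 1)) = f (x ^ (3 ^ m)) := by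
    intro x
    have h1 : x ^ (3 ^ (3 * m + 1)) = x ^ (3 ^ m) := by
      have e1 : 3 ^ (3 * m + 1) = 3 ^ m * 3 ^ (2 * m + 1) := by
        rw [← pow_add]; congr 1; ring
      rw [e1, pow_mul, ← hK, FiniteField.pow_card]
    rw [← map_pow, h1]
  let Φ : GL chevG2.Idx K →* GL chevG2.Idx K' := Matrix.GeneralLinearGroup.map f
  let ι : ↥(twistedG2 K (3 ^ m)) →* ↥(twistedG2 K' (3 ^ (3 * m + 1))) :=
    (Φ.comp (twistedG2 K (3 ^ m)).subtype).codRestrict (twistedG2 K' (3 ^ (3 * m + 1)))
      (fun g => map_mem_twistedG2 f (3 ^ m) (3 ^ (3 * m + 1)) he g.2)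
  refine ⟨K', inferInstance, inferInstance, ι, ?_, ?_⟩
  · rw [Fintype.card_eq_nat_card, FiniteField.natCard_extension, ← Fintype.card_eq_nat_card, hK,
      ← pow_mul]
    congr 1
    ring
  · intro a b hab
    have h1 : Φ (a : GL chevG2.Idx K) = Φ (b : GL chevG2.Idx K) :=
      congrArg (fun z : ↥(twistedG2 K' (3 ^ (3 * m + 1))) => (z : GL chevG2.Idx K')) hab
    exact Subtype.ext (glMap_injective f h1)

end Cfsg.Agent.Helper4.ReeExt
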