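import Cfsg.Agent.Helper4.SPS0a

/-!
Pieces (S0h), (S0j), (S0k) for helper6's S2347 (board #8058): identities between Heisenberg
elements and transvections, all checked on vectors.
-/

set_option autoImplicit false

namespace Cfsg.Agent.Helper4.SPrep

open Matrix Cfsg.Agent.Helper13 Cfsg.Agent.Helper5 Module
open Cfsg.Agent.Helper6.SPrep

variable {F : Type*} [Field F] {m : ℕ}

local notation "Vec" => (Fin m ⊕ Fin m → F)
local notation "⟪" x ", " y "⟫" => Cfsg.sympForm m F x y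

/-- (S0h) -/
theorem eiW_comm_tvW (W : Submodule F (Fin m ⊕ Fin m → F)) (u y : Vec) (hu : u ∈ W)
    (hy : y ∈ W) (hyu : ⟪y, u⟫ = 0) (c s : F) :
    eiW W u y hu hy c * tvW W u hu s = tvW W u hu s * eiW W u y hu hy c := by
  have huy : ⟪u, y⟫ = 0 := by rw [sympForm_swap, hyu, neg_zero]
  apply spW_ext
  intro x
  rw [spMat_mul, spMat_mul, ← Matrix.mulVec_mulVec, ← Matrix.mulVec_mulVec,
    spMat_tvW_mulVec, spMat_eiW_mulVec W u y hu hy hyu, spMat_eiW_mulVec W u y hu hy hyu,
    spMat_tvW_mulVec]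
  simp only [sympForm_add_left, sympForm_smul_left,
    sympForm_self, hyu, huy, mul_zero, add_zero]
  module

/-- (S0j) product of Heisenberg elements -/
theorem eiW_mul (W : Submodule F (Fin m ⊕ Fin m → F)) (u y y' : Vec) (hu : u ∈ W)
    (hy : y ∈ W) (hy' : y' ∈ W) (hyu : ⟪y, u⟫ = 0) (hy'u : ⟪y', u⟫ = 0) (c c' : F) :
    eiW W u y hu hy c * eiW W u y' hu hy' c' =
      eiW W u (y + y') hu (W.add_mem hy hy') (c + c' + ⟪y', y⟫) := by
  have huy : ⟪u, y⟫ = 0 := by rw [sympForm_swap, hyu, neg_zero]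
  have huy' : ⟪u, y'⟫ = 0 := by rw [sympForm_swap, hy'u, neg_zero]
  have hyyu : ⟪y + y', u⟫ = 0 := by rw [sympForm_add_left, hyu, hy'u, add_zero]
  apply spW_ext
  intro x
  rw [spMat_mul, ← Matrix.mulVec_mulVec, spMat_eiW_mulVec W u y' hu hy' hy'u,
    spMat_eiW_mulVec W u y hu hy hyu, spMat_eiW_mulVec W u (y + y') hu _ hyyu]
  simp only [sympForm_add_left, sympForm_add_right, sympForm_smul_left,
    sympForm_self, hyu, huy, hy'u, huy', mul_zero, add_zero]
  module

/-- (S0k) a transvection with direction in the span of two orthogonal vectors -/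
theorem tvW_add_smul (W : Submodule F (Fin m ⊕ Fin m → F)) (u v : Vec) (hu : u ∈ W)
    (hv : v ∈ W) (huv : ⟪u, v⟫ = 0) (r s t : F) :
    tvW W (r • u + s • v) (W.add_mem (W.smul_mem r hu) (W.smul_mem s hv)) t =
      tvW W u hu (t * r ^ 2) * tvW W v hv (t * s ^ 2) *
        eiW W u ((t * r * s) • v) hu (W.smul_mem _ hv) 0 := by
  have hvu : ⟪v, u⟫ = 0 := by rw [sympForm_swap, huv, neg_zero]
  have hyu : ⟪(t * r * s) • v, u⟫ = 0 := by rw [sympForm_smul_left, hvu, mul_zero]
  apply spW_ext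
  intro x
  rw [spMat_mul, spMat_mul, ← Matrix.mulVec_mulVec, ← Matrix.mulVec_mulVec,
    spMat_eiW_mulVec W u _ hu _ hyu, spMat_tvW_mulVec, spMat_tvW_mulVec, spMat_tvW_mulVec]
  simp only [sympForm_add_left, sympForm_add_right, sympForm_smul_left, sympForm_smul_right,
    sympForm_self, hvu, huv, mul_zero, add_zero, zero_mul, zero_add]
  module

end Cfsg.Agent.Helper4.SPrep
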