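import Cfsg.Agent.Helper6.SPrep2

/-!
Piece (S0a) for helper6's S2347 (board #8058): the action of the Heisenberg element `eiW` on vectors.
-/

set_option autoImplicit false

namespace Cfsg.Agent.Helper4.SPrep

open Matrix Cfsg.Agent.Helper13 Cfsg.Agent.Helper5 Module
open Cfsg.Agent.Helper6.SPrep

variable {F : Type*} [Field F] {m : ℕ}

local notation "Vec" => (Fin m ⊕ Fin m → F)
local notation "⟪" x ", " y "⟫" => Cfsg.sympForm m F x y

/-- (S0a) -/
theorem spMat_eiW_mulVec (W : Submodule F (Fin m ⊕ Fin m → F)) (u y : Vec) (hu : u ∈ W)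
    (hy : y ∈ W) (hyu : ⟪y, u⟫ = 0) (c : F) (x : Vec) :
    spMat (eiW W u y hu hy c) *ᵥ x =
      x + ⟪x, u⟫ • y + ⟪x, y⟫ • u + (c * ⟪x, u⟫) • u := by
  have huy : ⟪u, y⟫ = 0 := by rw [sympForm_swap, hyu, neg_zero]
  unfold eiW
  rw [spMat_mul, spMat_mul, ← Matrix.mulVec_mulVec, ← Matrix.mulVec_mulVec,
    spMat_tvW_mulVec, spMat_tvW_mulVec, spMat_tvW_mulVec]
  simp only [sympForm_add_left, sympForm_add_right, sympForm_smul_left,
    sympForm_self, hyu, huy, mul_zero, add_zero, one_mul]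
  module

end Cfsg.Agent.Helper4.SPrep
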