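import Mathlib

/-!
# TI Sylow subgroups and small-degree representations (helper4)

`commutant_of_ti_sylow`: if `P` is a TI Sylow `p`-subgroup of `G` and `ρ` is a complex
representation of degree `n` with `n ^ 2 ≤ |P|`, every endomorphism commuting with `N_G(P)`
commutes with `G`.  The proof is the lattice argument over a valuation subring of `ℂ` whose
maximal ideal contains `p`: the orbit map has a free `kP`-summand modulo the maximal ideal.
-/

set_option autoImplicit false
set_option linter.style.haveILetI false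
set_option linter.unusedSimpArgs false
set_option linter.unusedTactic false

namespace Cfsg.Agent.Helper4

open scoped BigOperators Pointwise

/-- In the group algebra `k[P]` of a `p`-group over a field of characteristic `p`, every nonzero
left ideal contains the sum of all group elements (stated with functions). -/
theorem exists_conv_eq_one {p : ℕ} [Fact p.Prime] {P : Type*} [Group P] [Fintype P]
    (hP : IsPGroup p P) {k : Type*} [Field k] [CharP k p] (c : P → k) (hc : c ≠ 0) :
    ∃ b : P → k, ∀ x : P, ∑ y : P, b y * c (y⁻¹ * x) = 1 := by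
  classical
  letI : Algebra (ZMod p) k := ZMod.algebra k p
  -- translation
  let τ : P → (P → k) →ₗ[ZMod p] (P → k) := fun y => LinearMap.funLeft (ZMod p) k (fun x => y⁻¹ * x)
  have hτ : ∀ y f x, τ y f x = f (y⁻¹ * x) := fun y f x => rfl
  let A : Submodule (ZMod p) (P → k) := Submodule.span (ZMod p) (Set.range fun y => τ y c)
  have hAstab : ∀ y : P, ∀ f ∈ A, τ y f ∈ A := by
    intro y f hf
    have : A.map (τ y) ≤ A := by
      rw [Submodule.map_span]
      apply Submodule.span_mono
      rintro _ ⟨_, ⟨z, rfl⟩, rfl⟩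
      refine ⟨y * z, ?_⟩
      funext x
      simp only [hτ]
      congr 1
      group
    exact this ⟨f, hf, rfl⟩
  haveI : Module.Finite (ZMod p) A := Module.Finite.span_of_finite _ (Set.finite_range _)
  haveI : Finite A := Module.finite_of_finite (ZMod p)
  letI : MulAction P A :=
    { smul := fun y f => ⟨τ y f.1, hAstab y f.1 f.2⟩
      one_smul := by
        intro f
        apply Subtype.ext
        funext x
        show τ 1 f.1 x = f.1 x
        simp [hτ]
      mul_smul := by
        intro y z f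
        apply Subtype.ext
        funext x
        show τ (y * z) f.1 x = τ y (τ z f.1) x
        simp only [hτ]
        congr 1
        group }
  have hsmul : ∀ (y : P) (f : A), ((y • f : A) : P → k) = τ y f.1 := fun y f => rfl
  have hcA : c ∈ A := by
    apply Submodule.subset_span
    refine ⟨1, ?_⟩
    funext x
    simp [hτ]
  have h0 : (0 : A) ∈ MulAction.fixedPoints P A := by
    intro y
    apply Subtype.ext
    rw [hsmul]
    simp
  have hdvd : p ∣ Nat.card A := by
    have h1 : addOrderOf (⟨c, hcA⟩ : A) = p := by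
      apply addOrderOf_eq_prime
      · apply Subtype.ext
        funext x
        simp [CharP.cast_eq_zero k p]
      · intro h
        apply hc
        exact congrArg Subtype.val h
    have h2 := addOrderOf_dvd_natCard (⟨c, hcA⟩ : A)
    rwa [h1] at h2
  obtain ⟨f, hf, hf0⟩ := hP.exists_fixed_point_of_prime_dvd_card_of_fixed_point A hdvd h0
  -- f is constant
  have hconst : ∀ x : P, f.1 x = f.1 1 := by
    intro x
    have := congrArg Subtype.val (hf x⁻¹)
    rw [hsmul] at this
    have h2 := congrFun this 1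
    rw [hτ] at h2
    simpa using h2
  have hf1 : f.1 1 ≠ 0 := by
    intro h
    apply hf0
    apply Subtype.ext
    funext x
    rw [hconst x, h]
    rfl
  obtain ⟨a, ha⟩ := (Submodule.mem_span_range_iff_exists_fun (ZMod p)).mp f.2
  refine ⟨fun y => (f.1 1)⁻¹ * algebraMap (ZMod p) k (a y), fun x => ?_⟩
  have h3 := congrFun ha x
  rw [Finset.sum_apply] at h3
  have h4 : ∑ y : P, algebraMap (ZMod p) k (a y) * c (y⁻¹ * x) = f.1 1 := by
    rw [← hconst x, ← h3]
    apply Finset.sum_congr rfl
    intro y _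
    rw [Pi.smul_apply, hτ, Algebra.smul_def]
  calc ∑ y : P, (f.1 1)⁻¹ * algebraMap (ZMod p) k (a y) * c (y⁻¹ * x)
      = (f.1 1)⁻¹ * ∑ y : P, algebraMap (ZMod p) k (a y) * c (y⁻¹ * x) := by
        rw [Finset.mul_sum]
        apply Finset.sum_congr rfl
        intro y _
        ring
    _ = 1 := by rw [h4, inv_mul_cancel₀ hf1]

theorem exists_valuationSubring_prime_nonunit (p : ℕ) [hp : Fact p.Prime] :
    ∃ B : ValuationSubring ℂ, (p : ℂ) ∈ B.nonunits := by
  let A : Subring ℂ := (Int.castRingHom ℂ).range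
  have hpA : (p : ℂ) ∈ A := ⟨(p : ℤ), by simp⟩
  let I : Ideal A := Ideal.span {⟨(p : ℂ), hpA⟩}
  have hI : I ≠ ⊤ := by
    intro h
    rw [Ideal.eq_top_iff_one, Ideal.mem_span_singleton'] at h
    obtain ⟨⟨a, m, rfl⟩, ha⟩ := h
    have h1 : ((m : ℤ) : ℂ) * (p : ℂ) = 1 := by
      have := congrArg Subtype.val ha
      simpa using this
    have h2 : m * (p : ℤ) = 1 := by exact_mod_cast h1
    have h3 : (p : ℤ) ∣ 1 := ⟨m, by rw [← h2]; ring⟩
    have h4 : p ∣ 1 := by exact_mod_cast h3
    exact hp.out.one_lt.ne' (Nat.dvd_one.mp h4)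
  obtain ⟨B, -, hB⟩ := Ideal.image_subset_nonunits_valuationSubring I hI
  refine ⟨B, hB ⟨⟨(p : ℂ), hpA⟩, ?_, rfl⟩⟩
  exact Ideal.subset_span rfl

theorem exists_normalize (B : ValuationSubring ℂ) {ι : Type*} [Fintype ι] (c : ι → ℂ)
    (hc : ∃ i, c i ≠ 0) : ∃ i0, c i0 ≠ 0 ∧ ∀ i, c i / c i0 ∈ B := by
  classical
  obtain ⟨i1, hi1⟩ := hc
  obtain ⟨i0, -, hmax⟩ := Finset.exists_max_image Finset.univ (fun i => B.valuation (c i))
    ⟨i1, Finset.mem_univ _⟩
  have h0 : B.valuation (c i0) ≠ 0 := by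
    intro h
    have h1 := hmax i1 (Finset.mem_univ _)
    rw [h] at h1
    have : B.valuation (c i1) = 0 := le_antisymm h1 zero_le'
    exact hi1 ((Valuation.zero_iff _).mp this)
  refine ⟨i0, fun h => h0 (by rw [h, Valuation.map_zero]), fun i => ?_⟩
  rw [← B.valuation_le_one_iff, Valuation.map_div]
  exact (div_le_one₀ (zero_lt_iff.mpr h0)).mpr (hmax i (Finset.mem_univ _))

theorem exists_conv_sub_one_mem_maximalIdeal {p : ℕ} [hp : Fact p.Prime] (B : ValuationSubring ℂ)
    (hpB : (p : ℂ) ∈ B.nonunits) {P : Type*} [Group P] [Fintype P] (hP : IsPGroup p P)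
    (c : P → B) (x0 : P) (hc : c x0 = 1) :
    ∃ b : P → B, ∀ x : P, ∑ y : P, b y * c (y⁻¹ * x) - 1 ∈ IsLocalRing.maximalIdeal B := by
  classical
  let k := IsLocalRing.ResidueField B
  let res : B →+* k := IsLocalRing.residue B
  have hpk : (p : k) = 0 := by
    obtain ⟨h1, h2⟩ := (ValuationSubring.mem_nonunits_iff_exists_mem_maximalIdeal).mp hpB
    have h3 : ((p : B)) = ⟨(p : ℂ), h1⟩ := by
      apply Subtype.ext
      simp
    have h4 : res (p : B) = 0 := by
      rw [h3]
      exact (IsLocalRing.residue_eq_zero_iff _).mpr h2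
    simpa using h4
  haveI : CharP k p := (CharP.charP_iff_prime_eq_zero hp.out).mpr hpk
  have hc0 : (fun x => res (c x)) ≠ 0 := by
    intro h
    have := congrFun h x0
    simp [hc] at this
  obtain ⟨bk, hbk⟩ := exists_conv_eq_one hP (fun x => res (c x)) hc0
  have hsurj : Function.Surjective res := IsLocalRing.residue_surjective
  choose b hb using fun y => hsurj (bk y)
  refine ⟨b, fun x => ?_⟩
  rw [← IsLocalRing.residue_eq_zero_iff]
  show res _ = 0
  rw [map_sub, map_sum, map_one]
  simp only [map_mul, hb]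
  rw [hbk x, sub_self]

theorem eq_zero_of_unimodular_rel (B : ValuationSubring ℂ) {ι : Type*} [Fintype ι] [DecidableEq ι]
    {E : Type*} [AddCommGroup E] [Module ℂ E] (M : Matrix ι ι B)
    (hM : ∀ i j, M i j - (if i = j then 1 else 0) ∈ IsLocalRing.maximalIdeal B)
    (F : ι → E) (hF : ∀ i, ∑ j, ((M i j : B) : ℂ) • F j = 0) : ∀ j, F j = 0 := by
  let res : B →+* IsLocalRing.ResidueField B := IsLocalRing.residue B
  have h1 : M.map res = 1 := by
    ext i j
    have := (IsLocalRing.residue_eq_zero_iff _).mpr (hM i j)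
    rw [map_sub, sub_eq_zero] at this
    rw [Matrix.map_apply]
    show res (M i j) = _
    rw [this, Matrix.one_apply]
    split_ifs <;> simp
  have h2 : res M.det = 1 := by
    rw [RingHom.map_det, RingHom.mapMatrix_apply, h1, Matrix.det_one]
  have h3 : M.det ≠ 0 := by
    intro h
    rw [h, map_zero] at h2
    exact zero_ne_one h2
  let M' : Matrix ι ι ℂ := M.map B.subtype
  have h4 : M'.det ≠ 0 := by
    have : M'.det = B.subtype M.det := by
      rw [RingHom.map_det, RingHom.mapMatrix_apply]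
    rw [this]
    intro h
    apply h3
    apply Subtype.ext
    simpa using h
  have h5 : M'⁻¹ * M' = 1 := Matrix.nonsing_inv_mul _ (isUnit_iff_ne_zero.mpr h4)
  intro j
  have h6 : ∑ i, (M'⁻¹ * M') j i • F i = 0 := by
    simp only [Matrix.mul_apply, Finset.sum_smul]
    rw [Finset.sum_comm]
    apply Finset.sum_eq_zero
    intro l _
    have : ∀ i, (M'⁻¹ j l * M' l i) • F i = M'⁻¹ j l • (((M l i : B) : ℂ) • F i) := by
      intro i
      rw [smul_smul]
      rfl
    simp only [this]
    rw [← Finset.smul_sum, hF l, smul_zero]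
  rw [h5] at h6
  simpa [Matrix.one_apply, ite_smul] using h6

open Classical in
theorem linearIndependent_of_free_orbits {p : ℕ} [Fact p.Prime] {G : Type*} [Group G]
    (P : Subgroup G) [Fintype P] (hP : IsPGroup p P)
    {Ω : Type*} [Fintype Ω] [MulAction G Ω]
    (q₀ : Ω) (htrans : ∀ q : Ω, ∃ g : G, g • q₀ = q)
    (hfix : ∀ x ∈ P, x • q₀ = q₀)
    (t : Ω → P) (ht : ∀ (x : P) (q : Ω), q ≠ q₀ → t ((x : G) • q) = x * t q)
    {E : Type*} [AddCommGroup E] [Module ℂ E] (F : Ω → E)
    (hRel : ∀ (r : Ω → ℂ) (g : G), ∑ q, r q • F q = 0 → ∑ q, r (g⁻¹ • q) • F q = 0)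
    (hsum : ∑ q, F q = 0)
    (hF0 : F q₀ ≠ 0) :
    LinearIndependent ℂ
      (fun x : P => ∑ q ∈ Finset.univ.filter (fun q => q ≠ q₀ ∧ t q = x), F q) := by
  classical
  rw [Fintype.linearIndependent_iff]
  intro c hc
  by_contra hne
  push Not at hne
  obtain ⟨B, hpB⟩ := exists_valuationSubring_prime_nonunit p
  obtain ⟨x0, hx0, hB⟩ := exists_normalize B c hne
  let cB : P → B := fun x => ⟨c x / c x0, hB x⟩
  have hcB0 : cB x0 = 1 := Subtype.ext (div_self hx0)
  obtain ⟨b, hb⟩ := exists_conv_sub_one_mem_maximalIdeal B hpB hP cB x0 hcB0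
  set v : P → E := fun x => ∑ q ∈ Finset.univ.filter (fun q => q ≠ q₀ ∧ t q = x), F q with hv
  have hcB : ∑ x, ((cB x : B) : ℂ) • v x = 0 := by
    have : ∀ x, ((cB x : B) : ℂ) • v x = (c x0)⁻¹ • (c x • v x) := by
      intro x
      rw [smul_smul]
      congr 1
      show c x / c x0 = _
      rw [div_eq_inv_mul]
    simp only [this]
    rw [← Finset.smul_sum, hc, smul_zero]
  -- the relation vector
  let rc : Ω → ℂ := fun q => if q = q₀ then 0 else ((cB (t q) : B) : ℂ)
  have h_rc : ∑ q, rc q • F q = 0 := by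
    rw [← hcB]
    have h1 : ∑ q, rc q • F q
        = ∑ q ∈ Finset.univ.filter (fun q => q ≠ q₀), ((cB (t q) : B) : ℂ) • F q := by
      rw [Finset.sum_filter]
      apply Finset.sum_congr rfl
      intro q _
      by_cases hq : q = q₀
      · simp [rc, hq]
      · simp [rc, hq]
    rw [h1, ← Finset.sum_fiberwise (Finset.univ.filter (fun q => q ≠ q₀)) t]
    apply Finset.sum_congr rfl
    intro x _
    rw [hv]
    simp only
    rw [Finset.smul_sum, Finset.filter_filter]
    apply Finset.sum_congr rfl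
    intro q hq
    rw [(Finset.mem_filter.mp hq).2.2]
  have h_trans : ∀ y : P, ∀ q, rc ((y : G)⁻¹ • q)
      = if q = q₀ then 0 else ((cB (y⁻¹ * t q) : B) : ℂ) := by
    intro y q
    have hyq : (y : G)⁻¹ • q = q₀ ↔ q = q₀ := by
      rw [inv_smul_eq_iff, hfix y y.2]
    by_cases hq : q = q₀
    · rw [if_pos hq]
      show (if _ then _ else _) = _
      rw [if_pos (hyq.mpr hq)]
    · have h1 : (y : G)⁻¹ • q ≠ q₀ := fun h => hq (hyq.mp h)
      simp only [rc, h1, hq, if_false]
      have := ht y⁻¹ q hq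
      rw [show ((y⁻¹ : P) : G) = (y : G)⁻¹ from rfl] at this
      rw [this]
  have h_rcy : ∀ y : P, ∑ q, rc ((y : G)⁻¹ • q) • F q = 0 := fun y => hRel rc y h_rc
  let r : Ω → B := fun q => if q = q₀ then 1 else 1 - ∑ y, b y * cB (y⁻¹ * t q)
  have h_r_eq : ∀ q, ((r q : B) : ℂ) = 1 - ∑ y : P, ((b y : B) : ℂ) * rc ((y : G)⁻¹ • q) := by
    intro q
    by_cases hq : q = q₀
    · simp [r, hq, h_trans]
    · simp only [r, hq, if_false, h_trans]
      push_cast
      rfl
  have h_r : ∑ q, ((r q : B) : ℂ) • F q = 0 := by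
    simp only [h_r_eq, sub_smul, one_smul, Finset.sum_sub_distrib, hsum, Finset.sum_smul, zero_sub,
      neg_eq_zero]
    rw [Finset.sum_comm]
    apply Finset.sum_eq_zero
    intro y _
    have : ∀ q, (((b y : B) : ℂ) * rc ((y : G)⁻¹ • q)) • F q
        = ((b y : B) : ℂ) • (rc ((y : G)⁻¹ • q) • F q) := fun q => by rw [smul_smul]
    simp only [this]
    rw [← Finset.smul_sum, h_rcy y, smul_zero]
  have h_r_res : ∀ q, r q - (if q = q₀ then 1 else 0) ∈ IsLocalRing.maximalIdeal B := by
    intro q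
    by_cases hq : q = q₀
    · simp [r, hq]
    · simp only [r, hq, if_false, sub_zero]
      have := neg_mem (hb (t q))
      rwa [neg_sub] at this
  choose g hg using htrans
  let M : Matrix Ω Ω B := fun q q' => r ((g q)⁻¹ • q')
  have hM : ∀ q q', M q q' - (if q = q' then 1 else 0) ∈ IsLocalRing.maximalIdeal B := by
    intro q q'
    have := h_r_res ((g q)⁻¹ • q')
    have h1 : ((g q)⁻¹ • q' = q₀) ↔ q = q' := by
      rw [inv_smul_eq_iff, hg q, eq_comm]
    simp only [h1] at this
    exact this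
  have hMF : ∀ q, ∑ q', ((M q q' : B) : ℂ) • F q' = 0 := by
    intro q
    exact hRel (fun q => ((r q : B) : ℂ)) (g q) h_r
  exact hF0 (eq_zero_of_unimodular_rel B M hM F hMF q₀)

theorem exists_linearIndependent_of_free_orbits {p : ℕ} [Fact p.Prime] {G : Type*} [Group G]
    (P : Subgroup G) [Fintype P] (hP : IsPGroup p P)
    {Ω : Type*} [Fintype Ω] [MulAction G Ω]
    (q₀ : Ω) (htrans : ∀ q : Ω, ∃ g : G, g • q₀ = q)
    (hfix : ∀ x ∈ P, x • q₀ = q₀)
    (t : Ω → P) (ht : ∀ (x : P) (q : Ω), q ≠ q₀ → t ((x : G) • q) = x * t q)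
    {E : Type*} [AddCommGroup E] [Module ℂ E] (F : Ω → E)
    (hRel : ∀ (r : Ω → ℂ) (g : G), ∑ q, r q • F q = 0 → ∑ q, r (g⁻¹ • q) • F q = 0)
    (hsum : ∑ q, F q = 0)
    (hF0 : F q₀ ≠ 0) :
    ∃ v : P → E, (∀ x, v x ∈ Submodule.span ℂ (Set.range F)) ∧ LinearIndependent ℂ v := by
  classical
  refine ⟨_, ?_, linearIndependent_of_free_orbits P hP q₀ htrans hfix t ht F hRel hsum hF0⟩
  intro x
  apply Submodule.sum_mem
  intro q _
  exact Submodule.subset_span ⟨q, rfl⟩

theorem exists_equivariant_coord {G : Type*} [Group G] (P : Subgroup G)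
    {Ω : Type*} [MulAction G Ω] (q₀ : Ω) (hfix : ∀ x ∈ P, x • q₀ = q₀)
    (hfree : ∀ x ∈ P, ∀ q : Ω, q ≠ q₀ → x • q = q → x = 1) :
    ∃ t : Ω → P, ∀ (x : P) (q : Ω), q ≠ q₀ → t ((x : G) • q) = x * t q := by
  classical
  let rep : Ω → Ω := fun q => (Quotient.mk'' q : MulAction.orbitRel.Quotient P Ω).out
  have hrep : ∀ q, ∃ x : P, (x : G) • rep q = q := by
    intro q
    have h1 : (Quotient.mk'' (rep q) : MulAction.orbitRel.Quotient P Ω) = Quotient.mk'' q :=
      Quotient.out_eq' _
    have h2 := Quotient.exact' h1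
    rw [MulAction.orbitRel_apply] at h2
    obtain ⟨x, hx⟩ := h2
    refine ⟨x⁻¹, ?_⟩
    rw [← hx]
    show (x⁻¹ : P) • (x • q) = q
    rw [inv_smul_smul]
  choose t ht using hrep
  have hrep_smul : ∀ (y : P) q, rep ((y : G) • q) = rep q := by
    intro y q
    have : (Quotient.mk'' ((y : G) • q) : MulAction.orbitRel.Quotient P Ω) = Quotient.mk'' q := by
      apply Quotient.sound'
      rw [MulAction.orbitRel_apply]
      exact ⟨y, rfl⟩
    show (Quotient.mk'' ((y : G) • q) : MulAction.orbitRel.Quotient P Ω).out = _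
    rw [this]
  refine ⟨t, fun y q hq => ?_⟩
  have h1 : ((t ((y : G) • q) : P) : G) • rep q = ((y * t q : P) : G) • rep q := by
    have := ht ((y : G) • q)
    rw [hrep_smul] at this
    rw [this, Subgroup.coe_mul, mul_smul, ht q]
  have hrq : rep q ≠ q₀ := by
    intro h
    apply hq
    rw [← ht q, h, hfix _ (t q).2]
  have h2 : (((y * t q)⁻¹ * t ((y : G) • q) : P) : G) • rep q = rep q := by
    rw [Subgroup.coe_mul, mul_smul, h1, Subgroup.coe_inv, inv_smul_smul]
  have h3 := hfree _ ((y * t q)⁻¹ * t ((y : G) • q) : P).2 (rep q) hrq h2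
  have h4 : (y * t q)⁻¹ * t ((y : G) • q) = 1 := Subtype.ext h3
  rw [inv_mul_eq_one] at h4
  exact h4.symm

/-- TI Sylow: `P` acts freely on the cosets of its normalizer other than the trivial one. -/
theorem ti_free_on_cosets {G : Type*} [Group G] [Finite G] (p : ℕ) [Fact p.Prime] (P : Sylow p G)
    (hTI : ∀ g : G, g ∉ Subgroup.normalizer ((P : Subgroup G) : Set G) →
      (P : Subgroup G) ⊓ (MulAut.conj g • (P : Subgroup G)) = ⊥)
    (x : G) (hx : x ∈ (P : Subgroup G))
    (q : G ⧸ Subgroup.normalizer ((P : Subgroup G) : Set G))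
    (hq : q ≠ ((1 : G) : G ⧸ Subgroup.normalizer ((P : Subgroup G) : Set G)))
    (hxq : x • q = q) : x = 1 := by
  induction q using Quotient.inductionOn' with
  | _ g =>
  have hg : g ∉ Subgroup.normalizer ((P : Subgroup G) : Set G) := by
    intro h
    apply hq
    apply Eq.symm
    apply (QuotientGroup.eq).mpr
    simpa using h
  have h1 : g⁻¹ * x⁻¹ * g ∈ Subgroup.normalizer ((P : Subgroup G) : Set G) := by
    have : ((x * g : G) : G ⧸ Subgroup.normalizer ((P : Subgroup G) : Set G)) = (g : G ⧸ _) := hxq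
    have := (QuotientGroup.eq).mp this
    simpa [mul_assoc] using this
  have h2 : g⁻¹ * x * g ∈ Subgroup.normalizer ((P : Subgroup G) : Set G) := by
    have := inv_mem h1
    simpa [mul_assoc] using this
  -- the conjugate subgroup
  let R : Subgroup G := MulAut.conj g⁻¹ • (P : Subgroup G)
  have hR : IsPGroup p R := P.2.map _
  have h3 : g⁻¹ * x * g ∈ R := by
    rw [Subgroup.mem_pointwise_smul_iff_inv_smul_mem]
    simp only [MulAut.smul_def, map_inv, inv_inv, MulAut.conj_apply]
    have : g * (g⁻¹ * x * g) * g⁻¹ = x := by group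
    rw [this]
    exact hx
  have h4 : g⁻¹ * x * g ∈ R ⊓ Subgroup.normalizer ((P : Subgroup G) : Set G) := ⟨h3, h2⟩
  replace h4 : g⁻¹ * x * g ∈ R ⊓ (P : Subgroup G) := (hR.inf_normalizer_sylow P).le h4
  have h5 : x ∈ MulAut.conj g • (P : Subgroup G) := by
    rw [Subgroup.mem_pointwise_smul_iff_inv_smul_mem]
    simp only [MulAut.smul_def, MulAut.conj_inv_apply]
    exact h4.2
  have h6 : x ∈ (P : Subgroup G) ⊓ (MulAut.conj g • (P : Subgroup G)) := ⟨hx, h5⟩
  rw [hTI g hg] at h6
  exact (Subgroup.mem_bot).mp h6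

theorem commutant_of_ti_sylow {G : Type*} [Group G] [Finite G] (p : ℕ) [Fact p.Prime]
    (P : Sylow p G)
    (hTI : ∀ g : G, g ∉ Subgroup.normalizer ((P : Subgroup G) : Set G) →
      (P : Subgroup G) ⊓ (MulAut.conj g • (P : Subgroup G)) = ⊥)
    {n : ℕ} (ρ : Representation ℂ G (Fin n → ℂ))
    (hn : n ^ 2 ≤ Nat.card (P : Subgroup G))
    (T : (Fin n → ℂ) →ₗ[ℂ] (Fin n → ℂ))
    (hT : ∀ x ∈ Subgroup.normalizer ((P : Subgroup G) : Set G), ρ x ∘ₗ T ∘ₗ ρ x⁻¹ = T) :
    ∀ g : G, ρ g ∘ₗ T ∘ₗ ρ g⁻¹ = T := by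
  classical
  set N : Subgroup G := Subgroup.normalizer ((P : Subgroup G) : Set G) with hN
  let V := Fin n → ℂ
  let E := V →ₗ[ℂ] V
  let σ : Representation ℂ G E := Representation.linHom ρ ρ
  have hσ : ∀ g (A : E), σ g A = ρ g ∘ₗ A ∘ₗ ρ g⁻¹ := fun g A => Representation.linHom_apply ρ ρ g A
  suffices hs : ∀ g, σ g T = T by
    intro g
    rw [← hσ]
    exact hs g
  have hTN : ∀ x ∈ N, σ x T = T := fun x hx => by rw [hσ]; exact hT x hx
  let Ω := G ⧸ N
  haveI : Fintype Ω := Fintype.ofFinite Ω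
  haveI : Fintype (P : Subgroup G) := Fintype.ofFinite _
  let q₀ : Ω := ((1 : G) : Ω)
  -- the orbit map
  let FT : Ω → E := fun q => Quotient.liftOn' q (fun g => σ g T) (by
    intro a b hab
    rw [QuotientGroup.leftRel_apply] at hab
    have : b = a * (a⁻¹ * b) := by group
    show σ a T = σ b T
    rw [this, map_mul, Module.End.mul_apply, hTN _ hab])
  have hFT_mk : ∀ g : G, FT (g : Ω) = σ g T := fun g => rfl
  have hFT : ∀ (g : G) (q : Ω), FT (g • q) = σ g (FT q) := by
    intro g q
    induction q using Quotient.inductionOn' with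
    | _ a =>
    show FT ((g * a : G) : Ω) = σ g (FT (a : Ω))
    rw [hFT_mk, hFT_mk, map_mul, Module.End.mul_apply]
  have hcard : (Fintype.card Ω : ℂ) ≠ 0 := by
    have : 0 < Fintype.card Ω := Fintype.card_pos_iff.mpr ⟨q₀⟩
    exact_mod_cast this.ne'
  let Tbar : E := (Fintype.card Ω : ℂ)⁻¹ • ∑ q, FT q
  have hTbar : ∀ g, σ g Tbar = Tbar := by
    intro g
    simp only [Tbar, map_smul, map_sum]
    congr 1
    rw [← Equiv.sum_comp (MulAction.toPerm g : Equiv.Perm Ω) FT]
    apply Finset.sum_congr rfl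
    intro q _
    rw [← hFT]
    rfl
  let F : Ω → E := fun q => FT q - Tbar
  have hF : ∀ (g : G) (q : Ω), F (g • q) = σ g (F q) := by
    intro g q
    simp only [F, map_sub, hFT, hTbar]
  have hsum : ∑ q, F q = 0 := by
    simp only [F, Finset.sum_sub_distrib, Finset.sum_const, Finset.card_univ, Tbar]
    rw [← Nat.cast_smul_eq_nsmul ℂ, smul_smul, mul_inv_cancel₀ hcard, one_smul, sub_self]
  have hRel : ∀ (r : Ω → ℂ) (g : G), ∑ q, r q • F q = 0 → ∑ q, r (g⁻¹ • q) • F q = 0 := by
    intro r g h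
    rw [← Equiv.sum_comp (MulAction.toPerm g : Equiv.Perm Ω)]
    have : ∀ q, r (g⁻¹ • (MulAction.toPerm g : Equiv.Perm Ω) q) • F ((MulAction.toPerm g : Equiv.Perm Ω) q)
        = σ g (r q • F q) := by
      intro q
      rw [MulAction.toPerm_apply, inv_smul_smul, hF, map_smul]
    simp only [this]
    rw [← map_sum, h, map_zero]
  -- trace zero
  have htrσ : ∀ g (A : E), LinearMap.trace ℂ V (σ g A) = LinearMap.trace ℂ V A := by
    intro g A
    rw [hσ, LinearMap.trace_comp_comm', LinearMap.comp_assoc, ← Module.End.mul_eq_comp (ρ g⁻¹),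
      ← map_mul, inv_mul_cancel, map_one]
    rfl
  have htrFT : ∀ q, LinearMap.trace ℂ V (FT q) = LinearMap.trace ℂ V T := by
    intro q
    induction q using Quotient.inductionOn' with
    | _ a => exact htrσ a T
  have htrF : ∀ q, LinearMap.trace ℂ V (F q) = 0 := by
    intro q
    simp only [F, Tbar, map_sub, map_smul, map_sum, htrFT, Finset.sum_const, Finset.card_univ,
      smul_eq_mul]
    rw [← Nat.cast_smul_eq_nsmul ℂ, smul_eq_mul, ← mul_assoc, inv_mul_cancel₀ hcard, one_mul,
      sub_self]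
  -- main dichotomy
  have hF0 : F q₀ = 0 := by
    by_contra hne
    have hfix : ∀ x ∈ (P : Subgroup G), x • q₀ = q₀ := by
      intro x hx
      show ((x * 1 : G) : Ω) = ((1 : G) : Ω)
      apply (QuotientGroup.eq).mpr
      have : x ∈ N := Subgroup.le_normalizer hx
      simpa using inv_mem this
    have hfree : ∀ x ∈ (P : Subgroup G), ∀ q : Ω, q ≠ q₀ → x • q = q → x = 1 :=
      fun x hx q hq hxq => ti_free_on_cosets p P hTI x hx q hq hxq
    obtain ⟨t, ht⟩ := exists_equivariant_coord (P : Subgroup G) q₀ hfix hfree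
    have htrans : ∀ q : Ω, ∃ g : G, g • q₀ = q := by
      intro q
      induction q using Quotient.inductionOn' with
      | _ a =>
      refine ⟨a, ?_⟩
      show ((a * 1 : G) : Ω) = _
      rw [mul_one]
    obtain ⟨v, hv, hLI⟩ := exists_linearIndependent_of_free_orbits (P : Subgroup G) P.2 q₀ htrans
      hfix t ht F hRel hsum hne
    -- all vectors lie in the kernel of the trace
    let E₀ : Submodule ℂ E := LinearMap.ker (LinearMap.trace ℂ V)
    have hspan : Submodule.span ℂ (Set.range F) ≤ E₀ := by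
      rw [Submodule.span_le]
      rintro _ ⟨q, rfl⟩
      exact (LinearMap.mem_ker).mpr (htrF q)
    have hLI' : LinearIndependent ℂ (fun x : (P : Subgroup G) => (⟨v x, hspan (hv x)⟩ : E₀)) := by
      apply LinearIndependent.of_comp E₀.subtype
      exact hLI
    have h1 := hLI'.fintype_card_le_finrank
    have h2 : Module.finrank ℂ E = n ^ 2 := by
      rw [Module.finrank_linearMap, Module.finrank_fin_fun, sq]
    have hP1 : 0 < Nat.card (P : Subgroup G) := Nat.card_pos
    rw [Fintype.card_eq_nat_card] at h1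
    by_cases hn0 : n = 0
    · have : Module.finrank ℂ E₀ ≤ Module.finrank ℂ E := Submodule.finrank_le E₀
      rw [h2] at this
      have hn2 : n ^ 2 = 0 := by simp [hn0]
      omega
    · have h3 : E₀ < ⊤ := by
        rw [lt_top_iff_ne_top]
        intro h
        have : (LinearMap.id : E) ∈ E₀ := by rw [h]; trivial
        rw [LinearMap.mem_ker] at this
        have h4 : LinearMap.trace ℂ V (LinearMap.id : E) = (n : ℂ) := by
          rw [← Module.End.one_eq_id, LinearMap.trace_one, Module.finrank_fin_fun]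
        rw [h4] at this
        exact hn0 (by exact_mod_cast this)
      have h5 := Submodule.finrank_lt h3.ne
      rw [h2] at h5
      omega
  have hTbar_eq : T = Tbar := by
    have : FT q₀ - Tbar = 0 := hF0
    have h1 : FT q₀ = σ 1 T := rfl
    rw [h1, map_one, Module.End.one_apply, sub_eq_zero] at this
    exact this
  intro g
  rw [hTbar_eq]
  exact hTbar g

end Cfsg.Agent.Helper4
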