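import Mathlib
import Cfsg.Prelude.Def_CaseTheorems

/-!
# Groups with a cyclic subgroup of index two whose outer elements have tiny centralizers in it
(dihedral and quasi-dihedral groups): four-subgroups are self-centralizing.  (helper4)
-/

set_option autoImplicit false
set_option linter.style.haveILetI false
set_option linter.unusedSimpArgs false

namespace Cfsg.Agent.Helper4


/-- A group with a cyclic subgroup `C` of index two such that elements of `C` commuting with an
element outside `C` have square one. -/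
def HasThinCyclicIndexTwo (X : Type*) [Group X] : Prop :=
  ∃ C : Subgroup X, C.index = 2 ∧ IsCyclic C ∧ ∀ v : X, v ∉ C → ∀ c ∈ C, c * v = v * c → c * c = 1

theorem card_sq_eq_one_le_two {X : Type*} [Group X] [Finite X] (C : Subgroup X) (hC : IsCyclic C)
    (D : Subgroup X) (hDC : D ≤ C) (hD : ∀ a ∈ D, a * a = 1) : Nat.card D ≤ 2 := by
  classical
  haveI := Fintype.ofFinite C
  have h1 := IsCyclic.card_pow_eq_one_le (α := C) (n := 2) (by norm_num)
  have h2 : Nat.card D ≤ Nat.card {a : C // a ^ 2 = 1} := by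
    apply Nat.card_le_card_of_injective
      (fun d : D => (⟨⟨d.1, hDC d.2⟩, by
        apply Subtype.ext
        simp only [Subgroup.coe_pow, Subgroup.coe_one, pow_two]
        exact hD d.1 d.2⟩ : {a : C // a ^ 2 = 1}))
    intro a b hab
    apply Subtype.ext
    have := congrArg (fun z : {a : C // a ^ 2 = 1} => (z.1 : X)) hab
    exact this
  have h3 : Nat.card {a : C // a ^ 2 = 1} = (Finset.univ.filter (fun a : C => a ^ 2 = 1)).card := by
    rw [Nat.card_eq_fintype_card, Fintype.card_subtype]
  rw [h3] at h2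
  exact h2.trans h1

theorem four_self_centralizing {X : Type*} [Group X] [Finite X] (hX : HasThinCyclicIndexTwo X)
    (V : Subgroup X) (hV4 : Nat.card V = 4) (hV2 : ∀ a ∈ V, a * a = 1)
    (hVab : ∀ a ∈ V, ∀ b ∈ V, a * b = b * a) :
    Subgroup.centralizer (V : Set X) = V := by
  classical
  obtain ⟨C, hC2, hCcyc, hCv⟩ := hX
  -- an element of V outside C
  have h1 : ∃ v ∈ V, v ∉ C := by
    by_contra h
    push Not at h
    have := card_sq_eq_one_le_two C hCcyc V h hV2
    omega
  obtain ⟨v, hvV, hvC⟩ := h1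
  set Z := Subgroup.centralizer (V : Set X) with hZ
  have hVZ : V ≤ Z := by
    intro a ha
    rw [hZ, Subgroup.mem_centralizer_iff]
    intro b hb
    exact hVab b hb a ha
  have hZC : Nat.card (Z ⊓ C : Subgroup X) ≤ 2 := by
    apply card_sq_eq_one_le_two C hCcyc _ inf_le_right
    intro c hc
    apply hCv v hvC c hc.2
    have := (Subgroup.mem_centralizer_iff.mp hc.1) v hvV
    exact this.symm
  haveI : C.Normal := Subgroup.normal_of_index_eq_two hC2
  have hrel : C.relIndex Z ∣ 2 := by
    rw [← hC2]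
    exact Subgroup.relIndex_dvd_index_of_normal C Z
  have hcard : Nat.card Z = Nat.card (Z ⊓ C : Subgroup X) * C.relIndex Z := by
    rw [inf_comm, ← Subgroup.inf_relIndex_right C Z, inf_comm]
    have := Subgroup.card_mul_index ((Z ⊓ C).subgroupOf Z)
    rw [← this]
    congr 1
    exact Nat.card_congr (Subgroup.subgroupOfEquivOfLe inf_le_left).toEquiv
  have hZ4 : Nat.card Z ≤ 4 := by
    have h2 : C.relIndex Z ≤ 2 := Nat.le_of_dvd (by norm_num) hrel
    calc Nat.card Z = Nat.card (Z ⊓ C : Subgroup X) * C.relIndex Z := hcard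
      _ ≤ 2 * 2 := Nat.mul_le_mul hZC h2
  exact (Subgroup.eq_of_le_of_card_ge hVZ (by omega)).symm


theorem hasThin_of_mulEquiv {X Y : Type*} [Group X] [Group Y] (e : X ≃* Y)
    (hY : HasThinCyclicIndexTwo Y) : HasThinCyclicIndexTwo X := by
  obtain ⟨C, h2, hcyc, hv⟩ := hY
  refine ⟨C.comap e.toMonoidHom, ?_, ?_, ?_⟩
  · rw [Subgroup.index_comap_of_surjective C e.surjective]
    exact h2
  · have e' : (C.comap e.toMonoidHom) ≃* C := (e.subgroupMap (C.comap e.toMonoidHom)).trans
      (MulEquiv.subgroupCongr (by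
        ext y
        simp only [Subgroup.mem_map, Subgroup.mem_comap]
        constructor
        · rintro ⟨x, hx, rfl⟩
          exact hx
        · intro hy
          exact ⟨e.symm y, by simpa using hy, by simp⟩))
    exact isCyclic_of_surjective e'.symm e'.symm.surjective
  · intro v hvC c hc hcv
    have h1 : e v ∉ C := hvC
    have h2' : e c ∈ C := hc
    have h3 : e c * e v = e v * e c := by rw [← map_mul, ← map_mul, hcv]
    have h4 := hv (e v) h1 (e c) h2' h3
    apply e.injective
    rw [map_mul, h4, map_one]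

theorem hasThin_dihedral (m : ℕ) (hm : 2 ≤ m) : HasThinCyclicIndexTwo (DihedralGroup m) := by
  haveI : NeZero m := ⟨by omega⟩
  refine ⟨Subgroup.zpowers (DihedralGroup.r 1), ?_, ?_, ?_⟩
  · have h1 : Nat.card (Subgroup.zpowers (DihedralGroup.r (1 : ZMod m))) = m := by
      rw [Nat.card_zpowers, DihedralGroup.orderOf_r_one]
    have h2 := Subgroup.card_mul_index (Subgroup.zpowers (DihedralGroup.r (1 : ZMod m)))
    rw [h1, DihedralGroup.nat_card] at h2
    have : 0 < m := by omega
    nlinarith
  · infer_instance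
  · intro v hv c hc hcv
    have hr : ∀ i : ZMod m, DihedralGroup.r i ∈ Subgroup.zpowers (DihedralGroup.r (1 : ZMod m)) := by
      intro i
      refine ⟨(i.val : ℤ), ?_⟩
      simp
    cases v with
    | r i => exact absurd (hr i) hv
    | sr i =>
      cases c with
      | r j =>
        simp only [DihedralGroup.r_mul_sr, DihedralGroup.sr_mul_r, DihedralGroup.sr.injEq] at hcv
        simp only [DihedralGroup.r_mul_r, DihedralGroup.one_def, DihedralGroup.r.injEq]
        have : j + j = (i + j) - (i - j) := by ring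
        rw [this, hcv, sub_self]
      | sr j =>
        exfalso
        obtain ⟨k, hk⟩ := hc
        simp only [DihedralGroup.r_one_zpow] at hk
        cases hk


theorem hasThin_quasiDihedral {X : Type*} [Group X] [Finite X] (hX : Cfsg.IsQuasiDihedral X) :
    HasThinCyclicIndexTwo X := by
  obtain ⟨n, hn, hcard, x, y, hx, hy, hxy⟩ := hX
  set k := 2 ^ (n - 1) - 1 with hk
  have hpow : 2 ^ n = 2 * 2 ^ (n - 1) := by
    rw [← pow_succ']
    congr 1
    omega
  have hpow2 : 2 ^ (n - 1) = 2 * 2 ^ (n - 2) := by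
    rw [← pow_succ']
    congr 1
    omega
  have h4 : 1 ≤ 2 ^ (n - 2) := Nat.one_le_two_pow
  have h4' : 2 ≤ 2 ^ (n - 2) := by
    have : 2 ^ 1 ≤ 2 ^ (n - 2) := Nat.pow_le_pow_right (by norm_num) (by omega)
    simpa using this
  set C := Subgroup.zpowers x with hC
  have hCcard : Nat.card C = 2 ^ n := by rw [hC, Nat.card_zpowers, hx]
  have hyy : y * y = 1 := by
    rw [← pow_two, ← hy, pow_orderOf_eq_one]
  have hyinv : y⁻¹ = y := inv_eq_of_mul_eq_one_left hyy
  have hCcomm : ∀ a ∈ C, ∀ b ∈ C, a * b = b * a := by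
    intro a ha b hb
    obtain ⟨i, rfl⟩ := ha
    obtain ⟨j, rfl⟩ := hb
    exact (zpow_mul_comm x i j)
  have hyC : y ∉ C := by
    intro h
    have h1 : y * x * y⁻¹ = x := by
      rw [hCcomm y h x (Subgroup.mem_zpowers x), mul_inv_cancel_right]
    rw [h1] at hxy
    have h2 : x ^ 1 = x ^ k := by rw [pow_one]; exact hxy
    rw [pow_eq_pow_iff_modEq, hx] at h2
    have h3 : k < 2 ^ n := by omega
    have h5 : 1 < 2 ^ n := by omega
    rw [Nat.ModEq, Nat.mod_eq_of_lt h5, Nat.mod_eq_of_lt h3] at h2
    omega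
  have hconj : ∀ c ∈ C, y * c * y⁻¹ = c ^ k := by
    intro c hc
    obtain ⟨j, rfl⟩ := hc
    rw [← conj_zpow, hxy, ← zpow_natCast, ← zpow_natCast, ← zpow_mul, ← zpow_mul, mul_comm]
  refine ⟨C, ?_, ?_, ?_⟩
  · have h2 := Subgroup.card_mul_index C
    rw [hCcard, hcard, pow_succ] at h2
    have : 0 < 2 ^ n := by positivity
    nlinarith
  · rw [hC]; infer_instance
  · intro v hv c hc hcv
    have hidx : C.index = 2 := by
      have h2 := Subgroup.card_mul_index C
      rw [hCcard, hcard, pow_succ] at h2
      have : 0 < 2 ^ n := by positivity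
      nlinarith
    have hvy : v * y ∈ C := by
      rw [Subgroup.mul_mem_iff_of_index_two hidx]
      exact ⟨fun h => absurd h hv, fun h => absurd h hyC⟩
    set c' := v * y with hc'
    have hv' : v = c' * y := by
      rw [hc', mul_assoc, hyy, mul_one]
    -- c commutes with y
    have hcy : c * y = y * c := by
      rw [hv'] at hcv
      have h1 : c' * (c * y) = c' * (y * c) := by
        calc c' * (c * y) = c * c' * y := by rw [← mul_assoc, hCcomm c' hvy c hc]
          _ = c' * y * c := by rw [mul_assoc, hcv]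
          _ = c' * (y * c) := by rw [mul_assoc]
      exact mul_left_cancel h1
    have hck : c ^ k = c := by
      rw [← hconj c hc, ← hcy, mul_inv_cancel_right]
    have hck1 : c ^ (k - 1) = 1 := by
      have hk1 : k = (k - 1) + 1 := by omega
      rw [hk1, pow_succ] at hck
      exact mul_eq_right.mp hck
    have hd1 : orderOf c ∣ k - 1 := orderOf_dvd_of_pow_eq_one hck1
    have hd2 : orderOf c ∣ 2 ^ n := by
      have := orderOf_dvd_natCard (⟨c, hc⟩ : C)
      rw [hCcard] at this
      rwa [← Subgroup.orderOf_mk c hc]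
    obtain ⟨i, -, hi⟩ := (Nat.dvd_prime_pow Nat.prime_two).mp hd2
    have hk2 : k - 1 = 2 * (2 ^ (n - 2) - 1) := by omega
    have hodd : Nat.Coprime (2 ^ i) (2 ^ (n - 2) - 1) := by
      apply Nat.Coprime.pow_left
      rw [Nat.coprime_two_left]
      have : 2 ^ (n - 2) = 2 * 2 ^ (n - 3) := by
        rw [← pow_succ']
        congr 1
        omega
      rw [this]
      refine ⟨2 ^ (n - 3) - 1, ?_⟩
      have : 1 ≤ 2 ^ (n - 3) := Nat.one_le_two_pow
      omega
    rw [hi, hk2] at hd1
    have hd3 : 2 ^ i ∣ 2 := hodd.dvd_of_dvd_mul_right hd1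
    rw [← hi] at hd3
    rw [← pow_two]
    exact orderOf_dvd_iff_pow_eq_one.mp hd3


end Cfsg.Agent.Helper4
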