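-- helper4: pieces (C1) `autP_factor` and (C2) `wEmb_factor` of board post 5473 for helper86
-- (S5271): the predicates `AutP` and `WEmb` pass to a factor system by a strongly closed subgroup
-- of order `p ^ t`, with `k` replaced by `k - t`.
import Mathlib
import Cfsg.Agent.Helper86.WEDefs
import Cfsg.Agent.Helper87.FusionSolv

set_option autoImplicit false
set_option linter.unusedVariables false

namespace Cfsg.Agent.Helper4.WE

open Cfsg Cfsg.FusionSystem Cfsg.Agent.Helper86.WE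

variable {Ω : Type*} [Group Ω] {S : Subgroup Ω}

/-- The order of a full preimage along `θ` with kernel `T`. -/
theorem card_preimageAlong {Ω' : Type*} [Group Ω'] (θ : S →* Ω') {T : Subgroup Ω} (hTS : T ≤ S)
    (hker : ∀ s : S, θ s = 1 ↔ (s : Ω) ∈ T) {P' : Subgroup Ω'} (hP' : P' ≤ θ.range) :
    Nat.card (preimageAlong θ P') = Nat.card P' * Nat.card T := by
  unfold preimageAlong
  rw [Subgroup.card_map_of_injective S.subtype_injective]
  have hψ : Function.Surjective (θ.subgroupComap P') := by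
    rintro ⟨y, hy⟩
    obtain ⟨s, rfl⟩ := hP' hy
    exact ⟨⟨s, hy⟩, rfl⟩
  have h1 := Subgroup.card_eq_card_quotient_mul_card_subgroup (θ.subgroupComap P').ker
  have h2 : Nat.card (↥(P'.comap θ) ⧸ (θ.subgroupComap P').ker) = Nat.card P' :=
    Nat.card_congr (QuotientGroup.quotientKerEquivOfSurjective (θ.subgroupComap P') hψ).toEquiv
  have h3 : Nat.card (θ.subgroupComap P').ker = Nat.card T := by
    apply Nat.card_congr
    exact
      { toFun := fun s => ⟨(((s : ↥(P'.comap θ)) : S) : Ω),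
          (hker ((s : ↥(P'.comap θ)) : S)).mp
            (congrArg Subtype.val (MonoidHom.mem_ker.mp s.2))⟩
        invFun := fun t => ⟨⟨⟨(t : Ω), hTS t.2⟩, by
            rw [Subgroup.mem_comap, (hker _).mpr t.2]
            exact one_mem _⟩, by
            rw [MonoidHom.mem_ker]
            exact Subtype.ext ((hker _).mpr t.2)⟩
        left_inv := fun _ => rfl
        right_inv := fun _ => rfl }
  rw [h1, h2, h3]

/-- **(C2)** -/
theorem wEmb_factor [Finite S] {p : ℕ} [Fact p.Prime] (hS : IsPGroup p S) (F : FusionSystem S)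
    (hF : F.IsSaturated p) {T : Subgroup Ω} (hT : F.StronglyClosed T) {Ω' : Type*} [Group Ω']
    {S' : Subgroup Ω'} (θ : S →* Ω') (E : FusionSystem S') (hE : F.IsFactorSystem T θ E) (k t : ℕ)
    (hTc : Nat.card T = p ^ t) (htk : t ≤ k) (hW : WEmb p F k) : WEmb p E (k - t) := by
  intro Q' hQ'S' hQ'c
  have hker := hE.2.1
  have hrange := hE.2.2.1
  have hQ'r : Q' ≤ θ.range := by rw [hrange]; exact hQ'S'
  have hQS : preimageAlong θ Q' ≤ S := Helper85.preimageAlong_le θ Q'
  have hQc : Nat.card (preimageAlong θ Q') = p ^ k := by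
    rw [card_preimageAlong θ hT.1 hker hQ'r, hQ'c, hTc, ← pow_add, Nat.sub_add_cancel htk]
  obtain ⟨P, hP, hsup, hinf⟩ := hW _ hQS hQc
  refine ⟨imageAlong θ P, Helper87.stronglyClosed_imageAlong hS F hF hT θ E hE hP, ?_, ?_⟩
  · have h1 := Helper87.stronglyClosed_imageAlong hS F hF hT θ E hE hsup
    have e : imageAlong θ (preimageAlong θ Q' ⊔ P) = Q' ⊔ imageAlong θ P := by
      have e1 := Helper85.imageAlong_preimageAlong θ hQ'r
      unfold imageAlong at e1 ⊢
      rw [Subgroup.subgroupOf_sup hQS hP.1, Subgroup.map_sup, e1]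
    rwa [e] at h1
  · have h1 := Helper87.stronglyClosed_imageAlong hS F hF hT θ E hE hinf
    have e : imageAlong θ (preimageAlong θ Q' ⊓ P) = Q' ⊓ imageAlong θ P := by
      ext y
      rw [Helper85.mem_imageAlong, Subgroup.mem_inf, Helper85.mem_imageAlong]
      constructor
      · rintro ⟨s, hs, rfl⟩
        exact ⟨((Helper85.mem_preimageAlong θ Q' _).mp hs.1).2, s, hs.2, rfl⟩
      · rintro ⟨hy, s, hs, rfl⟩
        exact ⟨s, ⟨(Helper85.mem_preimageAlong θ Q' _).mpr ⟨s.2, hy⟩, hs⟩, rfl⟩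
    rwa [e] at h1

/-- **(C1)** -/
theorem autP_factor [Finite S] {p : ℕ} [Fact p.Prime] (hS : IsPGroup p S) (F : FusionSystem S)
    (hF : F.IsSaturated p) {T : Subgroup Ω} (hT : F.StronglyClosed T) {Ω' : Type*} [Group Ω']
    {S' : Subgroup Ω'} (θ : S →* Ω') (E : FusionSystem S') (hE : F.IsFactorSystem T θ E) (k t : ℕ)
    (hTc : Nat.card T = p ^ t) (htk : t ≤ k) (hA : AutP p F k) : AutP p E (k - t) := by
  intro R' hR'S' hR'c
  have hker := hE.2.1
  have hrange := hE.2.2.1
  have hR'r : R' ≤ θ.range := by rw [hrange]; exact hR'S'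
  have hRS : preimageAlong θ R' ≤ S := Helper85.preimageAlong_le θ R'
  have hRc : p ^ k ≤ Nat.card (preimageAlong θ R') := by
    rw [card_preimageAlong θ hT.1 hker hR'r, hTc]
    calc p ^ k = p ^ (k - t) * p ^ t := by rw [← pow_add, Nat.sub_add_cancel htk]
      _ ≤ Nat.card R' * p ^ t := Nat.mul_le_mul_right _ hR'c
  have hAR := hA _ hRS hRc
  rintro ⟨α', hα'⟩
  have hα'iso : R'.subtype.comp (α' : R' ≃* R').toMonoidHom ∈ E.Hom R' :=
    (Helper87.mem_autGroup_iff E hR'S' α').mp hα'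
  obtain ⟨-, φ, hφ, hRS', hφS, hR'mem, hind⟩ := (hE.2.2.2 R' _).mp hα'iso
  -- `φ` maps `R` into `R`
  have hφR : ∀ x : preimageAlong θ R', φ x ∈ preimageAlong θ R' := by
    intro x
    rw [Helper85.mem_preimageAlong]
    refine ⟨hφS x, ?_⟩
    rw [← hind x]
    exact (α' _).2
  have hfin : Finite ↥(preimageAlong θ R') :=
    Finite.of_injective (Subgroup.inclusion hRS) (Subgroup.inclusion_injective hRS)
  have hinj : Function.Injective (φ.codRestrict (preimageAlong θ R') hφR) := by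
    intro x y hxy
    exact F.injective_of_mem hφ (congrArg Subtype.val hxy)
  have hbij : Function.Bijective (φ.codRestrict (preimageAlong θ R') hφR) :=
    ⟨hinj, Finite.surjective_of_injective hinj⟩
  have hαF : (MulEquiv.ofBijective (φ.codRestrict (preimageAlong θ R') hφR) hbij :
      MulAut ↥(preimageAlong θ R')) ∈ F.autGroup (preimageAlong θ R') :=
    (Helper87.mem_autGroup_iff F hRS _).mpr (Helper87.mem_of_eq F hφ (fun x => rfl))
  obtain ⟨m, hm⟩ := hAR ⟨_, hαF⟩
  have hm' : (MulEquiv.ofBijective (φ.codRestrict (preimageAlong θ R') hφR) hbij :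
      MulAut ↥(preimageAlong θ R')) ^ (p ^ m) = 1 := congrArg Subtype.val hm
  -- the projection `R → R'`
  have h1 : ∀ x : preimageAlong θ R',
      α' ⟨θ ⟨x, hRS' x.2⟩, hR'mem x⟩ =
        ⟨θ ⟨((MulEquiv.ofBijective (φ.codRestrict (preimageAlong θ R') hφR) hbij :
          MulAut ↥(preimageAlong θ R')) x : Ω), hRS' (hφR x)⟩, hR'mem ⟨φ x, hφR x⟩⟩ := by
    intro x
    exact Subtype.ext (hind x)
  have hpow : ∀ (j : ℕ) (x : preimageAlong θ R'),
      (α' ^ j) ⟨θ ⟨x, hRS' x.2⟩, hR'mem x⟩ =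
        ⟨θ ⟨(((MulEquiv.ofBijective (φ.codRestrict (preimageAlong θ R') hφR) hbij :
          MulAut ↥(preimageAlong θ R')) ^ j) x : Ω), hRS' (Subtype.property _)⟩,
          hR'mem _⟩ := by
    intro j
    induction j with
    | zero => intro x; rfl
    | succ j ih =>
      intro x
      rw [pow_succ', pow_succ', MulAut.mul_apply, MulAut.mul_apply, ih]
      exact h1 _
  refine ⟨m, Subtype.ext ?_⟩
  show α' ^ (p ^ m) = 1
  ext y
  have hy : (y : Ω') ∈ θ.range := hR'r y.2
  obtain ⟨s, hs⟩ := hy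
  have hsR : (s : Ω) ∈ preimageAlong θ R' :=
    (Helper85.mem_preimageAlong θ R' _).mpr ⟨s.2, by rw [hs]; exact y.2⟩
  have e : y = ⟨θ ⟨((⟨s, hsR⟩ : preimageAlong θ R') : Ω), hRS' hsR⟩, hR'mem ⟨s, hsR⟩⟩ :=
    Subtype.ext hs.symm
  rw [e, hpow (p ^ m) ⟨s, hsR⟩, hm']
  rfl

end Cfsg.Agent.Helper4.WE
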