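import Mathlib
import Cfsg.Prelude.Def_Transfer
import Cfsg.Agent.Helper21.WardDefs

set_option autoImplicit false

namespace Cfsg.Agent.Helper4.WardW11

open Subgroup Cfsg.Agent.Helper21.Ward

universe u

theorem ward_of_ambient (hW : WardAmbientStmt.{u}) {G : Type u} [Group G] [Finite G]
    (hG : Group.IsSolvable G) {p : ℕ} (hp : p.Prime) (A : Subgroup (MulAut G))
    (hA : Cfsg.IsElementaryAbelian p A) (hcard : Nat.card A = p ^ 2)
    (hfpf : ∀ g : G, (∀ a ∈ A, a g = g) → g = 1) :
    ∃ N : Subgroup G, N.Normal ∧ (∃ k : ℕ, N.lowerCentralSeries k = ⊥) ∧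
      ∃ k : ℕ, (⊤ : Subgroup G).lowerCentralSeries k ≤ N := by
  have : Fact p.Prime := ⟨hp⟩
  have hAfin : Finite A :=
    Nat.finite_of_card_ne_zero (by rw [hcard]; exact pow_ne_zero _ hp.ne_zero)
  have hfinH : Finite (G ⋊[A.subtype] A) :=
    Finite.of_equiv _ (SemidirectProduct.equivProd (φ := A.subtype)).symm
  have hinl : Function.Injective (SemidirectProduct.inl : G →* G ⋊[A.subtype] A) :=
    SemidirectProduct.inl_injective
  have hinr : Function.Injective (SemidirectProduct.inr : A →* G ⋊[A.subtype] A) :=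
    SemidirectProduct.inr_injective
  have hEA : Helper48.IsEA2 p (SemidirectProduct.inr : A →* G ⋊[A.subtype] A).range := by
    refine ⟨?_, ?_, ?_⟩
    · rintro _ ⟨a, rfl⟩ _ ⟨b, rfl⟩
      rw [← map_mul, ← map_mul]
      congr 1
      exact hA.1.is_comm.comm a b
    · rintro _ ⟨a, rfl⟩
      rw [← map_pow]
      have h1 : a ^ p = 1 := Subtype.ext (by simpa using hA.2 a a.2)
      rw [h1, map_one]
    · rw [← Nat.card_congr (MonoidHom.ofInjective hinr).toEquiv, hcard]
  have hGn : (SemidirectProduct.inl : G →* G ⋊[A.subtype] A).range.Normal := by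
    rw [SemidirectProduct.range_inl_eq_ker_rightHom]
    infer_instance
  have hsup : (SemidirectProduct.inl : G →* G ⋊[A.subtype] A).range ⊔
      (SemidirectProduct.inr : A →* G ⋊[A.subtype] A).range = ⊤ := by
    rw [eq_top_iff]
    intro h _
    rw [← SemidirectProduct.inl_left_mul_inr_right h]
    exact Subgroup.mul_mem_sup ⟨_, rfl⟩ ⟨_, rfl⟩
  have hsolv : Group.IsSolvable (SemidirectProduct.inl : G →* G ⋊[A.subtype] A).range := by
    have := hG
    exact Group.isSolvable_of_surjective
      (f := (SemidirectProduct.inl : G →* G ⋊[A.subtype] A).rangeRestrict)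
      (MonoidHom.rangeRestrict_surjective _)
  have hpG : ¬ p ∣ Nat.card (SemidirectProduct.inl : G →* G ⋊[A.subtype] A).range := by
    rw [← Nat.card_congr (MonoidHom.ofInjective hinl).toEquiv]
    have hAp : IsPGroup p A := IsPGroup.of_card hcard
    have h1 := hAp.card_modEq_card_fixedPoints G
    have hfix : MulAction.fixedPoints A G = {1} := by
      ext g
      constructor
      · intro hg
        rw [Set.mem_singleton_iff]
        apply hfpf
        intro a ha
        exact hg ⟨a, ha⟩
      · rintro rfl a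
        exact smul_one a
    rw [hfix] at h1
    intro hdvd
    have h2 : Nat.card G % p = 0 := Nat.mod_eq_zero_of_dvd hdvd
    have h3 : Nat.card (({1} : Set G)) = 1 := by simp
    rw [h3] at h1
    have h4 : Nat.card G % p = 1 % p := h1
    rw [h2, Nat.mod_eq_of_lt hp.one_lt] at h4
    exact absurd h4 (by norm_num)
  have hcent : (SemidirectProduct.inl : G →* G ⋊[A.subtype] A).range ⊓
      centralizer ((SemidirectProduct.inr : A →* G ⋊[A.subtype] A).range : Set (G ⋊[A.subtype] A))
        = ⊥ := by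
    rw [eq_bot_iff]
    rintro x ⟨⟨g, rfl⟩, hx⟩
    rw [Subgroup.mem_bot]
    have hg : g = 1 := by
      apply hfpf
      intro a ha
      have h2 := hx (SemidirectProduct.inr ⟨a, ha⟩) ⟨_, rfl⟩
      have h3 := SemidirectProduct.inl_aut (φ := A.subtype) ⟨a, ha⟩ g
      apply hinl
      show SemidirectProduct.inl ((A.subtype ⟨a, ha⟩) g) = SemidirectProduct.inl g
      rw [h3, h2, mul_assoc, ← map_mul, mul_inv_cancel, map_one, mul_one]
    rw [hg, map_one]
  obtain ⟨N', hN'n, hN'G, ⟨k1, hk1⟩, ⟨k2, hk2⟩⟩ :=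
    hW (G ⋊[A.subtype] A) p _ _ hEA hGn hsup hsolv hpG hcent
  refine ⟨N'.comap (SemidirectProduct.inl : G →* G ⋊[A.subtype] A), hN'n.comap _,
    ⟨k1, ?_⟩, ⟨k2, ?_⟩⟩
  · have hmap : (N'.comap (SemidirectProduct.inl : G →* G ⋊[A.subtype] A)).map
        SemidirectProduct.inl = N' := Subgroup.map_comap_eq_self hN'G
    have h4 := Subgroup.map_lowerCentralSeries
      (N'.comap (SemidirectProduct.inl : G →* G ⋊[A.subtype] A))
      (SemidirectProduct.inl : G →* G ⋊[A.subtype] A) k1
    rw [hmap, hk1] at h4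
    exact (Subgroup.map_eq_bot_iff_of_injective _ hinl).1 h4
  · rw [← Subgroup.map_le_iff_le_comap, Subgroup.map_lowerCentralSeries, ← MonoidHom.range_eq_map]
    exact hk2

end Cfsg.Agent.Helper4.WardW11
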